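/-
An involution `t` acting on a perfect group `A` such that the fixed points of `t` on an invariant
Sylow 2-subgroup form a cyclic group of order four: the basic set-up.
-/
import Cfsg.Agent.PGroups.Basic
import Cfsg.Agent.PGroups.Bounds
import Cfsg.Agent.Blocks.ZStar
import Cfsg.Agent.Components.Cores
import Cfsg.Agent.Components.PComponents
import Cfsg.Agent.Transfer.ThompsonTransfer
import Cfsg.Agent.Transfer.FittingPower
import Cfsg.Agent.Transfer.Fusion
import Cfsg.Agent.Transfer.Basic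
import Cfsg.Prelude.Def_TwoFusion

set_option autoImplicit false
set_option linter.style.haveILetI false
set_option linter.unusedSectionVars false

namespace Cfsg.Lib.FourFixed

open Subgroup

universe v

/-- The set-up. -/
structure Conf (H : Type v) [Group H] [Finite H] where
  A : Subgroup H
  nA : A.Normal
  perf : ⁅A, A⁆ = A
  idx : A.index = 2
  core : ∀ N : Subgroup H, N.Normal → N ≤ A → Odd (Nat.card N) → N = ⊥
  S : Sylow 2 H
  t : H
  tS : t ∈ (S : Subgroup H)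
  tA : t ∉ A
  tt : t * t = 1
  u : H
  uA : u ∈ A
  uS : u ∈ (S : Subgroup H)
  u2 : u * u ≠ 1
  u4 : u * u * (u * u) = 1
  ut : u * t = t * u
  fix : ∀ x ∈ A, x ∈ (S : Subgroup H) → t * x = x * t →
    x = 1 ∨ x = u ∨ x = u * u ∨ x = u * u * u
  sylC : ∀ D : Subgroup H, IsPGroup 2 D → D ≤ A → (∀ d ∈ D, t * d = d * t) → Nat.card D ≤ 4

variable {H : Type v} [Group H] [Finite H] (c : Conf H)

/-- The Sylow 2-subgroup of `A`. -/
def Conf.T : Subgroup H := c.A ⊓ (c.S : Subgroup H)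

/-- The involution fixed by `t`. -/
def Conf.z : H := c.u * c.u

/-- Conjugation by `t`. -/
def Conf.al (x : H) : H := c.t * x * c.t

theorem Conf.tinv : c.t⁻¹ = c.t := inv_eq_of_mul_eq_one_right c.tt

theorem Conf.al_mul (x y : H) : c.al (x * y) = c.al x * c.al y := by
  show c.t * (x * y) * c.t = c.t * x * c.t * (c.t * y * c.t)
  rw [show c.t * x * c.t * (c.t * y * c.t) = c.t * x * (c.t * c.t) * y * c.t by group, c.tt]
  group

theorem Conf.al_al (x : H) : c.al (c.al x) = x := by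
  show c.t * (c.t * x * c.t) * c.t = x
  rw [show c.t * (c.t * x * c.t) * c.t = (c.t * c.t) * x * (c.t * c.t) by group, c.tt, one_mul, mul_one]

theorem Conf.al_one : c.al 1 = 1 := by
  show c.t * 1 * c.t = 1
  rw [mul_one, c.tt]

theorem Conf.al_inv (x : H) : c.al x⁻¹ = (c.al x)⁻¹ := by
  show c.t * x⁻¹ * c.t = (c.t * x * c.t)⁻¹
  rw [mul_inv_rev, mul_inv_rev, c.tinv, mul_assoc]

theorem Conf.al_pow (x : H) (n : ℕ) : c.al (x ^ n) = c.al x ^ n := by
  induction n with
  | zero => simp [c.al_one]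
  | succ n ih => rw [pow_succ, c.al_mul, ih, pow_succ]

theorem Conf.al_zpow (x : H) (n : ℤ) : c.al (x ^ n) = c.al x ^ n := by
  cases n with
  | ofNat n => simp [c.al_pow]
  | negSucc n => simp [zpow_negSucc, c.al_inv, c.al_pow]

theorem Conf.al_eq_iff (x : H) : c.al x = x ↔ c.t * x = x * c.t := by
  show c.t * x * c.t = x ↔ _
  constructor
  · intro h
    calc c.t * x = c.t * x * (c.t * c.t) := by rw [c.tt, mul_one]
      _ = c.t * x * c.t * c.t := by group
      _ = x * c.t := by rw [h]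
  · intro h
    rw [h, mul_assoc, c.tt, mul_one]

theorem Conf.mem_T {x : H} : x ∈ c.T ↔ x ∈ c.A ∧ x ∈ (c.S : Subgroup H) := Iff.rfl

theorem Conf.u_mem : c.u ∈ c.T := ⟨c.uA, c.uS⟩

theorem Conf.z_mem : c.z ∈ c.T := mul_mem c.u_mem c.u_mem

theorem Conf.z_ne : c.z ≠ 1 := c.u2

theorem Conf.zz : c.z * c.z = 1 := c.u4

theorem Conf.al_u : c.al c.u = c.u := (c.al_eq_iff _).2 c.ut.symm

theorem Conf.al_z : c.al c.z = c.z := by
  show c.al (c.u * c.u) = c.u * c.u
  rw [c.al_mul, c.al_u]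

theorem Conf.al_mem {x : H} (hx : x ∈ c.T) : c.al x ∈ c.T := by
  refine ⟨?_, mul_mem (mul_mem c.tS hx.2) c.tS⟩
  have h := c.nA.conj_mem x hx.1 c.t
  rwa [c.tinv] at h

theorem Conf.u_ne : c.u ≠ 1 := fun h => c.u2 (by rw [h, one_mul])

theorem Conf.z_ne_u : c.z ≠ c.u := fun h =>
  c.u_ne (mul_left_cancel ((h : c.u * c.u = c.u).trans (mul_one _).symm))

theorem Conf.fix_T {x : H} (hx : x ∈ c.T) (h : c.al x = x) :
    x = 1 ∨ x = c.u ∨ x = c.z ∨ x = c.z * c.u :=
  c.fix x hx.1 hx.2 ((c.al_eq_iff x).1 h)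

/-- `z` is the only involution of `T` fixed by `t`. -/
theorem Conf.fix_inv {x : H} (hx : x ∈ c.T) (h : c.al x = x) (hxx : x * x = 1) (hx1 : x ≠ 1) :
    x = c.z := by
  rcases c.fix_T hx h with e | e | e | e
  · exact absurd e hx1
  · exact absurd (by rw [← e]; exact hxx) c.u2
  · exact e
  · refine absurd ?_ c.u2
    rw [e] at hxx
    have : c.z * c.u * (c.z * c.u) = c.z * c.z * (c.u * c.u) := by
      show c.u * c.u * c.u * (c.u * c.u * c.u) = c.u * c.u * (c.u * c.u) * (c.u * c.u)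
      group
    rw [this, c.zz, one_mul] at hxx
    exact hxx

theorem Conf.T_le_S : c.T ≤ (c.S : Subgroup H) := inf_le_right

theorem Conf.T_le_A : c.T ≤ c.A := inf_le_left

theorem Conf.isPGroup_T : IsPGroup 2 c.T := c.S.isPGroup'.to_le c.T_le_S

theorem Conf.mem_S_iff {g : H} : g ∈ (c.S : Subgroup H) ↔ g ∈ c.T ∨ g * c.t ∈ c.T := by
  constructor
  · intro hg
    by_cases h : g ∈ c.A
    · exact Or.inl ⟨h, hg⟩
    · refine Or.inr ⟨?_, mul_mem hg c.tS⟩
      exact (mul_mem_iff_of_index_two c.idx).2 (iff_of_false h c.tA)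
  · rintro (h | h)
    · exact h.2
    · have h' := mul_mem h.2 c.tS
      rwa [mul_assoc, c.tt, mul_one] at h'

/-- `T` as a normal subgroup of `S`. -/
theorem Conf.T_normal {g x : H} (hg : g ∈ (c.S : Subgroup H)) (hx : x ∈ c.T) : g * x * g⁻¹ ∈ c.T :=
  ⟨c.nA.conj_mem x hx.1 g, (c.S : Subgroup H).mul_mem ((c.S : Subgroup H).mul_mem hg hx.2)
    ((c.S : Subgroup H).inv_mem hg)⟩

/-- `z` is central in `T`. -/
theorem Conf.z_comm {x : H} (hx : x ∈ c.T) : x * c.z = c.z * x := by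
  haveI : Fact (Nat.Prime 2) := ⟨Nat.prime_two⟩
  set N : Subgroup (c.S : Subgroup H) := c.T.subgroupOf (c.S : Subgroup H) with hN
  haveI : N.Normal := ⟨fun y hy g => c.T_normal g.2 hy⟩
  have hne : N ≠ ⊥ := fun h => c.z_ne (by
    have h1 : (⟨c.z, c.z_mem.2⟩ : (c.S : Subgroup H)) ∈ N := c.z_mem
    rw [h, mem_bot] at h1
    exact congrArg Subtype.val h1)
  obtain ⟨y, hyN, hyc, hyo⟩ := Cfsg.Lib.PGroups.exists_mem_center_of_normal_ne_bot c.S.isPGroup' hne
  have hy1 : (y : H) ≠ 1 := fun h => by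
    rw [show y = 1 from Subtype.ext h, orderOf_one] at hyo
    omega
  have hyy : (y : H) * y = 1 := by
    have h := pow_orderOf_eq_one y
    rw [hyo, pow_two] at h
    exact congrArg Subtype.val h
  have hcomm : ∀ g ∈ (c.S : Subgroup H), g * (y : H) = y * g := fun g hg =>
    congrArg Subtype.val (mem_center_iff.1 hyc ⟨g, hg⟩)
  have hal : c.al y = y := (c.al_eq_iff _).2 (hcomm c.t c.tS)
  rw [← c.fix_inv hyN hal hyy hy1]
  exact hcomm x hx.2

theorem Conf.z_comm_S {g : H} (hg : g ∈ (c.S : Subgroup H)) : g * c.z = c.z * g := by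
  rcases c.mem_S_iff.1 hg with h | h
  · exact c.z_comm h
  · have h1 := c.z_comm h
    have h2 : c.t * c.z = c.z * c.t := (c.al_eq_iff _).1 c.al_z
    calc g * c.z = g * c.t * (c.t * c.z) := by
          rw [show g * c.t * (c.t * c.z) = g * (c.t * c.t) * c.z by group, c.tt, mul_one]
      _ = g * c.t * c.z * c.t := by rw [h2]; group
      _ = c.z * g * (c.t * c.t) := by rw [h1]; group
      _ = c.z * g := by rw [c.tt, mul_one]

/-- The Sylow 2-subgroup `T` of `A`. -/
theorem Conf.odd_relIndex : Odd (c.T.relIndex c.A) := by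
  haveI := c.nA
  show Odd ((c.A ⊓ (c.S : Subgroup H)).relIndex c.A)
  rw [inf_comm, inf_relIndex_right, Cfsg.Lib.Transfer.relIndex_eq_relIndex_sup_of_normal]
  exact Nat.odd_iff.2 (Nat.two_dvd_ne_zero.1 fun h =>
    c.S.not_dvd_index (h.trans (relIndex_dvd_index_of_le le_sup_left)))

/-- `T` as a Sylow 2-subgroup of `A`. -/
noncomputable def Conf.TA : Sylow 2 c.A :=
  ((c.isPGroup_T).of_equiv (subgroupOfEquivOfLe c.T_le_A).symm).toSylow
    (show ¬ 2 ∣ (c.T.subgroupOf c.A).index from fun h =>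
      Nat.not_even_iff_odd.2 c.odd_relIndex (even_iff_two_dvd.2 h))

theorem Conf.mem_TA {x : c.A} : x ∈ (c.TA : Subgroup c.A) ↔ (x : H) ∈ c.T := by
  rw [show (c.TA : Subgroup c.A) = c.T.subgroupOf c.A from IsPGroup.toSylow_coe ..]
  exact Iff.rfl

theorem Conf.commutator_A : commutator c.A = ⊤ := by
  apply map_injective c.A.subtype_injective
  rw [_root_.commutator_def, map_commutator, ← MonoidHom.range_eq_map, range_subtype, c.perf]

/-- A homomorphism from `A` to an abelian group is trivial. -/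
theorem Conf.hom_trivial {Q : Type*} [CommGroup Q] (f : c.A →* Q) (x : c.A) : f x = 1 :=
  Abelianization.commutator_subset_ker f (c.commutator_A.ge (mem_top x))

/-- Thompson's transfer lemma: every involution of `A` is conjugate into any subgroup of index two
in `T`. -/
theorem Conf.conj_into {M : Subgroup H} (hM : M ≤ c.T) (hi : M.relIndex c.T = 2) {x : H}
    (hxA : x ∈ c.A) (hxx : x * x = 1) (hx1 : x ≠ 1) : ∃ g ∈ c.A, g * x * g⁻¹ ∈ M := by
  have hQidx : (M.subgroupOf c.A).index = 2 * c.T.relIndex c.A := by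
    show M.relIndex c.A = _
    rw [← relIndex_mul_relIndex M c.T c.A hM c.T_le_A, hi]
  have hxo : orderOf (⟨x, hxA⟩ : c.A) = 2 := orderOf_eq_prime
    (Subtype.ext (by show x ^ 2 = 1; rw [pow_two]; exact hxx))
    fun e => hx1 (congrArg Subtype.val e)
  by_contra hc
  push Not at hc
  obtain ⟨K, hKn, hK2, hKx⟩ := Cfsg.Lib.Transfer.exists_index_two_not_mem (M.subgroupOf c.A)
    c.odd_relIndex hQidx hxo (fun g hg => hc _ (inv_mem g.2) (by
      rw [inv_inv]; exact hg))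
  haveI := hKn
  haveI : IsCyclic (c.A ⧸ K) := isCyclic_of_prime_card (p := 2) (by rw [← index_eq_card]; exact hK2)
  letI : CommGroup (c.A ⧸ K) := IsCyclic.commGroup
  exact hKx ((QuotientGroup.eq_one_iff _).1 (c.hom_trivial (QuotientGroup.mk' K) ⟨x, hxA⟩))

/-- An isolated involution of `T` is central in `A`. -/
theorem Conf.central_of_isolated {x : H} (hxT : x ∈ c.T) (hxx : x * x = 1) (hx1 : x ≠ 1)
    (h : ∀ g ∈ c.A, g * x * g⁻¹ ∈ c.T → g * x * g⁻¹ = x) : ∀ g ∈ c.A, g * x = x * g := by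
  classical
  haveI := c.nA
  haveI : Fact (Nat.Prime 2) := ⟨Nat.prime_two⟩
  set x' : c.A := ⟨x, hxT.1⟩ with hx'
  have hxo : orderOf x' = 2 := orderOf_eq_prime
    (Subtype.ext (by show x ^ 2 = 1; rw [pow_two]; exact hxx))
    fun e => hx1 (congrArg Subtype.val e)
  have hiso : Cfsg.IsIsolatedInvolution x' := by
    refine ⟨hxo, fun g hcm => ?_⟩
    set s := g * x' * g⁻¹ with hs
    have hs2 : orderOf s = 2 := by rw [hs, ← MulAut.conj_apply, MulEquiv.orderOf_eq, hxo]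
    have h1 : IsPGroup 2 (zpowers x') :=
      IsPGroup.of_card (n := 1) (by rw [Nat.card_zpowers, hxo, pow_one])
    have h2 : IsPGroup 2 (zpowers s) :=
      IsPGroup.of_card (n := 1) (by rw [Nat.card_zpowers, hs2, pow_one])
    have hle : zpowers s ≤ normalizer (zpowers x' : Set c.A) := by
      refine le_trans (zpowers_le.2 ?_) (centralizer_le_normalizer _)
      rw [zpowers_eq_closure, centralizer_closure, mem_centralizer_singleton_iff]
      exact hcm.symm.eq
    obtain ⟨Q, hQ⟩ := (h2.to_sup_of_normal_right' h1 hle).exists_le_sylow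
    obtain ⟨k, hkQ⟩ := MulAction.exists_smul_eq c.A Q c.TA
    have key : ∀ y ∈ (Q : Subgroup c.A), ((k * y * k⁻¹ : c.A) : H) ∈ c.T := fun y hy => by
      rw [← c.mem_TA]
      rw [← hkQ]
      exact Subgroup.smul_mem_pointwise_smul y (MulAut.conj k) _ hy
    have e1 := h _ k.2 (key x' (hQ (mem_sup_right (mem_zpowers x'))))
    have e2 := key s (hQ (mem_sup_left (mem_zpowers s)))
    rw [hs, show k * (g * x' * g⁻¹) * k⁻¹ = (k * g) * x' * (k * g)⁻¹ by group] at e2
    have e3 := h _ (k * g).2 e2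
    apply Subtype.ext
    push_cast [hs]
    have e4 : (k : H) * ((g : H) * x * (g : H)⁻¹) * (k : H)⁻¹ = (k : H) * x * (k : H)⁻¹ := by
      rw [e1, show (k : H) * ((g : H) * x * (g : H)⁻¹) * (k : H)⁻¹ = ((k * g : c.A) : H) * x * ((k * g : c.A) : H)⁻¹ by
        push_cast; group]
      exact e3
    exact mul_left_cancel (mul_right_cancel e4)
  have hO : Cfsg.pPrimeCore 2 c.A = ⊥ := by
    haveI : (Cfsg.pPrimeCore 2 c.A).Characteristic := Cfsg.Lib.Components.pPrimeCore_characteristic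
    haveI : ((Cfsg.pPrimeCore 2 c.A).map c.A.subtype).Normal := inferInstance
    have h1 := c.core _ inferInstance (map_subtype_le _) (by
      rw [card_map_of_injective c.A.subtype_injective]
      exact Nat.coprime_two_right.1 (Cfsg.Lib.Components.coprime_card_pPrimeCore 2))
    exact (map_eq_bot_iff_of_injective _ c.A.subtype_injective).1 h1
  intro g hg
  have h1 := Cfsg.Lib.Blocks.zstar (Nat.card c.A) rfl hiso ⟨g, hg⟩
  rw [hO, mem_bot] at h1
  have h2 : x * g * x⁻¹ * g⁻¹ = 1 := congrArg Subtype.val h1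
  calc g * x = (x * g * x⁻¹ * g⁻¹) * g * x := by rw [h2, one_mul]
    _ = x * g := by group

/-- Transfer into `T/T'`: central elements of `A` in `T` lie in `T'`. -/
theorem Conf.mem_commutator_of_central {x : H} (hx : x ∈ c.T) (hc : ∀ g ∈ c.A, g * x = x * g) :
    x ∈ ⁅c.T, c.T⁆ := by
  classical
  set P : Subgroup c.A := (c.TA : Subgroup c.A) with hP
  set x' : c.A := ⟨x, hx.1⟩ with hx'
  have hxP : x' ∈ P := c.mem_TA.2 hx
  have hxc : x' ∈ center c.A := mem_center_iff.2 fun g => Subtype.ext (hc g g.2)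
  let φ : P →* Abelianization P := Abelianization.of
  have h0 : MonoidHom.transfer φ x' = 1 := c.hom_trivial _ _
  rw [MonoidHom.transfer_eq_pow φ x' fun k g₀ _ => by
    rw [mul_assoc, ← mem_center_iff.1 (pow_mem hxc k) g₀, ← mul_assoc, inv_mul_cancel, one_mul]] at h0
  have h1 : φ ⟨x', hxP⟩ ^ P.index = 1 := by
    rw [← map_pow]
    exact h0
  have hodd : Odd P.index := Nat.odd_iff.2 (Nat.two_dvd_ne_zero.1 c.TA.not_dvd_index)
  have h2 : φ ⟨x', hxP⟩ = 1 := by
    obtain ⟨k, hk⟩ := IsPGroup.iff_orderOf.1 c.TA.isPGroup' ⟨x', hxP⟩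
    rw [← orderOf_eq_one_iff]
    refine Nat.eq_one_of_dvd_coprimes (a := 2 ^ k) (b := P.index) ?_ (hk ▸ orderOf_map_dvd φ _)
      (orderOf_dvd_of_pow_eq_one h1)
    exact Nat.Coprime.pow_left k (Nat.coprime_two_left.2 hodd)
  have h3 : (⟨x', hxP⟩ : P) ∈ commutator P := by
    rw [← Abelianization.ker_of]
    exact h2
  have h4 := mem_map_of_mem P.subtype h3
  rw [_root_.commutator_def, map_commutator, ← MonoidHom.range_eq_map, range_subtype] at h4
  have h5 := mem_map_of_mem c.A.subtype h4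
  have hmap : P.map c.A.subtype = c.T := by
    rw [hP, show (c.TA : Subgroup c.A) = c.T.subgroupOf c.A from IsPGroup.toSylow_coe ..,
      map_subgroupOf_eq_of_le c.T_le_A]
  rw [map_commutator, hmap] at h5
  exact h5

/-- An element centralizing `x` can be moved into `T` together with a conjugation of `x` to a
central element of `T`. -/
theorem Conf.transport {x y g : H} (hg : g ∈ c.A) (hxy : g * x * g⁻¹ = y) (hy : y ∈ c.T)
    (hyc : ∀ r ∈ c.T, r * y = y * r) :
    ∃ f ∈ c.A, f * x * f⁻¹ = y ∧ ∀ r ∈ c.T, r * x = x * r → f * r * f⁻¹ ∈ c.T := by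
  classical
  haveI : Fact (Nat.Prime 2) := ⟨Nat.prime_two⟩
  set y' : c.A := ⟨y, hy.1⟩ with hy'
  set C : Subgroup c.A := centralizer ({y'} : Set c.A) with hC
  have hPC : (c.TA : Subgroup c.A) ≤ C := fun r hr =>
    mem_centralizer_singleton_iff.2 (Subtype.ext (hyc r (c.mem_TA.1 hr)))
  let R₀ : Subgroup c.A := (c.T ⊓ centralizer ({x} : Set H)).subgroupOf c.A
  let R : Subgroup c.A := R₀.map (MulAut.conj (⟨g, hg⟩ : c.A)).toMonoidHom
  have hR₀p : IsPGroup 2 R₀ :=
    (c.isPGroup_T.to_le inf_le_left).of_equiv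
      (subgroupOfEquivOfLe (inf_le_left.trans c.T_le_A)).symm
  have hRC : R ≤ C := by
    rintro _ ⟨r, hr, rfl⟩
    refine mem_centralizer_singleton_iff.2 (Subtype.ext ?_)
    show g * (r : H) * g⁻¹ * y = y * (g * (r : H) * g⁻¹)
    have hrx : (r : H) * x = x * (r : H) := mem_centralizer_singleton_iff.1 hr.2
    rw [← hxy, show g * (r : H) * g⁻¹ * (g * x * g⁻¹) = g * ((r : H) * x) * g⁻¹ by group, hrx]
    group
  have hRp : IsPGroup 2 R := hR₀p.map _
  let P₀ : Sylow 2 C := c.TA.subtype hPC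
  obtain ⟨R', hR'⟩ := (hRp.of_equiv (subgroupOfEquivOfLe hRC).symm).exists_le_sylow
  obtain ⟨q, hq⟩ := MulAction.exists_smul_eq C R' P₀
  refine ⟨((q : c.A) : H) * g, mul_mem (q : c.A).2 hg, ?_, ?_⟩
  · have hq1 : ((q : c.A) : H) * y = y * ((q : c.A) : H) :=
      congrArg Subtype.val (mem_centralizer_singleton_iff.1 q.2)
    rw [show ((q : c.A) : H) * g * x * (((q : c.A) : H) * g)⁻¹ =
      ((q : c.A) : H) * (g * x * g⁻¹) * ((q : c.A) : H)⁻¹ by group, hxy, hq1, mul_inv_cancel_right]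
  · intro r hr hrx
    have hrR : (⟨g, hg⟩ : c.A) * ⟨r, hr.1⟩ * (⟨g, hg⟩ : c.A)⁻¹ ∈ R :=
      ⟨⟨r, hr.1⟩, ⟨hr, mem_centralizer_singleton_iff.2 hrx⟩, rfl⟩
    have h2 : q * ⟨_, hRC hrR⟩ * q⁻¹ ∈ (P₀ : Subgroup C) := by
      rw [← hq, Sylow.smul_def, Sylow.pointwise_smul_def]
      exact ⟨_, hR' (x := ⟨_, hRC hrR⟩) hrR, rfl⟩
    have h3 := c.mem_TA.1 h2
    rw [show ((q : c.A) : H) * g * r * (((q : c.A) : H) * g)⁻¹ =
      ((q : c.A) : H) * (g * r * g⁻¹) * ((q : c.A) : H)⁻¹ by group]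
    exact h3

/-- Burnside: conjugacy of elements central in `T` is realised in the normalizer of `T`; an odd
power of the conjugating element lies in `T`. -/
theorem Conf.burnside {x y g : H} (hx : x ∈ c.T) (hy : y ∈ c.T)
    (hxc : ∀ r ∈ c.T, r * x = x * r) (hyc : ∀ r ∈ c.T, r * y = y * r)
    (hg : g ∈ c.A) (hxy : g * x * g⁻¹ = y) :
    ∃ n ∈ c.A, n * x * n⁻¹ = y ∧ (∀ r ∈ c.T, n * r * n⁻¹ ∈ c.T) ∧ ∃ m : ℕ, Odd m ∧ n ^ m ∈ c.T := by
  classical
  haveI : Fact (Nat.Prime 2) := ⟨Nat.prime_two⟩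
  set x' : c.A := ⟨x, hx.1⟩
  set y' : c.A := ⟨y, hy.1⟩
  have hnorm : ∀ w : H, ∀ hw : w ∈ c.T, (∀ r ∈ c.T, r * w = w * r) →
      (c.TA : Subgroup c.A) ≤ normalizer ({⟨w, hw.1⟩} : Set c.A) := by
    intro w hw hwc r hr
    rw [mem_set_normalizer_iff]
    intro a
    have hrw : r * ⟨w, hw.1⟩ = (⟨w, hw.1⟩ : c.A) * r := Subtype.ext (hwc r (c.mem_TA.1 hr))
    constructor
    · rintro rfl
      simp [hrw]
    · intro ha
      have ha' : r * a * r⁻¹ = ⟨w, hw.1⟩ := ha
      show a = ⟨w, hw.1⟩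
      calc a = r⁻¹ * (r * a * r⁻¹) * r := by group
        _ = r⁻¹ * ((⟨w, hw.1⟩ : c.A) * r) := by rw [ha']; group
        _ = ⟨w, hw.1⟩ := by rw [← hrw]; group
  obtain ⟨n, hn, hne⟩ := Cfsg.Lib.Transfer.burnside_fusion_set c.TA {x'} {y'} (hnorm x hx hxc)
    (hnorm y hy hyc) ⟨g, hg⟩ (by rw [Set.image_singleton]; exact congrArg _ (Subtype.ext hxy))
  rw [Set.image_singleton, Set.singleton_eq_singleton_iff] at hne
  have hnT : ∀ r ∈ c.T, (n : H) * r * (n : H)⁻¹ ∈ c.T := fun r hr =>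
    c.mem_TA.1 ((mem_normalizer_iff.1 hn ⟨r, hr.1⟩).1 (c.mem_TA.2 hr))
  set N := normalizer ((c.TA : Subgroup c.A) : Set c.A) with hN
  set m := ((c.TA : Subgroup c.A).subgroupOf N).index with hm
  refine ⟨n, n.2, congrArg Subtype.val hne, hnT, m, ?_, ?_⟩
  · refine Nat.odd_iff.2 (Nat.two_dvd_ne_zero.1 fun h => c.TA.not_dvd_index (h.trans ?_))
    exact relIndex_dvd_index_of_le (le_normalizer : (c.TA : Subgroup c.A) ≤ N)
  · haveI : ((c.TA : Subgroup c.A).subgroupOf N).Normal := normal_in_normalizer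
    have h := Subgroup.pow_index_mem ((c.TA : Subgroup c.A).subgroupOf N) (⟨n, hn⟩ : N)
    have h' := c.mem_TA.1 (show n ^ m ∈ (c.TA : Subgroup c.A) from h)
    push_cast at h'
    exact h'

/-- If conjugation by `n` fixes `z` and swaps two elements of `T` differing by `z`, no odd power
of `n` lies in the centralizer of both. -/
theorem Conf.no_swap {n w : H} (hz : n * c.z * n⁻¹ = c.z) (hn : n * w * n⁻¹ = w * c.z)
    {m : ℕ} (hm : Odd m) (hfix : n ^ m * w * (n ^ m)⁻¹ = w) : False := by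
  have key : ∀ k : ℕ, n ^ k * w * (n ^ k)⁻¹ = w * c.z ^ k := by
    intro k
    induction k with
    | zero => simp
    | succ k ih =>
      rw [pow_succ', mul_inv_rev, show n * n ^ k * w * ((n ^ k)⁻¹ * n⁻¹) = n * (n ^ k * w * (n ^ k)⁻¹) * n⁻¹ by group,
        ih, show n * (w * c.z ^ k) * n⁻¹ = (n * w * n⁻¹) * (n * c.z * n⁻¹) ^ k by rw [conj_pow]; group, hn, hz,
        mul_assoc, ← pow_succ']
  obtain ⟨j, rfl⟩ := hm
  have h := key (2 * j + 1)
  rw [hfix, pow_succ, pow_mul, pow_two, c.zz, one_pow, one_mul] at h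
  exact c.z_ne (mul_left_cancel (h.symm.trans (mul_one w).symm))

theorem Conf.z_inv : c.z⁻¹ = c.z := inv_eq_of_mul_eq_one_right c.zz

theorem Conf.zpowers_z {x : H} (hx : x ∈ zpowers c.z) : x = 1 ∨ x = c.z := by
  obtain ⟨i, rfl⟩ := hx
  show c.z ^ i = 1 ∨ c.z ^ i = c.z
  rcases Int.even_or_odd' i with ⟨j, rfl | rfl⟩
  · exact Or.inl (by rw [zpow_mul, zpow_two, c.zz, one_zpow])
  · exact Or.inr (by rw [zpow_add_one, zpow_mul, zpow_two, c.zz, one_zpow, one_mul])

/-- `w` spans together with `z` a four group normal in `S`. -/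
structure Conf.IsW (w : H) : Prop where
  mem : w ∈ c.T
  sq : w * w = 1
  ne_one : w ≠ 1
  ne_z : w ≠ c.z
  al : c.al w = w * c.z
  conj : ∀ g ∈ c.T, g * w * g⁻¹ = w ∨ g * w * g⁻¹ = w * c.z

theorem Conf.isW_of {w : H} (hwT : w ∈ c.T) (hww : w * w = 1) (hw1 : w ≠ 1) (hwz : w ≠ c.z)
    (h : ∀ g ∈ (c.S : Subgroup H), g * w * g⁻¹ = w ∨ g * w * g⁻¹ = w * c.z) : c.IsW w := by
  refine ⟨hwT, hww, hw1, hwz, ?_, fun g hg => h g hg.2⟩
  have ht := h c.t c.tS
  rw [c.tinv] at ht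
  exact ht.resolve_left fun e => hwz (c.fix_inv hwT e hww hw1)

/-- An involution of `S` outside `A` does not centralize `T`. -/
theorem Conf.not_centralize {d : H} (hdS : d ∈ (c.S : Subgroup H)) (hdA : d ∉ c.A) (hdd : d * d = 1)
    (hrank : ∃ s ∈ c.T, s * s = 1 ∧ s ≠ 1 ∧ s ≠ c.z) (h : ∀ y ∈ c.T, d * y = y * d) : False := by
  have hdt : d * c.t ∈ c.T := (c.mem_S_iff.1 hdS).resolve_left fun hd => hdA hd.1
  set τ := d * c.t with hτ
  have hd' : d = τ * c.t := by rw [hτ, mul_assoc, c.tt, mul_one]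
  have h1 := h τ hdt
  have hτal : c.al τ = τ := by
    rw [hd', show τ * (τ * c.t) = τ * τ * c.t by group, mul_assoc] at h1
    have h1' : c.t * τ = τ * c.t := mul_left_cancel (h1.trans (mul_assoc τ τ c.t))
    exact (c.al_eq_iff _).2 h1'
  have hτ2 : τ * τ = 1 := by
    rw [hd', show τ * c.t * (τ * c.t) = τ * (c.t * τ * c.t) by group] at hdd
    rw [show c.t * τ * c.t = c.al τ from rfl, hτal] at hdd
    exact hdd
  obtain ⟨s, hsT, hss, hs1, hsz⟩ := hrank
  apply hsz
  refine c.fix_inv hsT ?_ hss hs1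
  have hτz : τ = 1 ∨ τ = c.z := by
    by_cases e : τ = 1
    · exact Or.inl e
    · exact Or.inr (c.fix_inv hdt hτal hτ2 e)
  have hτs : τ * s = s * τ := by
    rcases hτz with e | e <;> rw [e]
    · rw [one_mul, mul_one]
    · exact (c.z_comm hsT).symm
  have h2 := h s hsT
  rw [hd'] at h2
  apply (c.al_eq_iff _).2
  refine mul_left_cancel (a := τ) ?_
  calc τ * (c.t * s) = τ * c.t * s := by group
    _ = s * (τ * c.t) := h2
    _ = τ * (s * c.t) := by rw [← mul_assoc, ← hτs, mul_assoc]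

end Cfsg.Lib.FourFixed
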