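/-
The sign of an involution in the permutation representation on the cosets of a subgroup.
-/
import Cfsg.Agent.Transfer.ThompsonTransfer

set_option autoImplicit false
set_option linter.style.haveILetI false

namespace Cfsg.Lib.FourFixed

open Subgroup

variable {G : Type*} [Group G] [Finite G]

/-- If the sign of the action on the cosets of `Q`, of index `2 * m` with `m` odd, is trivial on an
involution `a` fixing no coset, a contradiction follows: with `b` fixing `2 * k` cosets, `k` odd,
the signs of `a` and `b` differ. -/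
theorem sign_ne (Q : Subgroup G) {m k : ℕ} (hm : Odd m) (hk : Odd k) (hQ : Q.index = 2 * m)
    {a b : G} (ha : a * a = 1) (hb : b * b = 1) (hfa : ∀ g : G, g⁻¹ * a * g ∉ Q)
    (hfb : {x : G ⧸ Q | b • x = x}.ncard = 2 * k) :
    ∃ (M : Subgroup G), M.Normal ∧ M.index = 2 ∧ a ∉ M ∧ b ∈ M := by
  classical
  haveI := Fintype.ofFinite (G ⧸ Q)
  let ε : G →* ℤˣ := Equiv.Perm.sign.comp (MulAction.toPermHom G (G ⧸ Q))
  have hcard : Fintype.card (G ⧸ Q) = 2 * m := by
    rw [← Nat.card_eq_fintype_card, ← Q.index_eq_card, hQ]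
  have key : ∀ (g : G) (f : ℕ), g * g = 1 → {x : G ⧸ Q | g • x = x}.ncard = 2 * f →
      ε g = (-1) ^ (m - f) ∧ f ≤ m := by
    intro g f hg hf
    set σ : Equiv.Perm (G ⧸ Q) := MulAction.toPermHom G (G ⧸ Q) g with hσ
    have hfix : (Finset.univ \ σ.support).card = 2 * f := by
      rw [← hf, Set.ncard_eq_toFinset_card', ← Finset.compl_eq_univ_sdiff]
      congr 1
      ext x
      simp [hσ]
    have hle : σ.support.card + 2 * f = 2 * m := by
      rw [← hfix, add_comm, Finset.card_sdiff_add_card_eq_card (Finset.subset_univ _), Finset.card_univ, hcard]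
    refine ⟨?_, by omega⟩
    by_cases h1 : σ = 1
    · have : ε g = 1 := by
        show Equiv.Perm.sign σ = 1
        rw [h1, map_one]
      rw [h1, Equiv.Perm.support_one, Finset.card_empty] at hle
      rw [this, show m - f = 0 by omega, pow_zero]
    · have hord : orderOf σ = 2 := orderOf_eq_prime
        (by rw [hσ, ← map_pow, pow_two, hg, map_one]) h1
      obtain ⟨l, hl⟩ := Equiv.Perm.cycleType_prime_order (hord.symm ▸ Nat.prime_two)
      have hsum := σ.sum_cycleType
      rw [hl, Multiset.sum_replicate, smul_eq_mul, hord] at hsum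
      show Equiv.Perm.sign σ = _
      rw [Equiv.Perm.sign_of_cycleType, hl, Multiset.sum_replicate, Multiset.card_replicate, hord,
        show l + 1 = m - f by omega, smul_eq_mul, pow_add, pow_mul', Int.units_sq]
      simp
  have hempty : {x : G ⧸ Q | a • x = x}.ncard = 2 * 0 := by
    rw [mul_zero, Set.ncard_eq_zero]
    ext x
    obtain ⟨g, rfl⟩ := QuotientGroup.mk_surjective x
    simp only [Set.mem_setOf_eq, Set.mem_empty_iff_false, iff_false]
    intro h
    have h' : ((a * g : G) : G ⧸ Q) = g := h
    exact hfa g (by rw [mul_assoc]; exact QuotientGroup.eq.1 h'.symm)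
  obtain ⟨hea, -⟩ := key a 0 ha hempty
  obtain ⟨heb, hkm⟩ := key b k hb hfb
  rw [Nat.sub_zero, Odd.neg_one_pow hm] at hea
  rw [Even.neg_one_pow (by rw [Nat.even_sub hkm]; simp [Nat.not_even_iff_odd.2 hk, Nat.not_even_iff_odd.2 hm])] at heb
  refine ⟨ε.ker, inferInstance, ?_, ?_, ?_⟩
  · rw [Subgroup.index_ker]
    have htop : ε.range = ⊤ := by
      rw [eq_top_iff]
      intro z _
      rcases Int.units_eq_one_or z with rfl | rfl
      · exact one_mem _
      · exact ⟨a, hea⟩
    rw [htop, Nat.card_congr Subgroup.topEquiv.toEquiv, Nat.card_eq_fintype_card,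
      Fintype.card_units_int]
  · rw [MonoidHom.mem_ker, hea]
    decide
  · rw [MonoidHom.mem_ker, heb]

end Cfsg.Lib.FourFixed
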