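/-
Existence of a four group in `T` normal in `S`: otherwise `T` is semidihedral and a transfer
argument on the cosets of a subgroup of index twice an odd number gives a contradiction.
-/
import Cfsg.Agent.Components.FourFixed.Basic
import Cfsg.Agent.Components.FourFixed.Sign
import Cfsg.Agent.Components.FoursRankOne.Core
import Cfsg.Agent.PGroups.CyclicMaximal

set_option autoImplicit false
set_option linter.style.haveILetI false
set_option linter.unusedSectionVars false

namespace Cfsg.Lib.FourFixed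

open Subgroup
open scoped Pointwise

universe v

variable {H : Type v} [Group H] [Finite H] (c : Conf H)

theorem Conf.semidihedral_false (x : H) (n : ℕ) (hn : 3 ≤ n) (hxT : x ∈ c.T) (hxo : orderOf x = 2 ^ n)
    (hxz : x ^ (2 ^ (n - 1)) = c.z)
    (hT : ∀ g ∈ c.T, g ∈ zpowers x ∨ c.u⁻¹ * g ∈ zpowers x) (huX : c.u ∉ zpowers x)
    (hu : c.u * x * c.u⁻¹ = x⁻¹ * c.z) (hal : c.al x = x⁻¹ ∨ c.al x = x⁻¹ * c.z)
    (hrank : ∃ s ∈ c.T, s * s = 1 ∧ s ≠ 1 ∧ s ≠ c.z) : False := by
  classical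
  haveI := c.nA
  haveI : Fact (Nat.Prime 2) := ⟨Nat.prime_two⟩
  have hzx : Commute c.z x := (c.z_comm hxT).symm
  have hzi : ∀ i : ℤ, c.z ^ i = 1 ∨ c.z ^ i = c.z := fun i => c.zpowers_z ⟨i, rfl⟩
  have hzS : c.z ∈ (c.S : Subgroup H) := c.z_mem.2
  obtain ⟨f, hf⟩ : ∃ f : ℤ, c.t * c.u * x * (c.t * c.u)⁻¹ = x * c.z ^ f := by
    have h1 : c.t * c.u * x * (c.t * c.u)⁻¹ = c.al (x⁻¹ * c.z) := by
      rw [← hu]
      show _ = c.t * (c.u * x * c.u⁻¹) * c.t
      rw [mul_inv_rev, c.tinv]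
      group
    rw [h1, c.al_mul, c.al_inv, c.al_z]
    rcases hal with e | e <;> rw [e]
    · exact ⟨1, by rw [inv_inv, zpow_one]⟩
    · exact ⟨0, by
        rw [zpow_zero, mul_one, mul_inv_rev, inv_inv, c.z_inv, mul_assoc, ← hzx.eq, ← mul_assoc,
          c.zz, one_mul]⟩
  set e : ℕ := 2 ^ (n - 2) with he
  have he2 : x ^ (2 * e) = c.z := by
    rw [he, ← pow_succ', show n - 2 + 1 = n - 1 by omega, hxz]
  have heven : Even e := by
    rw [he]; exact (Nat.even_pow' (by omega)).2 even_two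
  have hze : ∀ i : ℤ, (c.z ^ i) ^ e = 1 := by
    intro i
    obtain ⟨k, hk⟩ := heven
    rw [hk, ← two_mul, pow_mul, pow_two]
    rcases hzi i with h | h <;> rw [h] <;> simp [c.zz]
  set d : H := c.t * c.u * x ^ e with hd
  have hconjx : d * x * d⁻¹ = x * c.z ^ f := by
    rw [hd, ← hf]
    have := (Commute.refl x).pow_left e
    rw [show c.t * c.u * x ^ e * x * (c.t * c.u * x ^ e)⁻¹ = c.t * c.u * (x ^ e * x) * (x ^ e)⁻¹ * (c.t * c.u)⁻¹ by group,
      this.eq]
    group
  have hconjxi : ∀ i : ℤ, d * x ^ i * d⁻¹ = x ^ i * c.z ^ (f * i) := by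
    intro i
    rw [← conj_zpow, hconjx, (Commute.zpow_left hzx f).symm.mul_zpow, zpow_mul]
  have hc0u : c.t * c.u * c.u * (c.t * c.u)⁻¹ = c.u := by
    rw [mul_inv_rev, c.tinv, show c.t * c.u * c.u * (c.u⁻¹ * c.t) = c.t * c.u * c.t by group]
    exact c.al_u
  have hexu : x ^ e * c.u * (x ^ e)⁻¹ = c.u * c.z := by
    have h1 : c.u⁻¹ * x * c.u = x⁻¹ * c.z := by
      have h2 : c.u * (x⁻¹ * c.z) * c.u⁻¹ = x := by
        rw [show c.u * (x⁻¹ * c.z) * c.u⁻¹ = (c.u * x * c.u⁻¹)⁻¹ * (c.u * c.z * c.u⁻¹) by group, hu,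
          c.z_comm c.u_mem, mul_inv_cancel_right, mul_inv_rev, inv_inv, c.z_inv, mul_assoc, ← hzx.eq,
          ← mul_assoc, c.zz, one_mul]
      calc c.u⁻¹ * x * c.u = c.u⁻¹ * (c.u * (x⁻¹ * c.z) * c.u⁻¹) * c.u := by rw [h2]
        _ = x⁻¹ * c.z := by group
    calc x ^ e * c.u * (x ^ e)⁻¹ = c.u * ((c.u⁻¹ * x * c.u) ^ e * (x ^ e)⁻¹) := by
          rw [show c.u⁻¹ * x * c.u = c.u⁻¹ * x * c.u⁻¹⁻¹ by rw [inv_inv], conj_pow, inv_inv]
          group
      _ = c.u * ((x ^ e)⁻¹ * (x ^ e)⁻¹) := by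
          rw [h1, (Commute.inv_left hzx.symm).mul_pow, show c.z ^ e = 1 by simpa using hze 1, mul_one, inv_pow]
      _ = c.u * c.z := by rw [← mul_inv_rev, ← pow_add, ← two_mul, he2, c.z_inv]
  have hconju : d * c.u * d⁻¹ = c.u * c.z := by
    rw [hd, show c.t * c.u * x ^ e * c.u * (c.t * c.u * x ^ e)⁻¹ =
      c.t * c.u * (x ^ e * c.u * (x ^ e)⁻¹) * (c.t * c.u)⁻¹ by group, hexu,
      show c.t * c.u * (c.u * c.z) * (c.t * c.u)⁻¹ =
        c.t * c.u * c.u * (c.t * c.u)⁻¹ * ((c.t * c.u) * c.z * (c.t * c.u)⁻¹) by group, hc0u,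
      c.z_comm_S (mul_mem c.tS c.uS), mul_inv_cancel_right]
  have hdd : d * d = 1 := by
    have h1 : (c.t * c.u) * (c.t * c.u) = c.z := by
      rw [show c.t * c.u * (c.t * c.u) = (c.t * c.u * c.t) * c.u by group]
      show c.al c.u * c.u = c.u * c.u
      rw [c.al_u]
    have h2 : c.t * c.u * x ^ e * (c.t * c.u)⁻¹ = x ^ e := by
      rw [← conj_pow, hf, (Commute.zpow_left hzx f).symm.mul_pow, hze, mul_one]
    rw [hd, show c.t * c.u * x ^ e * (c.t * c.u * x ^ e) =
      (c.t * c.u * x ^ e * (c.t * c.u)⁻¹) * ((c.t * c.u) * (c.t * c.u)) * x ^ e by group, h2, h1,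
      mul_assoc, (hzx.pow_right e).eq, ← mul_assoc, ← pow_add, ← two_mul, he2, c.zz]
  have hxS : x ∈ (c.S : Subgroup H) := hxT.2
  have hdS : d ∈ (c.S : Subgroup H) := mul_mem (mul_mem c.tS c.uS) (pow_mem hxS e)
  have hdA : d ∉ c.A := by
    intro h
    apply c.tA
    have := mul_mem h (inv_mem (mul_mem c.uA (pow_mem hxT.1 e)))
    rwa [hd, show c.t * c.u * x ^ e * (c.u * x ^ e)⁻¹ = c.t by group] at this
  -- conjugation by `d` changes elements of `T` by at most `z`
  have hdT : ∀ y ∈ c.T, d * y * d⁻¹ = y ∨ d * y * d⁻¹ = y * c.z := by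
    have hX : ∀ y ∈ zpowers x, d * y * d⁻¹ = y ∨ d * y * d⁻¹ = y * c.z := by
      rintro _ ⟨i, rfl⟩
      show d * x ^ i * d⁻¹ = x ^ i ∨ d * x ^ i * d⁻¹ = x ^ i * c.z
      rw [hconjxi]
      rcases hzi (f * i) with h | h <;> rw [h]
      · left; rw [mul_one]
      · right; rfl
    intro y hy
    rcases hT y hy with h | h
    · exact hX y h
    · have hcz : c.z * (c.u⁻¹ * y) = (c.u⁻¹ * y) * c.z := (c.z_comm (mul_mem (inv_mem c.u_mem) hy)).symm
      have hsplit : d * y * d⁻¹ = (d * c.u * d⁻¹) * (d * (c.u⁻¹ * y) * d⁻¹) := by group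
      rcases hX _ h with e' | e' <;> rw [hsplit, hconju, e']
      · right
        rw [mul_assoc, hcz, ← mul_assoc, mul_inv_cancel_left]
      · left
        rw [mul_assoc, ← mul_assoc c.z, hcz, mul_assoc, mul_assoc, c.zz, mul_one, mul_inv_cancel_left]
  -- the centralizer of `d` in `T` has index two
  set D : Subgroup H := c.T ⊓ centralizer ({d} : Set H) with hD
  have hcomm_iff : ∀ y ∈ c.T, y ∈ D ↔ d * y * d⁻¹ = y := by
    intro y hy
    rw [hD, mem_inf, mem_centralizer_singleton_iff, mul_inv_eq_iff_eq_mul, eq_comm (a := y * d)]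
    simp [hy]
  have huD : c.u ∉ D := by
    rw [hcomm_iff _ c.u_mem, hconju]
    exact fun h => c.z_ne (mul_left_cancel (h.trans (mul_one _).symm))
  have hDidx : D.relIndex c.T = 2 := by
    rw [relIndex, index_eq_two_iff]
    refine ⟨⟨c.u, c.u_mem⟩, fun b => ?_⟩
    rw [mem_subgroupOf, mem_subgroupOf]
    show Xor ((b : H) * c.u ∈ D) ((b : H) ∈ D)
    have hb := hdT b b.2
    have hconj : d * ((b : H) * c.u) * d⁻¹ = (d * b * d⁻¹) * (c.u * c.z) := by
      rw [← hconju]; group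
    rcases hb with h | h
    · refine Or.inr ⟨(hcomm_iff _ b.2).2 h, fun h' => huD ?_⟩
      have := mul_mem (inv_mem ((hcomm_iff _ b.2).2 h)) h'
      rwa [inv_mul_cancel_left] at this
    · refine Or.inl ⟨(hcomm_iff _ (mul_mem b.2 c.u_mem)).2 ?_, fun h' => ?_⟩
      · rw [hconj, h, mul_assoc, ← mul_assoc c.z, (c.z_comm c.u_mem).symm, mul_assoc, c.zz, mul_one]
      · rw [(hcomm_iff _ b.2).1 h'] at h
        exact c.z_ne (mul_left_cancel (h.symm.trans (mul_one _).symm))
  -- orders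
  have hXcard : Nat.card (zpowers x) = 2 ^ n := by rw [Nat.card_zpowers, hxo]
  have hXT : zpowers x ≤ c.T := zpowers_le.2 hxT
  have hTidx : (zpowers x).relIndex c.T = 2 := by
    rw [relIndex, index_eq_two_iff]
    refine ⟨⟨c.u, c.u_mem⟩, fun b => ?_⟩
    rw [mem_subgroupOf, mem_subgroupOf]
    show Xor ((b : H) * c.u ∈ zpowers x) ((b : H) ∈ zpowers x)
    rcases hT b b.2 with h | h
    · refine Or.inr ⟨h, fun h' => huX ?_⟩
      have := mul_mem (inv_mem h) h'
      rwa [inv_mul_cancel_left] at this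
    · refine Or.inl ⟨?_, fun h' => huX ?_⟩
      · obtain ⟨i, hi⟩ := h
        have hb : (b : H) = c.u * x ^ i := by rw [show x ^ i = c.u⁻¹ * b from hi, mul_inv_cancel_left]
        rw [hb, show c.u * x ^ i * c.u = (c.u * x ^ i * c.u⁻¹) * (c.u * c.u) by group, ← conj_zpow, hu]
        have hzX : c.z ∈ zpowers x := hxz ▸ pow_mem (mem_zpowers x) _
        exact mul_mem (zpow_mem (mul_mem (inv_mem (mem_zpowers x)) hzX) i) hzX
      · have := mul_mem h' (inv_mem h)
        rwa [mul_inv_rev, inv_inv, mul_inv_cancel_left] at this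
  have hTcard : Nat.card c.T = 2 * 2 ^ n := by
    rw [← Subgroup.card_mul_index ((zpowers x).subgroupOf c.T),
      Nat.card_congr (subgroupOfEquivOfLe hXT).toEquiv, hXcard]
    show 2 ^ n * (zpowers x).relIndex c.T = _
    rw [hTidx, mul_comm]
  have hDcard : Nat.card D = 2 ^ n := by
    have h1 := Subgroup.card_mul_index (D.subgroupOf c.T)
    rw [Nat.card_congr (subgroupOfEquivOfLe (inf_le_left : D ≤ c.T)).toEquiv, hTcard] at h1
    change Nat.card D * D.relIndex c.T = _ at h1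
    rw [hDidx] at h1
    omega
  -- `t` is not conjugate to `d` or to `d z`
  have hd_cent : ∀ g : H, ∀ d' : H, (d' = d ∨ d' = d * c.z) → g⁻¹ * c.t * g = d' → False := by
    intro g d' hd' hg
    let D' : Subgroup H := D.map (MulAut.conj g).toMonoidHom
    have h := c.sylC D' ((c.isPGroup_T.to_le inf_le_left).map _) ?_ ?_
    · rw [show Nat.card D' = Nat.card D from card_map_of_injective (MulAut.conj g).injective, hDcard] at h
      have h8 : 2 ^ 3 ≤ 2 ^ n := Nat.pow_le_pow_right (by norm_num) hn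
      omega
    · rintro _ ⟨y, hy, rfl⟩
      exact c.nA.conj_mem y hy.1.1 g
    · rintro _ ⟨y, hy, rfl⟩
      show c.t * (g * y * g⁻¹) = g * y * g⁻¹ * c.t
      have hy' : y * d' = d' * y := by
        have h1 : y * d = d * y := mem_centralizer_singleton_iff.1 hy.2
        rcases hd' with rfl | rfl
        · exact h1
        · calc y * (d * c.z) = y * d * c.z := (mul_assoc y d c.z).symm
            _ = d * y * c.z := by rw [h1]
            _ = d * (y * c.z) := mul_assoc d y c.z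
            _ = d * (c.z * y) := by rw [c.z_comm hy.1]
            _ = d * c.z * y := (mul_assoc d c.z y).symm
      rw [show c.t = g * d' * g⁻¹ by rw [← hg]; group, show g * d' * g⁻¹ * (g * y * g⁻¹) = g * (d' * y) * g⁻¹ by group,
        ← hy']
      group
  -- the subgroup `Q`
  let Q : Subgroup H := zpowers x ⊔ zpowers d
  have hdN : zpowers d ≤ normalizer (zpowers x : Set H) := by
    have hzX : c.z ∈ zpowers x := hxz ▸ pow_mem (mem_zpowers x) _
    have hfor : ∀ y ∈ zpowers x, d * y * d⁻¹ ∈ zpowers x := fun y hy => by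
      rcases hdT y (hXT hy) with h | h <;> rw [h]
      · exact hy
      · exact mul_mem hy hzX
    refine zpowers_le.2 (mem_normalizer_iff.2 fun y => ⟨hfor y, fun h => ?_⟩)
    have h1 := hfor _ h
    rwa [show d * (d * y * d⁻¹) * d⁻¹ = (d * d) * y * (d * d)⁻¹ by group, hdd, one_mul, inv_one, mul_one] at h1
  have hdpow : ∀ y ∈ zpowers d, y = 1 ∨ y = d := by
    rintro _ ⟨i, rfl⟩
    show d ^ i = 1 ∨ d ^ i = d
    rcases Int.even_or_odd' i with ⟨j, rfl | rfl⟩
    · exact Or.inl (by rw [zpow_mul, zpow_two, hdd, one_zpow])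
    · exact Or.inr (by rw [zpow_add_one, zpow_mul, zpow_two, hdd, one_zpow, one_mul])
  have hQmem : ∀ y ∈ Q, y ∈ zpowers x ∨ d * y ∈ zpowers x := by
    intro y hy
    have : y ∈ (zpowers x : Set H) * (zpowers d : Set H) := by
      rw [← Subgroup.coe_mul_of_right_le_normalizer_left _ _ hdN]; exact hy
    obtain ⟨a, ha, b, hb, rfl⟩ := this
    rcases hdpow b hb with rfl | rfl
    · left; show a * 1 ∈ zpowers x; rw [mul_one]; exact ha
    · right
      have h := (mem_normalizer_iff.1 (hdN (mem_zpowers d)) a).1 ha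
      rw [show d * (a * d) = d * a * d⁻¹ * (d * d) by group, hdd, mul_one]
      exact h
  have hQS : Q ≤ (c.S : Subgroup H) := sup_le (zpowers_le.2 hxS) (zpowers_le.2 hdS)
  -- involutions of `Q` outside `A`
  have hQinv : ∀ q ∈ Q, q ∉ c.A → q * q = 1 → q = d ∨ q = d * c.z := by
    intro q hq hqA hqq
    rcases hQmem q hq with h | ⟨i, hi⟩
    · exact absurd (hXT h).1 hqA
    have hq' : q = d * x ^ i := by
      rw [show x ^ i = d * q from hi, ← mul_assoc, hdd, one_mul]
    rw [hq', show d * x ^ i * (d * x ^ i) = (d * x ^ i * d⁻¹) * (d * d) * x ^ i by group, hdd, mul_one,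
      hconjxi, mul_assoc, ((hzx.zpow_zpow (f * i) i)).eq, ← mul_assoc, ← zpow_add] at hqq
    rw [hq']
    have h2 : x ^ (i + i) = c.z ^ (f * i) := by
      have := eq_inv_of_mul_eq_one_left hqq
      rw [this, ← zpow_neg]
      rcases hzi (f * i) with h | h <;> rw [zpow_neg, h] <;> simp [c.z_inv]
    have hdvd : ∀ j : ℤ, x ^ j = 1 ↔ (2 : ℤ) ^ n ∣ j := fun j => by
      rw [← orderOf_dvd_iff_zpow_eq_one, hxo, Nat.cast_pow, Nat.cast_ofNat]
    have hn1 : (2 : ℤ) ^ n = 2 * 2 ^ (n - 1) := CyclicMax.two_pow_pred (by omega)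
    have hz' : (x : H) ^ ((2 : ℤ) ^ (n - 1)) = c.z := by
      rw [show ((2 : ℤ) ^ (n - 1)) = (((2 : ℕ) ^ (n - 1) : ℕ) : ℤ) by push_cast; rfl, zpow_natCast, hxz]
    have hi2 : (2 : ℤ) ^ (n - 1) ∣ i := by
      rcases Int.even_or_odd i with ⟨j, rfl⟩ | ⟨j, rfl⟩
      · rw [show f * (j + j) = 2 * (f * j) by ring, zpow_mul, zpow_two, c.zz, one_zpow, hdvd, hn1] at h2
        rw [show j + j + (j + j) = 2 * (j + j) by ring] at h2
        exact Int.dvd_of_mul_dvd_mul_left two_ne_zero h2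
      · exfalso
        have h4 : (4 : ℤ) ∣ 2 ^ (n - 1) := by
          refine ⟨2 ^ (n - 3), ?_⟩
          rw [show (4 : ℤ) = 2 ^ 2 by norm_num, ← pow_add, show 2 + (n - 3) = n - 1 by omega]
        rcases hzi (f * (2 * j + 1)) with h | h <;> rw [h] at h2
        · rw [hdvd, hn1] at h2
          obtain ⟨q, hq⟩ := h2
          obtain ⟨r, hr⟩ := h4
          rw [hr] at hq
          have : 2 * j + 1 = 4 * (r * q) := by linarith
          omega
        · rw [← hz', ← div_eq_one, div_eq_mul_inv, ← zpow_neg, ← zpow_add, hdvd, hn1] at h2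
          obtain ⟨q, hq⟩ := h2
          obtain ⟨r, hr⟩ := h4
          rw [hr] at hq
          have : 2 * j + 1 = 2 * (r * (2 * q + 1)) := by linarith
          omega
    obtain ⟨j, rfl⟩ := hi2
    rw [zpow_mul, hz']
    rcases hzi j with h | h <;> rw [h]
    · left; rw [mul_one]
    · right; rfl
  have htQ : ∀ g : H, g⁻¹ * c.t * g ∉ Q := by
    intro g hg
    refine hd_cent g _ (hQinv _ hg ?_ ?_) rfl
    · intro h
      apply c.tA
      have := c.nA.conj_mem _ h g
      rwa [show g * (g⁻¹ * c.t * g) * g⁻¹ = c.t by group] at this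
    · rw [show g⁻¹ * c.t * g * (g⁻¹ * c.t * g) = g⁻¹ * (c.t * c.t) * g by group, c.tt, mul_one, inv_mul_cancel]
  -- index of `Q`
  have htu : c.t * c.u ∈ Q := by
    have : d * (x ^ e)⁻¹ ∈ Q := mul_mem (mem_sup_right (mem_zpowers d))
      (inv_mem (mem_sup_left (pow_mem (mem_zpowers x) e)))
    rwa [hd, mul_inv_cancel_right] at this
  have hQcard : Nat.card Q = 2 * 2 ^ n := by
    have hXQ : zpowers x ≤ Q := le_sup_left
    have hidx : ((zpowers x).subgroupOf Q).index = 2 := by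
      rw [index_eq_two_iff]
      refine ⟨⟨d, mem_sup_right (mem_zpowers d)⟩, fun b => ?_⟩
      rw [mem_subgroupOf, mem_subgroupOf]
      show Xor ((b : H) * d ∈ zpowers x) ((b : H) ∈ zpowers x)
      have hdX : d ∉ zpowers x := fun h => hdA (hXT h).1
      rcases hQmem b b.2 with h | h
      · refine Or.inr ⟨h, fun h' => hdX ?_⟩
        have := mul_mem (inv_mem h) h'
        rwa [inv_mul_cancel_left] at this
      · refine Or.inl ⟨?_, fun h' => hdX ?_⟩
        · have := (mem_normalizer_iff.1 (hdN (mem_zpowers d)) _).1 h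
          rwa [show d * (d * (b : H)) * d⁻¹ = (d * d) * b * d⁻¹ by group, hdd, one_mul,
            inv_eq_of_mul_eq_one_right hdd] at this
        · have := mul_mem h (inv_mem h')
          rwa [mul_inv_cancel_right] at this
    rw [← Subgroup.card_mul_index ((zpowers x).subgroupOf Q),
      Nat.card_congr (subgroupOfEquivOfLe hXQ).toEquiv, hXcard, hidx, mul_comm]
  have hScard : Nat.card (c.S : Subgroup H) = 2 * Nat.card c.T := by
    rw [← Subgroup.card_mul_index (c.T.subgroupOf (c.S : Subgroup H)),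
      Nat.card_congr (subgroupOfEquivOfLe c.T_le_S).toEquiv, mul_comm]
    congr 1
    rw [index_eq_two_iff]
    refine ⟨⟨c.t, c.tS⟩, fun b => ?_⟩
    rw [mem_subgroupOf, mem_subgroupOf]
    show Xor ((b : H) * c.t ∈ c.T) ((b : H) ∈ c.T)
    rcases c.mem_S_iff.1 b.2 with h | h
    · refine Or.inr ⟨h, fun h' => c.tA ?_⟩
      have := c.A.mul_mem (c.A.inv_mem h.1) h'.1
      rwa [inv_mul_cancel_left] at this
    · refine Or.inl ⟨h, fun h' => c.tA ?_⟩
      have := c.A.mul_mem (c.A.inv_mem h'.1) h.1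
      rwa [inv_mul_cancel_left] at this
  have hm : Odd (c.S : Subgroup H).index := Nat.odd_iff.2 (Nat.two_dvd_ne_zero.1 c.S.not_dvd_index)
  have hQidx : Q.index = 2 * (c.S : Subgroup H).index := by
    rw [← relIndex_mul_index hQS]
    congr 1
    have h1 := Subgroup.card_mul_index (Q.subgroupOf (c.S : Subgroup H))
    rw [Nat.card_congr (subgroupOfEquivOfLe hQS).toEquiv, hQcard, hScard, hTcard] at h1
    show (Q.subgroupOf (c.S : Subgroup H)).index = 2
    rw [mul_comm 2 (2 * 2 ^ n)] at h1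
    exact Nat.eq_of_mul_eq_mul_left (by positivity) h1
  -- fixed cosets of `d`
  set C : Subgroup H := centralizer ({d} : Set H) with hC
  have hdu : c.u⁻¹ * d * c.u = d * c.z := by
    rw [show c.u⁻¹ * d * c.u = c.u⁻¹ * (d * c.u * d⁻¹) * d by group, hconju, inv_mul_cancel_left]
    exact (c.z_comm_S hdS).symm
  have hpre : (QuotientGroup.mk : H → H ⧸ Q) ⁻¹' {y : H ⧸ Q | d • y = y} =
      (C : Set H) ∪ (fun g => g * c.u) '' (C : Set H) := by
    ext g
    simp only [Set.mem_preimage, Set.mem_union, Set.mem_image, SetLike.mem_coe]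
    show ((d * g : H) : H ⧸ Q) = g ↔ _
    rw [QuotientGroup.eq]
    constructor
    · intro h
      have h' : g⁻¹ * d * g ∈ Q := by
        have := inv_mem h
        rwa [mul_inv_rev, inv_inv, ← mul_assoc] at this
      have hqA : g⁻¹ * d * g ∉ c.A := fun h2 => hdA (by
        have := c.nA.conj_mem _ h2 g
        rwa [show g * (g⁻¹ * d * g) * g⁻¹ = d by group] at this)
      have hqq : g⁻¹ * d * g * (g⁻¹ * d * g) = 1 := by
        rw [show g⁻¹ * d * g * (g⁻¹ * d * g) = g⁻¹ * (d * d) * g by group, hdd, mul_one, inv_mul_cancel]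
      rcases hQinv _ h' hqA hqq with h2 | h2
      · left
        rw [hC, mem_centralizer_singleton_iff]
        calc g * d = g * (g⁻¹ * d * g) := by rw [h2]
          _ = d * g := by group
      · right
        refine ⟨g * c.u⁻¹, ?_, by group⟩
        rw [hC, mem_centralizer_singleton_iff]
        calc g * c.u⁻¹ * d = g * (c.u⁻¹ * d * c.u) * c.u⁻¹ := by group
          _ = g * (g⁻¹ * d * g) * c.u⁻¹ := by rw [hdu, h2]
          _ = d * (g * c.u⁻¹) := by group
    · intro h
      have hmem : g⁻¹ * d * g ∈ Q := by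
        rcases h with h | ⟨g', hg', rfl⟩
        · rw [mul_assoc, ← mem_centralizer_singleton_iff.1 h, inv_mul_cancel_left]
          exact mem_sup_right (mem_zpowers d)
        · rw [show (g' * c.u)⁻¹ * d * (g' * c.u) = c.u⁻¹ * (g'⁻¹ * (d * g')) * c.u by group,
            ← mem_centralizer_singleton_iff.1 hg', inv_mul_cancel_left, hdu]
          exact mul_mem (mem_sup_right (mem_zpowers d)) (mem_sup_left (hxz ▸ pow_mem (mem_zpowers x) _))
      have := inv_mem hmem
      rwa [mul_inv_rev, mul_inv_rev, inv_inv, ← mul_assoc, inv_eq_of_mul_eq_one_right hdd,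
        show g⁻¹ * d * g = (d * g)⁻¹ * g by rw [mul_inv_rev, inv_eq_of_mul_eq_one_right hdd]] at this
  have hcardF : ((C : Set H) ∪ (fun g => g * c.u) '' (C : Set H)).ncard = 2 * Nat.card C := by
    rw [Set.ncard_union_eq, Set.ncard_image_of_injective _ (mul_left_injective c.u),
      show (C : Set H).ncard = Nat.card C from (Nat.card_coe_set_eq _).symm, two_mul]
    rw [Set.disjoint_left]
    rintro g hg ⟨g', hg', rfl⟩
    have hu' : c.u ∈ C := by
      have := mul_mem (inv_mem hg') hg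
      rwa [inv_mul_cancel_left] at this
    exact huD ⟨c.u_mem, hu'⟩
  have hF : Nat.card Q * {y : H ⧸ Q | d • y = y}.ncard = 2 * Nat.card C := by
    rw [← hcardF, ← hpre, ← Nat.card_coe_set_eq, ← Nat.card_coe_set_eq,
      Nat.card_congr (QuotientGroup.preimageMkEquivSubgroupProdSet Q _), Nat.card_prod]
  set CA : Subgroup H := C ⊓ c.A with hCA
  have hCcard : Nat.card C = 2 * Nat.card CA := by
    rw [← Subgroup.card_mul_index (CA.subgroupOf C),
      Nat.card_congr (subgroupOfEquivOfLe (inf_le_left : CA ≤ C)).toEquiv, mul_comm]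
    congr 1
    rw [index_eq_two_iff]
    have hdC : d ∈ C := mem_centralizer_singleton_iff.2 rfl
    refine ⟨⟨d, hdC⟩, fun b => ?_⟩
    rw [mem_subgroupOf, mem_subgroupOf]
    show Xor ((b : H) * d ∈ CA) ((b : H) ∈ CA)
    simp only [hCA, mem_inf, mul_mem b.2 hdC, b.2, true_and, mul_mem_iff_of_index_two c.idx, hdA,
      iff_false]
    by_cases hb : (b : H) ∈ c.A <;> simp [hb, Xor]
  obtain ⟨k, hk⟩ : 2 ^ n ∣ Nat.card CA := hDcard ▸ card_dvd_of_le (le_inf inf_le_right
    (inf_le_left.trans c.T_le_A) : D ≤ CA)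
  have hkodd : Odd k := by
    rw [← Nat.not_even_iff_odd]
    rintro ⟨k', hk'⟩
    -- `d` centralizes a Sylow subgroup of `A`
    have hdiv : 2 ^ (n + 1) ∣ Nat.card CA := ⟨k', by rw [hk, hk', pow_succ]; ring⟩
    obtain ⟨R, hR⟩ := Sylow.exists_subgroup_card_pow_prime 2 hdiv
    let R' : Subgroup H := R.map CA.subtype
    have hR' : Nat.card R' = 2 ^ (n + 1) := (card_map_of_injective CA.subtype_injective).trans hR
    have hR'CA : R' ≤ CA := map_subtype_le _
    let RA : Subgroup c.A := R'.subgroupOf c.A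
    have hRAcard : Nat.card RA = Nat.card (c.TA : Subgroup c.A) := by
      rw [Nat.card_congr (subgroupOfEquivOfLe (hR'CA.trans inf_le_right)).toEquiv, hR',
        show (c.TA : Subgroup c.A) = c.T.subgroupOf c.A from IsPGroup.toSylow_coe ..,
        Nat.card_congr (subgroupOfEquivOfLe c.T_le_A).toEquiv, hTcard, pow_succ']
    have hRAp : IsPGroup 2 RA := IsPGroup.of_card (n := n + 1)
      ((Nat.card_congr (subgroupOfEquivOfLe (hR'CA.trans inf_le_right)).toEquiv).trans hR')
    obtain ⟨RS, hRS⟩ := hRAp.exists_le_sylow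
    have hRSeq : RA = RS := eq_of_le_of_card_ge hRS (by rw [hRAcard, RS.card_eq_multiplicity, c.TA.card_eq_multiplicity])
    obtain ⟨a, ha⟩ := MulAction.exists_smul_eq c.A RS c.TA
    set d' : H := (a : H) * d * (a : H)⁻¹ with hd'
    have hd'c : ∀ y ∈ c.T, d' * y = y * d' := by
      intro y hy
      have hy' : (⟨y, hy.1⟩ : c.A) ∈ ((a • RS : Sylow 2 c.A) : Subgroup c.A) := by
        rw [ha]; exact c.mem_TA.2 hy
      obtain ⟨r, hr, hra⟩ := hy'
      rw [← hRSeq] at hr
      have hrd : (r : H) * d = d * r := mem_centralizer_singleton_iff.1 (hR'CA hr).1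
      have hya : y = (a : H) * r * (a : H)⁻¹ := (congrArg Subtype.val hra).symm
      rw [hd', hya, show (a : H) * d * (a : H)⁻¹ * ((a : H) * r * (a : H)⁻¹) = (a : H) * (d * r) * (a : H)⁻¹ by group,
        ← hrd]
      group
    -- move `d'` into `S`
    let N : Subgroup H := normalizer (c.T : Set H)
    have hSN : (c.S : Subgroup H) ≤ N := fun g hg => mem_normalizer_iff.2 fun y =>
      ⟨c.T_normal hg, fun h => by
        have := c.T_normal (inv_mem hg) h
        rwa [show g⁻¹ * (g * y * g⁻¹) * g⁻¹⁻¹ = y by group] at this⟩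
    have hd'2 : d' * d' = 1 := by
      rw [hd', show (a : H) * d * (a : H)⁻¹ * ((a : H) * d * (a : H)⁻¹) = (a : H) * (d * d) * (a : H)⁻¹ by group,
        hdd, mul_one, mul_inv_cancel]
    have hd'N : d' ∈ N := mem_normalizer_iff.2 fun y => ⟨fun h => by
      rw [hd'c y h, mul_inv_cancel_right]; exact h, fun h => by
      have h1 := hd'c _ h
      rw [show d' * (d' * y * d'⁻¹) = (d' * d') * y * d'⁻¹ by group, hd'2, one_mul,
        inv_mul_cancel_right, inv_eq_of_mul_eq_one_right hd'2] at h1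
      rw [inv_eq_of_mul_eq_one_right hd'2] at h
      rwa [← h1, mul_assoc, hd'2, mul_one] at h⟩
    let d'' : N := ⟨d', hd'N⟩
    have hd''p : IsPGroup 2 (zpowers d'') := by
      intro y
      obtain ⟨i, hi⟩ := y.2
      refine ⟨1, Subtype.ext ?_⟩
      show (y : N) ^ 2 ^ 1 = 1
      rw [← hi, pow_one, ← zpow_natCast, ← zpow_mul, mul_comm, zpow_mul,
        show d'' ^ ((2 : ℕ) : ℤ) = 1 by
          rw [zpow_natCast, pow_two]; exact Subtype.ext hd'2, one_zpow]
    obtain ⟨R'', hR''⟩ := hd''p.exists_le_sylow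
    obtain ⟨q, hq⟩ := MulAction.exists_smul_eq N R'' (c.S.subtype hSN)
    have hmem : (q : H) * d' * (q : H)⁻¹ ∈ (c.S : Subgroup H) := by
      have : q * d'' * q⁻¹ ∈ ((c.S.subtype hSN : Sylow 2 N) : Subgroup N) := by
        rw [← hq]
        exact Subgroup.smul_mem_pointwise_smul d'' (MulAut.conj q) _ (hR'' (mem_zpowers d''))
      exact this
    refine c.not_centralize hmem (fun h => hdA ?_) ?_ hrank fun y hy => ?_
    · have h1 := c.nA.conj_mem _ h (q : H)⁻¹
      rw [show (q : H)⁻¹ * ((q : H) * d' * (q : H)⁻¹) * (q : H)⁻¹⁻¹ = d' by group] at h1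
      have h2 := c.nA.conj_mem _ h1 (a : H)⁻¹
      rwa [hd', show (a : H)⁻¹ * ((a : H) * d * (a : H)⁻¹) * (a : H)⁻¹⁻¹ = d by group] at h2
    · rw [show (q : H) * d' * (q : H)⁻¹ * ((q : H) * d' * (q : H)⁻¹) = (q : H) * (d' * d') * (q : H)⁻¹ by group,
        hd'2, mul_one, mul_inv_cancel]
    · have hy' : (q : H)⁻¹ * y * q ∈ c.T := by
        refine (mem_normalizer_iff.1 q.2 _).2 ?_
        rwa [show (q : H) * ((q : H)⁻¹ * y * q) * (q : H)⁻¹ = y by group]
      have h1 := hd'c _ hy'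
      calc (q : H) * d' * (q : H)⁻¹ * y = (q : H) * (d' * ((q : H)⁻¹ * y * q)) * (q : H)⁻¹ := by group
        _ = y * ((q : H) * d' * (q : H)⁻¹) := by rw [h1]; group
  have hfcard : {y : H ⧸ Q | d • y = y}.ncard = 2 * k := by
    rw [hQcard, hCcard, hk] at hF
    refine Nat.eq_of_mul_eq_mul_left (show 0 < 2 * 2 ^ n by positivity) (hF.trans ?_)
    ring
  obtain ⟨M, hMn, hM2, htM, hdM⟩ := sign_ne Q hm hkodd hQidx c.tt hdd htQ hfcard
  haveI := hMn
  haveI : IsCyclic (H ⧸ M) := isCyclic_of_prime_card (p := 2) (by rw [← index_eq_card]; exact hM2)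
  letI : CommGroup (H ⧸ M) := IsCyclic.commGroup
  have hAM : c.A ≤ M := fun a ha => by
    have := c.hom_trivial ((QuotientGroup.mk' M).comp c.A.subtype) ⟨a, ha⟩
    exact (QuotientGroup.eq_one_iff _).1 this
  have hMA : M ≤ c.A := fun m hm' => by
    by_contra hmA
    apply htM
    have := mul_mem (hAM ((mul_mem_iff_of_index_two c.idx).2 (iff_of_false c.tA hmA) : c.t * m ∈ c.A)) (inv_mem hm')
    rwa [mul_inv_cancel_right] at this
  exact hdA (hMA hdM)

end Cfsg.Lib.FourFixed
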