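/-
A four group in `T` normal in `S` exists.
-/
import Cfsg.Agent.Components.FourFixed.NoFour

set_option autoImplicit false
set_option linter.style.haveILetI false
set_option linter.unusedSectionVars false

namespace Cfsg.Lib.FourFixed

open Subgroup

universe v

variable {H : Type v} [Group H] [Finite H] (c : Conf H)

/-- An involution of a normal abelian subgroup other than `z` yields a normal four group. -/
theorem Conf.isW_of_normal_abelian (X : Subgroup H) (hX : X ≤ c.T) (hXc : IsMulCommutative X)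
    (hXn : ∀ g ∈ (c.S : Subgroup H), ∀ y ∈ X, g * y * g⁻¹ ∈ X) (hzX : c.z ∈ X) {a : H}
    (haX : a ∈ X) (haa : a * a = 1) (ha1 : a ≠ 1) (haz : a ≠ c.z) : ∃ w, c.IsW w := by
  classical
  haveI : Fact (Nat.Prime 2) := ⟨Nat.prime_two⟩
  let S : Subgroup H := (c.S : Subgroup H)
  have hS : IsPGroup 2 S := c.S.isPGroup'
  have hcomm : ∀ p q : H, p ∈ X → q ∈ X → p * q = q * p := fun p q hp hq =>
    congrArg Subtype.val (hXc.is_comm.comm (⟨p, hp⟩ : X) ⟨q, hq⟩)
  let Ω : Subgroup S :=
    { carrier := {y | (y : H) ∈ X ∧ y * y = 1}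
      one_mem' := ⟨one_mem _, one_mul 1⟩
      mul_mem' := fun {p q} hp hq => ⟨mul_mem hp.1 hq.1, by
        have hpq : q * p = p * q := Subtype.ext (hcomm _ _ hq.1 hp.1)
        calc p * q * (p * q) = p * (q * p) * q := by simp only [mul_assoc]
          _ = (p * p) * (q * q) := by rw [hpq]; simp only [mul_assoc]
          _ = 1 := by rw [hp.2, hq.2, one_mul]⟩
      inv_mem' := fun {p} hp => ⟨inv_mem hp.1, by rw [← mul_inv_rev, hp.2, inv_one]⟩ }
  haveI : Ω.Normal := ⟨fun y hy g => ⟨hXn g g.2 y hy.1, by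
    rw [show g * y * g⁻¹ * (g * y * g⁻¹) = g * (y * y) * g⁻¹ by group, hy.2, mul_one, mul_inv_cancel]⟩⟩
  let Z : Subgroup S := (zpowers c.z).subgroupOf S
  haveI : Z.Normal := ⟨fun y hy g => by
    show (g : H) * y * (g : H)⁻¹ ∈ zpowers c.z
    rcases c.zpowers_z (show (y : H) ∈ zpowers c.z from hy) with e | e <;> rw [e]
    · rw [mul_one, mul_inv_cancel]; exact one_mem _
    · rw [c.z_comm_S g.2, mul_inv_cancel_right]; exact mem_zpowers _⟩
  have hlt : Z < Ω := by
    refine lt_of_le_of_ne (fun y hy => ?_) fun he => ?_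
    · rcases c.zpowers_z (show (y : H) ∈ zpowers c.z from hy) with e | e
      · exact ⟨e ▸ one_mem _, Subtype.ext (by show (y : H) * y = 1; rw [e, one_mul])⟩
      · exact ⟨e ▸ hzX, Subtype.ext (by show (y : H) * y = 1; rw [e, c.zz])⟩
    · have : (⟨a, (hX haX).2⟩ : S) ∈ Z := he ▸ (show (⟨a, (hX haX).2⟩ : S) ∈ Ω from ⟨haX, Subtype.ext haa⟩)
      rcases c.zpowers_z this with h | h
      exacts [ha1 h, haz h]
  obtain ⟨K, hKn, hZK, hKΩ, hi⟩ := Cfsg.Lib.PGroups.exists_normal_relIndex_prime hS hlt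
  obtain ⟨s, hsK, hsZ⟩ : ∃ s ∈ K, s ∉ Z := by
    by_contra h'
    push Not at h'
    rw [relIndex_eq_one.2 (fun y hy => h' y hy)] at hi
    omega
  have hs1 : (s : H) ≠ 1 := fun h => hsZ (show (s : H) ∈ zpowers c.z by rw [h]; exact one_mem _)
  have hsz : (s : H) ≠ c.z := fun h => hsZ (show (s : H) ∈ zpowers c.z by rw [h]; exact mem_zpowers _)
  have hss : (s : H) * s = 1 := congrArg Subtype.val (hKΩ hsK).2
  refine ⟨s, c.isW_of (hX (hKΩ hsK).1) hss hs1 hsz fun g hg => ?_⟩
  rcases Cfsg.Lib.FoursRankOne.eq_or_eq_mul_of_index_two hi hsK hsZ (hKn.conj_mem s hsK ⟨g, hg⟩) with h | h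
  · exfalso
    rcases c.zpowers_z (show g * s * g⁻¹ ∈ zpowers c.z from h) with h | h
    · exact hs1 (conj_eq_one_iff.1 h)
    · exact hsz (mul_left_cancel ((mul_inv_eq_iff_eq_mul.1 h).trans (c.z_comm_S hg).symm))
  · rcases c.zpowers_z (show (s : H)⁻¹ * (g * s * g⁻¹) ∈ zpowers c.z from h) with h | h
    · exact Or.inl (inv_mul_eq_one.1 h).symm
    · exact Or.inr (inv_mul_eq_iff_eq_mul.1 h)

/-- The same action on a cyclic subgroup. -/
theorem zpowers_conj_eq {x g : H} {k : ℤ} (h : g * x * g⁻¹ = x ^ k) (i : ℤ) :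
    g * x ^ i * g⁻¹ = x ^ (k * i) := by
  rw [← conj_zpow, h, ← zpow_mul]

theorem Conf.exists_W (hrank : ∃ s ∈ c.T, s * s = 1 ∧ s ≠ 1 ∧ s ≠ c.z) : ∃ w, c.IsW w := by
  classical
  haveI : Fact (Nat.Prime 2) := ⟨Nat.prime_two⟩
  by_contra hcon
  obtain ⟨X, ⟨hXT, hXc, hXn⟩, hmax⟩ := exists_maximal_of_wellFoundedGT
    (fun A : Subgroup H => A ≤ c.T ∧ IsMulCommutative A ∧ ∀ g ∈ (c.S : Subgroup H), ∀ y ∈ A, g * y * g⁻¹ ∈ A)
    ⟨⊥, bot_le, inferInstance, fun g _ y hy => by
      rw [mem_bot.1 hy, mul_one, mul_inv_cancel]; exact one_mem _⟩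
  have hcomm : ∀ p ∈ X, ∀ q ∈ X, p * q = q * p := fun p hp q hq =>
    congrArg Subtype.val (hXc.is_comm.comm (⟨p, hp⟩ : X) ⟨q, hq⟩)
  -- self-centralizing
  have hCX : ∀ y ∈ c.T, (∀ q ∈ X, y * q = q * y) → y ∈ X := by
    by_contra hc
    push Not at hc
    obtain ⟨y, hyT, hyc, hyX⟩ := hc
    let S : Subgroup H := (c.S : Subgroup H)
    let X₀ : Subgroup S := X.subgroupOf S
    let C₀ : Subgroup S := (centralizer (X : Set H) ⊓ c.T).subgroupOf S
    haveI : X₀.Normal := ⟨fun q hq g => hXn g g.2 q hq⟩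
    haveI : C₀.Normal := ⟨fun q hq g => ⟨mem_centralizer_iff.2 fun p hp => by
      have hp' : (g : H)⁻¹ * p * g ∈ X := by
        have := hXn _ (inv_mem g.2) p hp
        rwa [inv_inv] at this
      have : (g : H)⁻¹ * p * g * (q : H) = (q : H) * ((g : H)⁻¹ * p * g) :=
        mem_centralizer_iff.1 hq.1 _ hp'
      calc p * ((g : H) * q * (g : H)⁻¹) = (g : H) * (((g : H)⁻¹ * p * g) * q) * (g : H)⁻¹ := by group
        _ = (g : H) * q * (g : H)⁻¹ * p := by rw [this]; group, c.T_normal g.2 hq.2⟩⟩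
    have hlt : X₀ < C₀ := by
      refine lt_of_le_of_ne (fun q hq => ⟨mem_centralizer_iff.2 fun p hp => hcomm p hp _ hq, hXT hq⟩)
        fun he => hyX ?_
      have : (⟨y, hyT.2⟩ : S) ∈ X₀ :=
        he ▸ (show (⟨y, hyT.2⟩ : S) ∈ C₀ from ⟨mem_centralizer_iff.2 fun p hp => (hyc p hp).symm, hyT⟩)
      exact this
    obtain ⟨K, hKn, hXK, hKC, hi⟩ := Cfsg.Lib.PGroups.exists_normal_relIndex_prime c.S.isPGroup' hlt
    obtain ⟨r, hrK, hrX⟩ : ∃ r ∈ K, r ∉ X₀ := by
      by_contra h'
      push Not at h'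
      rw [relIndex_eq_one.2 (fun a ha => h' a ha)] at hi
      omega
    have hrc : ∀ q : S, q ∈ X₀ → r * q = q * r := fun q hq =>
      Subtype.ext ((mem_centralizer_iff.1 (hKC hrK).1 _ hq).symm)
    have hKcomm : ∀ a ∈ K, a * r = r * a := fun a ha => by
      rcases Cfsg.Lib.FoursRankOne.eq_or_eq_mul_of_index_two hi hrK hrX ha with h' | h'
      · exact (hrc a h').symm
      · have := hrc _ h'
        rw [mul_inv_cancel_left] at this
        calc a * r = r * (r⁻¹ * a * r) := by group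
          _ = r * a := by rw [← this]
    have hKab : ∀ a ∈ K, ∀ b ∈ K, a * b = b * a := fun a ha b hb => by
      have hXa : ∀ q : S, q ∈ X₀ → a * q = q * a := fun q hq =>
        Subtype.ext ((mem_centralizer_iff.1 (hKC ha).1 _ hq).symm)
      rcases Cfsg.Lib.FoursRankOne.eq_or_eq_mul_of_index_two hi hrK hrX hb with h' | h'
      · exact hXa b h'
      · calc a * b = (a * r) * (r⁻¹ * b) := by group
          _ = r * (a * (r⁻¹ * b)) := by rw [hKcomm a ha, mul_assoc]
          _ = b * a := by rw [hXa _ h']; group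
    have hKmap : K.map S.subtype ≤ c.T := by
      rintro _ ⟨q, hq, rfl⟩
      exact (hKC hq).2
    have := hmax ⟨hKmap, ⟨⟨fun ⟨_, p, hp, ep⟩ ⟨_, q, hq, eq'⟩ => Subtype.ext (by
        show (_ : H) * _ = _ * _
        subst ep eq'
        exact congrArg Subtype.val (hKab p hp q hq))⟩⟩, fun g hg _ hq => by
        obtain ⟨q, hq, rfl⟩ := hq
        exact ⟨⟨g, hg⟩ * q * ⟨g, hg⟩⁻¹, hKn.conj_mem q hq _, rfl⟩⟩
      (fun q hq => ⟨⟨q, (hXT hq).2⟩, hXK hq, rfl⟩)
    exact hrX (this ⟨r, hrK, rfl⟩)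
  have hzX : c.z ∈ X := hCX c.z c.z_mem fun q hq => (c.z_comm (hXT hq)).symm
  have hinv : ∀ a ∈ X, a * a = 1 → a = 1 ∨ a = c.z := fun a ha haa => by
    by_contra hc
    push Not at hc
    exact hcon (c.isW_of_normal_abelian X hXT hXc hXn hzX ha haa hc.1 hc.2)
  -- `X` is cyclic
  haveI : IsCyclic X := by
    letI : CommGroup X := { (inferInstance : Group X) with mul_comm := hXc.is_comm.comm }
    haveI : Fintype X := Fintype.ofFinite X
    have hbound : ∀ k, (Finset.univ.filter fun x : X => x ^ 2 ^ k = 1).card ≤ 2 ^ k := by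
      intro k
      induction k with
      | zero => simp [Finset.filter_eq']
      | succ k ih =>
        calc (Finset.univ.filter fun x : X => x ^ 2 ^ (k + 1) = 1).card
            ≤ 2 * (Finset.univ.filter fun x : X => x ^ 2 ^ k = 1).card := by
              refine Finset.card_le_mul_card_image_of_maps_to (f := fun x : X => x ^ 2) ?_ 2 ?_
              · intro x hx
                simp only [Finset.mem_univ, true_and, Finset.mem_filter] at hx ⊢
                rw [← pow_mul, mul_comm, ← pow_succ, hx]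
              · intro y _
                rcases (Finset.filter (fun x : X => x ^ 2 = y)
                  (Finset.univ.filter fun x : X => x ^ 2 ^ (k + 1) = 1)).eq_empty_or_nonempty with h | ⟨a₀, ha₀⟩
                · rw [h, Finset.card_empty]; omega
                simp only [Finset.mem_filter] at ha₀
                refine (Finset.card_le_card (t := {a₀, a₀ * ⟨c.z, hzX⟩}) ?_).trans Finset.card_le_two
                intro x hx
                simp only [Finset.mem_filter] at hx
                have h : (a₀⁻¹ * x) ^ 2 = 1 := by rw [mul_pow, inv_pow, ha₀.2, hx.2, inv_mul_cancel]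
                rcases hinv _ (a₀⁻¹ * x).2 (by simpa [pow_two] using congrArg Subtype.val h) with h' | h'
                · simp [(inv_mul_eq_one.1 (show a₀⁻¹ * x = 1 from Subtype.ext h'))]
                · simp [show x = a₀ * ⟨c.z, hzX⟩ from inv_mul_eq_iff_eq_mul.1 (show a₀⁻¹ * x = ⟨c.z, hzX⟩ from Subtype.ext h')]
          _ ≤ 2 * 2 ^ k := Nat.mul_le_mul_left 2 ih
          _ = 2 ^ (k + 1) := by rw [pow_succ, mul_comm]
    refine isCyclic_of_card_pow_eq_one_le fun m hm => ?_
    obtain ⟨n, hn⟩ := IsPGroup.iff_card.1 (c.isPGroup_T.to_le hXT)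
    obtain ⟨i, -, hi⟩ := (Nat.dvd_prime_pow Nat.prime_two).1 (Nat.gcd_dvd_right m (2 ^ n))
    calc (Finset.univ.filter fun x : X => x ^ m = 1).card
        ≤ (Finset.univ.filter fun x : X => x ^ 2 ^ i = 1).card := by
          refine Finset.card_le_card fun x hx => ?_
          simp only [Finset.mem_filter, Finset.mem_univ, true_and] at hx ⊢
          rw [← hi]
          exact pow_gcd_eq_one.2 ⟨hx, by rw [← hn]; exact pow_card_eq_one'⟩
      _ ≤ 2 ^ i := hbound i
      _ ≤ m := Nat.le_of_dvd hm (hi ▸ Nat.gcd_dvd_left m (2 ^ n))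
  obtain ⟨⟨x, hxX⟩, hgen⟩ := IsCyclic.exists_generator (α := X)
  have hXeq : ∀ q, q ∈ X ↔ q ∈ zpowers x := by
    refine fun q => ⟨fun hq => ?_, fun hq => (zpowers_le.2 hxX) hq⟩
    obtain ⟨i, hi⟩ := hgen ⟨q, hq⟩
    exact ⟨i, congrArg Subtype.val hi⟩
  have hxT : x ∈ c.T := hXT hxX
  obtain ⟨n, hn⟩ := IsPGroup.iff_orderOf.1 c.isPGroup_T ⟨x, hxT⟩
  rw [Subgroup.orderOf_mk] at hn
  have hn1 : 1 ≤ n := by
    rcases Nat.eq_zero_or_pos n with rfl | h
    · rw [pow_zero, orderOf_eq_one_iff] at hn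
      have := (hXeq c.z).1 hzX
      rw [hn, zpowers_one_eq_bot, mem_bot] at this
      exact absurd this c.z_ne
    · exact h
  have hhalf : x ^ 2 ^ (n - 1) = c.z := by
    refine (hinv _ (pow_mem hxX _) ?_).resolve_left fun h => ?_
    · rw [← pow_add, ← two_mul, ← pow_succ', show n - 1 + 1 = n by omega, ← hn, pow_orderOf_eq_one]
    · have := orderOf_dvd_of_pow_eq_one h
      rw [hn, Nat.pow_dvd_pow_iff_le_right (by norm_num)] at this
      omega
  have heq : ∀ i j : ℤ, x ^ i = x ^ j ↔ (2 : ℤ) ^ n ∣ j - i :=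
    Cfsg.Lib.FoursRankOne.zpow_eq_iff_dvd hn
  have hzpow : c.z = x ^ ((2 : ℤ) ^ (n - 1)) := by
    rw [show ((2 : ℤ) ^ (n - 1)) = (((2 : ℕ) ^ (n - 1) : ℕ) : ℤ) by push_cast; rfl, zpow_natCast, hhalf]
  have hnorm : ∀ g ∈ (c.S : Subgroup H), ∃ k : ℤ, g * x * g⁻¹ = x ^ k := fun g hg => by
    obtain ⟨k, hk⟩ := (hXeq _).1 (hXn g hg x hxX)
    exact ⟨k, hk.symm⟩
  have hinX : ∀ g ∈ c.T, g * x * g⁻¹ = x → g ∈ X := fun g hg h => hCX g hg fun q hq => by
    obtain ⟨i, rfl⟩ := (hXeq q).1 hq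
    exact ((show Commute g x from mul_inv_eq_iff_eq_mul.1 h).zpow_right i).eq
  -- no element acts as the modular automorphism
  have hmod : 3 ≤ n → ∀ g ∈ c.T, g * x * g⁻¹ ≠ x * c.z := by
    intro hn3 g hg hgx
    have hzi : ∀ i : ℤ, c.z ^ i = 1 ∨ c.z ^ i = c.z := fun i => c.zpowers_z ⟨i, rfl⟩
    have hcz : Commute c.z x := (c.z_comm hxT).symm
    have hgi : ∀ i : ℤ, g * x ^ i * g⁻¹ = x ^ i * c.z ^ i := fun i => by
      rw [← conj_zpow, hgx, hcz.symm.mul_zpow]
    -- `g ^ 2` lies in `X`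
    have hgg : g * g ∈ X := hinX _ (mul_mem hg hg) (by
      rw [show g * g * x * (g * g)⁻¹ = g * (g * x * g⁻¹) * g⁻¹ by group, hgx,
        show g * (x * c.z) * g⁻¹ = (g * x * g⁻¹) * (g * c.z * g⁻¹) by group, hgx, c.z_comm hg,
        mul_inv_cancel_right, mul_assoc, c.zz, mul_one])
    obtain ⟨j, hj⟩ := (hXeq _).1 hgg
    obtain ⟨j', rfl⟩ : Even j := by
      rcases Int.even_or_odd j with h | ⟨m, rfl⟩
      · exact h
      exfalso
      have h1 := hgi (2 * m + 1)
      rw [show x ^ (2 * m + 1) = g * g from hj, mul_assoc, mul_inv_cancel_right, zpow_add_one, zpow_mul, zpow_two,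
        c.zz, one_zpow, one_mul] at h1
      exact c.z_ne (mul_left_cancel (h1.symm.trans (mul_one _).symm))
    -- squares in `g X`
    have hsq : ∀ i : ℤ, (g * x ^ i) * (g * x ^ i) = x ^ (j' + j' + 2 * i) * c.z ^ i := fun i => by
      rw [show g * x ^ i * (g * x ^ i) = (g * x ^ i * g⁻¹) * (g * g) * x ^ i by group, hgi,
        ← show x ^ (j' + j') = g * g from hj, mul_assoc, mul_assoc, ← zpow_add,
        (hcz.zpow_zpow i (j' + j' + i)).eq, ← mul_assoc, ← zpow_add]
      congr 2
      ring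
    set h : ℤ := 2 ^ (n - 2) with hh
    have hh2 : x ^ (2 * h) = c.z := by
      rw [hzpow, hh, ← pow_succ', show n - 2 + 1 = n - 1 by omega]
    have heven : Even h := by
      rw [hh]; exact (Int.even_pow' (by omega)).2 even_two
    obtain ⟨i, hi⟩ : ∃ i : ℤ, x ^ (j' + j' + 2 * i) * c.z ^ i = 1 := by
      rcases Int.even_or_odd j' with ⟨m, hm⟩ | hodd
      · refine ⟨-j', ?_⟩
        rw [show j' + j' + 2 * -j' = 0 by ring, zpow_zero, one_mul, hm, show -(m + m) = 2 * -m by ring,
          zpow_mul, zpow_two, c.zz, one_zpow]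
      · refine ⟨-j' + h, ?_⟩
        obtain ⟨m, hm⟩ := hodd
        obtain ⟨m', hm'⟩ := heven
        rw [show j' + j' + 2 * (-j' + h) = 2 * h by ring, hh2, hm, hm',
          show -(2 * m + 1) + (m' + m') = 2 * (m' - m - 1) + 1 by ring, zpow_add_one, zpow_mul, zpow_two,
          c.zz, one_zpow, one_mul, c.zz]
    set w := g * x ^ i with hw
    have hww : w * w = 1 := (hsq i).trans hi
    have hwT : w ∈ c.T := mul_mem hg (zpow_mem hxT i)
    have hwX : w ∉ X := fun h' => by
      have hgX : g ∈ X := by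
        have := mul_mem h' (inv_mem (zpow_mem hxX i))
        rwa [hw, mul_inv_cancel_right] at this
      have := hcomm g hgX x hxX
      rw [this, mul_inv_cancel_right] at hgx
      exact c.z_ne (mul_left_cancel (hgx.symm.trans (mul_one _).symm))
    have hwx : w * x * w⁻¹ = x * c.z := by
      rw [hw, show g * x ^ i * x * (g * x ^ i)⁻¹ = g * (x ^ i * x * (x ^ i)⁻¹) * g⁻¹ by group,
        ((Commute.refl x).zpow_left i).eq, mul_inv_cancel_right, hgx]
    refine hcon ⟨w, c.isW_of hwT hww (fun e => hwX (e ▸ one_mem _)) (fun e => hwX (e ▸ hzX)) fun r hr => ?_⟩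
    -- conjugates of `w` lie in `w X`
    obtain ⟨k, hk⟩ := hnorm r hr
    obtain ⟨l, hl⟩ := hnorm r⁻¹ (inv_mem hr)
    rw [inv_inv] at hl
    have hrw : w⁻¹ * (r * w * r⁻¹) ∈ X := by
      refine hinX _ (mul_mem (inv_mem hwT) (c.T_normal hr hwT)) ?_
      have hlk : x ^ (k * l) = x := by
        rw [← zpowers_conj_eq hk l, ← hl]
        group
      have hwl : w * x ^ l * w⁻¹ = x ^ l * c.z ^ l := by
        rw [← conj_zpow, hwx, hcz.symm.mul_zpow]
      have h1 : r * w * r⁻¹ * x * (r * w * r⁻¹)⁻¹ = x * c.z ^ l := by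
        rw [show r * w * r⁻¹ * x * (r * w * r⁻¹)⁻¹ = r * (w * (r⁻¹ * x * r) * w⁻¹) * r⁻¹ by group, hl, hwl,
          show r * (x ^ l * c.z ^ l) * r⁻¹ = (r * x ^ l * r⁻¹) * (r * c.z ^ l * r⁻¹) by group,
          zpowers_conj_eq hk, hlk, ← conj_zpow, c.z_comm_S hr, mul_inv_cancel_right]
      have hlo : c.z ^ l = c.z := by
        refine (hzi l).resolve_left fun e => ?_
        rcases Int.even_or_odd l with ⟨m, rfl⟩ | ⟨m, rfl⟩
        · have h2 := hlk
          rw [show k * (m + m) = 2 * (k * m) by ring] at h2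
          have h3 := (heq _ 1).1 (by rw [h2, zpow_one])
          have h4 : (2 : ℤ) ∣ 2 ^ n := dvd_pow_self 2 (by omega)
          obtain ⟨q, hq⟩ := h4.trans h3
          omega
        · rw [zpow_add_one, zpow_mul, zpow_two, c.zz, one_zpow, one_mul] at e
          exact c.z_ne e
      rw [show w⁻¹ * (r * w * r⁻¹) * x * (w⁻¹ * (r * w * r⁻¹))⁻¹ =
        w⁻¹ * (r * w * r⁻¹ * x * (r * w * r⁻¹)⁻¹) * w by group, h1, hlo, ← hwx]
      group
    obtain ⟨m, hm⟩ := (hXeq _).1 hrw
    have hm' : r * w * r⁻¹ = w * x ^ m := by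
      rw [show x ^ m = w⁻¹ * (r * w * r⁻¹) from hm, mul_inv_cancel_left]
    have hsqm : x ^ (m + m) * c.z ^ m = 1 := by
      have h1 : (w * x ^ m) * (w * x ^ m) = 1 := by
        rw [← hm', show r * w * r⁻¹ * (r * w * r⁻¹) = r * (w * w) * r⁻¹ by group, hww, mul_one, mul_inv_cancel]
      rw [show w * x ^ m * (w * x ^ m) = (w * x ^ m * w⁻¹) * (w * w) * x ^ m by group, hww, mul_one,
        ← conj_zpow, hwx, hcz.symm.mul_zpow, mul_assoc, (hcz.zpow_zpow m m).eq, ← mul_assoc, ← zpow_add] at h1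
      exact h1
    have : x ^ m = 1 ∨ x ^ m = c.z := by
      rcases Int.even_or_odd m with ⟨q, hq⟩ | ⟨q, hq⟩
      · refine hinv _ (zpow_mem hxX m) ?_
        rw [← zpow_add]
        rwa [show c.z ^ m = 1 by rw [hq, ← two_mul, zpow_mul, zpow_two, c.zz, one_zpow], mul_one] at hsqm
      · exfalso
        rw [show c.z ^ m = c.z by rw [hq, zpow_add_one, zpow_mul, zpow_two, c.zz, one_zpow, one_mul], hzpow,
          ← zpow_add, show (1 : H) = x ^ (0 : ℤ) from (zpow_zero x).symm, heq] at hsqm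
        obtain ⟨e, he⟩ := hsqm
        have h4 : (4 : ℤ) ∣ 2 ^ n ∧ (4 : ℤ) ∣ 2 ^ (n - 1) := by
          constructor <;> rw [show (4 : ℤ) = 2 ^ 2 by norm_num] <;> exact pow_dvd_pow 2 (by omega)
        obtain ⟨⟨e1, he1⟩, ⟨e2, he2⟩⟩ := h4
        rw [he1, he2, hq] at he
        have : 4 * (q + e2 + e1 * e) + 2 = 0 := by linarith
        omega
    rcases this with e | e
    · left; rw [hm', e, mul_one]
    · right; rw [hm', e]
  -- actions of elements of `T`
  have hact : ∀ g ∈ c.T, g * x * g⁻¹ = x ∨ g * x * g⁻¹ = x⁻¹ ∨ (3 ≤ n ∧ g * x * g⁻¹ = x⁻¹ * c.z) := by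
    intro g hg
    obtain ⟨k, hk⟩ := hnorm g hg.2
    have hiter : ∀ m : ℕ, g ^ m * x * (g ^ m)⁻¹ = x ^ (k ^ m) := by
      intro m
      induction m with
      | zero => simp
      | succ m ih =>
        rw [show g ^ (m + 1) * x * (g ^ (m + 1))⁻¹ = g * (g ^ m * x * (g ^ m)⁻¹) * g⁻¹ by group, ih,
          zpowers_conj_eq hk, pow_succ']
    obtain ⟨a, ha⟩ := IsPGroup.iff_orderOf.1 c.isPGroup_T ⟨g, hg⟩
    rw [Subgroup.orderOf_mk] at ha
    have hconv : ∀ (k' : ℤ) (y : H), g * x * g⁻¹ = y → (2 : ℤ) ^ n ∣ k' * k' - 1 →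
        y = x ^ k' → (y = x ∨ y = x⁻¹ ∨ (3 ≤ n ∧ y = x * c.z) ∨ (3 ≤ n ∧ y = x⁻¹ * c.z)) := by
      intro k' y _ hkk hy
      rcases Cfsg.Lib.CyclicMax.sq_one_cases hn1 hkk with h | h | ⟨h3, h | h⟩
      · left; rw [hy, ← zpow_one x, ← zpow_mul, one_mul, eq_comm, heq]; exact h
      · right; left; rw [hy, ← zpow_neg_one, heq, show (-1 : ℤ) - k' = -(k' + 1) by ring]; exact dvd_neg.2 h
      · right; right; left
        refine ⟨h3, ?_⟩
        rw [hy, hzpow, ← zpow_one x, ← zpow_mul, ← zpow_mul, ← zpow_add, eq_comm, heq]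
        simpa [add_comm] using h
      · right; right; right
        refine ⟨h3, ?_⟩
        rw [hy, hzpow, ← zpow_neg_one, ← zpow_add, eq_comm, heq]
        simpa [sub_eq_add_neg, add_comm] using h
    by_cases hsq : (2 : ℤ) ^ n ∣ k * k - 1
    · rcases hconv k _ rfl hsq hk with h | h | ⟨h3, h⟩ | h
      · exact Or.inl h
      · exact Or.inr (Or.inl h)
      · exact absurd h (hmod h3 g hg)
      · exact Or.inr (Or.inr h)
    · exfalso
      let P : ℕ → Prop := fun m => (2 : ℤ) ^ n ∣ k ^ (2 ^ m) - 1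
      have hex : ∃ m, P m := ⟨a, by
        have := hiter (2 ^ a)
        rw [← ha, pow_orderOf_eq_one, one_mul, inv_one, mul_one] at this
        rw [ha] at this
        exact (heq 1 _).1 (by rw [zpow_one]; exact this)⟩
      set j := Nat.find hex with hj
      have hjspec := Nat.find_spec hex
      have hj2 : 2 ≤ j := by
        by_contra hlt
        push Not at hlt
        apply hsq
        interval_cases hjv : j
        · rw [← hj] at hjspec
          show _ ∣ k * k - 1
          have h0 : (2 : ℤ) ^ n ∣ k - 1 := by simpa [P] using hjspec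
          rw [show k * k - 1 = (k + 1) * (k - 1) by ring]
          exact h0.mul_left _
        · rw [← hj] at hjspec
          simpa [P, pow_two] using hjspec
      set k' : ℤ := k ^ (2 ^ (j - 1)) with hk'
      have hk'sq : (2 : ℤ) ^ n ∣ k' * k' - 1 := by
        have : k' * k' = k ^ (2 ^ j) := by
          rw [hk', ← pow_add, ← two_mul, ← pow_succ', show j - 1 + 1 = j by omega]
        rw [this]
        exact hjspec
      have hk'ne : ¬ (2 : ℤ) ^ n ∣ k' - 1 := Nat.find_min hex (show j - 1 < j by omega)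
      have hgm := hiter (2 ^ (j - 1))
      obtain ⟨l, hl⟩ : ∃ l : ℤ, k' = l * l := ⟨k ^ (2 ^ (j - 2)), by
        rw [hk', ← pow_add, ← two_mul, ← pow_succ', show j - 2 + 1 = j - 1 by omega]⟩
      have hn2 : 2 ≤ n := by
        by_contra hlt
        obtain rfl : n = 1 := by omega
        apply hk'ne
        obtain ⟨q, hq⟩ := hk'sq
        rcases Int.even_or_odd k' with ⟨r, hr⟩ | ⟨r, hr⟩
        · rw [hr] at hq
          exfalso
          have : 2 * (2 * r * r) - 1 = 2 * q := by rw [pow_one] at hq; linarith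
          omega
        · exact ⟨r, by rw [hr, pow_one]; ring⟩
      have hsquare : ∀ r : ℤ, l * l ≠ 4 * r - 1 := by
        intro r h
        rcases Int.even_or_odd l with ⟨e, he⟩ | ⟨e, he⟩ <;> rw [he] at h
        · have : 4 * (e * e) = 4 * r - 1 := by linarith
          omega
        · have : 4 * (e * e + e) + 1 = 4 * r - 1 := by linarith
          omega
      have h4n : (4 : ℤ) ∣ 2 ^ n := by
        rw [show (4 : ℤ) = 2 ^ 2 by norm_num]; exact pow_dvd_pow 2 hn2
      rcases Cfsg.Lib.CyclicMax.sq_one_cases hn1 hk'sq with h | h | ⟨h3, h | h⟩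
      · exact hk'ne h
      · obtain ⟨r, hr⟩ := h4n.trans h
        exact hsquare r (by rw [← hl]; linarith)
      · refine hmod h3 _ (pow_mem hg (2 ^ (j - 1))) ?_
        rw [hgm, ← hk', hzpow, ← zpow_one x, ← zpow_mul, ← zpow_mul, ← zpow_add, eq_comm, heq]
        simpa [add_comm] using h
      · obtain ⟨r, hr⟩ := h4n.trans h
        have h4m : (4 : ℤ) ∣ 2 ^ (n - 1) := by
          rw [show (4 : ℤ) = 2 ^ 2 by norm_num]; exact pow_dvd_pow 2 (by omega)
        obtain ⟨r', hr'⟩ := h4m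
        exact hsquare (r + r') (by rw [← hl]; linarith)
  -- the involution `s`
  have hrank' := hrank
  obtain ⟨s, hsT, hss, hs1, hsz⟩ := hrank'
  have hsinv : s⁻¹ = s := inv_eq_of_mul_eq_one_right hss
  have hsX : s ∉ X := fun h => by
    rcases hinv s h hss with e | e
    exacts [hs1 e, hsz e]
  have hsx : s * x * s⁻¹ ≠ x := fun h => hsX (hinX s hsT h)
  have hTX : ∀ g ∈ c.T, g ∈ X ∨ s * g ∈ X := by
    intro g hg
    rcases hact g hg with h | hg'
    · exact Or.inl (hinX g hg h)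
    refine Or.inr (hinX _ (mul_mem hsT hg) ?_)
    have hinv' : ∀ y : H, s * (y⁻¹) * s⁻¹ = (s * y * s⁻¹)⁻¹ := fun y => conj_inv.symm
    have hcz : c.z * x = x * c.z := (c.z_comm hxT).symm
    have hzz' : x * c.z * c.z = x := by rw [mul_assoc, c.zz, mul_one]
    have hsz' : s * c.z * s⁻¹ = c.z := by rw [c.z_comm hsT, mul_inv_cancel_right]
    have key : s * g * x * (s * g)⁻¹ = s * (g * x * g⁻¹) * s⁻¹ := by group
    have hsact := (hact s hsT).resolve_left hsx
    have hflip : x⁻¹ * c.z * c.z = x⁻¹ := by rw [mul_assoc, c.zz, mul_one]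
    rcases hg' with h | ⟨h3, h⟩ <;> rcases hsact with e | ⟨h3', e⟩
    · rw [key, h, hinv', e, inv_inv]
    · exfalso
      refine hmod h3' _ (mul_mem hsT hg) ?_
      rw [key, h, hinv', e, mul_inv_rev, inv_inv, c.z_inv, hcz]
    · exfalso
      refine hmod h3 _ (mul_mem hsT hg) ?_
      rw [key, h, show s * (x⁻¹ * c.z) * s⁻¹ = (s * x * s⁻¹)⁻¹ * (s * c.z * s⁻¹) by group, e, inv_inv, hsz']
    · rw [key, h, show s * (x⁻¹ * c.z) * s⁻¹ = (s * x * s⁻¹)⁻¹ * (s * c.z * s⁻¹) by group, e, hsz',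
        mul_inv_rev, inv_inv, c.z_inv, hcz, hzz']
  -- the action of `t`
  obtain ⟨k, hk⟩ := hnorm c.t c.tS
  rw [c.tinv] at hk
  have halX : ∀ i : ℤ, c.al (x ^ i) = x ^ (k * i) := fun i => by
    rw [c.al_zpow, show c.al x = x ^ k from hk, ← zpow_mul]
  have halmem : ∀ q ∈ X, c.al q ∈ X := fun q hq => by
    have := hXn c.t c.tS q hq
    rwa [c.tinv] at this
  have hfixX : ∀ q ∈ c.T, c.al q = q → q ∈ ({1, c.u, c.z, c.z * c.u} : Set H) := fun q hq h => c.fix_T hq h
  have hord4 : ∀ q ∈ c.T, c.al q = q → q ^ 4 = 1 := by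
    intro q hq h
    have hu4 : c.u ^ 4 = 1 := by
      rw [show (4 : ℕ) = 2 + 2 by norm_num, pow_add, pow_two]; exact c.u4
    rcases c.fix_T hq h with e | e | e | e <;> rw [e]
    · exact one_pow 4
    · exact hu4
    · show (c.u * c.u) ^ 4 = 1
      rw [← pow_two, ← pow_mul, mul_comm, pow_mul, hu4, one_pow]
    · show (c.u * c.u * c.u) ^ 4 = 1
      rw [← pow_two, ← pow_succ, ← pow_mul, mul_comm, pow_mul, hu4, one_pow]
  have hkk : (2 : ℤ) ^ n ∣ k * k - 1 := by
    refine (heq 1 _).1 ?_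
    rw [zpow_one, ← halX k, ← show c.al x = x ^ k from hk, c.al_al]
  by_cases huX : c.u ∈ X
  · obtain ⟨i, hi⟩ := (hXeq _).1 huX
    -- then `t` fixes an element of order four in `X`
    have hn2 : 2 ≤ n := by
      by_contra hlt
      obtain rfl : n = 1 := by omega
      apply c.u2
      rw [← show x ^ i = c.u from hi, ← zpow_add, show (1 : H) = x ^ (0 : ℤ) from (zpow_zero x).symm, heq, pow_one]
      exact ⟨-i, by ring⟩
    have hkfix : (2 : ℤ) ^ n ∣ k * i - i := (heq i _).1 (by
      rw [← halX, show x ^ i = c.u from hi, c.al_u])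
    -- exponents
    have hui : ¬ (2 : ℤ) ^ n ∣ 2 * i := fun h => c.u2 (by
      rw [← show x ^ i = c.u from hi, ← zpow_add, show (1 : H) = x ^ (0 : ℤ) from (zpow_zero x).symm, heq]
      rw [show (0 : ℤ) - (i + i) = -(2 * i) by ring]; exact dvd_neg.2 h)
    have hui4 : (2 : ℤ) ^ n ∣ 4 * i := by
      have h := c.u4
      rw [← show x ^ i = c.u from hi, ← zpow_add, ← zpow_add, show (1 : H) = x ^ (0 : ℤ) from (zpow_zero x).symm,
        heq, show (0 : ℤ) - (i + i + (i + i)) = -(4 * i) by ring] at h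
      exact dvd_neg.1 h
    obtain ⟨m, rfl⟩ : ∃ m, n = m + 2 := ⟨n - 2, by omega⟩
    obtain ⟨i', rfl⟩ : (2 : ℤ) ^ m ∣ i := by
      rw [pow_add, show ((2 : ℤ) ^ 2) = 4 by norm_num, mul_comm] at hui4
      exact Int.dvd_of_mul_dvd_mul_left (by norm_num) hui4
    have hi'odd : Odd i' := by
      rw [← Int.not_even_iff_odd]
      rintro ⟨r, rfl⟩
      exact hui ⟨r, by rw [pow_add]; ring⟩
    have hk1 : (4 : ℤ) ∣ k - 1 := by
      rw [show k * (2 ^ m * i') - 2 ^ m * i' = 2 ^ m * ((k - 1) * i') by ring, pow_add,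
        show ((2 : ℤ) ^ 2) = 4 by norm_num] at hkfix
      have h := Int.dvd_of_mul_dvd_mul_left (by positivity) hkfix
      have hcop : IsCoprime (4 : ℤ) i' := by
        rw [show (4 : ℤ) = 2 ^ 2 by norm_num]
        refine IsCoprime.pow_left ?_
        obtain ⟨r, rfl⟩ := hi'odd
        exact ⟨-r, 1, by ring⟩
      exact hcop.dvd_of_dvd_mul_right h
    obtain ⟨r₁, hr₁⟩ := hk1
    have h4n : (4 : ℤ) ∣ 2 ^ (m + 2) := ⟨2 ^ m, by rw [pow_add]; ring⟩
    rcases Cfsg.Lib.CyclicMax.sq_one_cases hn1 hkk with h | h | ⟨h3, h | h⟩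
    · -- `t` centralizes `X`: then `X` has order four
      have hxfix : c.al x = x := by
        conv_rhs => rw [← zpow_one x]
        rw [show c.al x = x ^ k from hk, eq_comm, heq]
        exact h
      have hx4 := orderOf_dvd_of_pow_eq_one (hord4 x hxT hxfix)
      rw [hn, show (4 : ℕ) = 2 ^ 2 by norm_num, Nat.pow_dvd_pow_iff_le_right (by norm_num)] at hx4
      obtain rfl : m = 0 := by omega
      rcases hTX _ (c.al_mem hsT) with h' | h'
      · exact hsX (by have := halmem _ h'; rwa [c.al_al] at this)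
      obtain ⟨j, hj⟩ := (hXeq _).1 h'
      have hsj : c.al s = s * x ^ j := by
        rw [show x ^ j = s * c.al s from hj, ← mul_assoc, hss, one_mul]
      have hjj : x ^ (j + j) = 1 := by
        have h1 := c.al_al s
        rw [hsj, c.al_mul, hsj, c.al_zpow, hxfix, mul_assoc, ← zpow_add] at h1
        exact mul_left_cancel (h1.trans (mul_one s).symm)
      rcases hinv _ (zpow_mem hxX j) (by rw [← zpow_add, hjj]) with e | e
      · rw [e, mul_one] at hsj
        exact hsz (c.fix_inv hsT hsj hss hs1)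
      · rw [e] at hsj
        -- `{s, s z}` gives a four group
        have hsinvx : s * x * s⁻¹ = x⁻¹ := by
          rcases hact s hsT with h2 | h2 | ⟨h3, -⟩
          · exact absurd h2 hsx
          · exact h2
          · omega
        have hconjT : ∀ g ∈ c.T, g * s * g⁻¹ = s ∨ g * s * g⁻¹ = s * c.z := by
          have hX' : ∀ q ∈ X, q * s * q⁻¹ = s ∨ q * s * q⁻¹ = s * c.z := by
            intro q hq
            obtain ⟨l, rfl⟩ := (hXeq q).1 hq
            have hl : x ^ l * s * (x ^ l)⁻¹ = s * x ^ (-l + -l) := by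
              rw [zpow_add, ← mul_assoc]
              have h1 : s * x ^ (-l) = x ^ l * s := by
                rw [← mul_inv_eq_iff_eq_mul, ← conj_zpow, hsinvx, inv_zpow', neg_neg]
              rw [h1, zpow_neg]
            rw [hl]
            rcases hinv _ (zpow_mem hxX (-l + -l)) (by
              rw [← zpow_add, show (1 : H) = x ^ (0 : ℤ) from (zpow_zero x).symm, heq]
              exact ⟨l, by norm_num; ring⟩) with e' | e' <;> rw [e']
            · left; rw [mul_one]
            · right; rfl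
          intro g hg
          rcases hTX g hg with h2 | h2
          · exact hX' g h2
          · have hsplit : g * s * g⁻¹ = s * ((s * g) * s * (s * g)⁻¹) * s := by
              rw [mul_inv_rev, hsinv, show s * (s * g * s * (g⁻¹ * s)) * s = (s * s) * g * s * g⁻¹ * (s * s) by group,
                hss, one_mul, mul_one]
            rcases hX' _ h2 with e' | e' <;> rw [hsplit, e']
            · left; rw [hss, one_mul]
            · right; rw [← mul_assoc s s, hss, one_mul, c.z_comm hsT]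
        refine hcon ⟨s, c.isW_of hsT hss hs1 hsz fun g hg => ?_⟩
        rcases c.mem_S_iff.1 hg with h2 | h2
        · exact hconjT g h2
        · have e1 : g * s * g⁻¹ = (g * c.t) * c.al s * (g * c.t)⁻¹ := by
            rw [show g * c.t * c.al s * (g * c.t)⁻¹ = g * (c.t * c.t) * s * (c.t * c.t⁻¹) * g⁻¹ from by
              show g * c.t * (c.t * s * c.t) * (g * c.t)⁻¹ = _
              group, c.tt, mul_inv_cancel, mul_one, mul_one]
          rw [e1, hsj, show g * c.t * (s * c.z) * (g * c.t)⁻¹ =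
            (g * c.t * s * (g * c.t)⁻¹) * (g * c.t * c.z * (g * c.t)⁻¹) by group, c.z_comm h2,
            mul_inv_cancel_right]
          rcases hconjT _ h2 with e' | e' <;> rw [e']
          · right; rfl
          · left; rw [mul_assoc, c.zz, mul_one]
    · obtain ⟨r, hr⟩ := h4n.trans h
      omega
    · -- `t` acts as the modular automorphism
      have hxfix : c.al x = x * c.z := by
        rw [show c.al x = x ^ k from hk, hzpow, ← zpow_one x, ← zpow_mul, ← zpow_mul, ← zpow_add, eq_comm, heq]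
        simpa [add_comm] using h
      have hx2 : c.al (x * x) = x * x := by
        rw [c.al_mul, hxfix, show x * c.z * (x * c.z) = x * (c.z * x) * c.z by group, ← c.z_comm hxT,
          show x * (x * c.z) * c.z = x * x * (c.z * c.z) by group, c.zz, mul_one]
      have hx8 := orderOf_dvd_of_pow_eq_one (show x ^ 8 = 1 by
        rw [show (8 : ℕ) = 2 * 4 by norm_num, pow_mul, pow_two]; exact hord4 _ (mul_mem hxT hxT) hx2)
      rw [hn, show (8 : ℕ) = 2 ^ 3 by norm_num, Nat.pow_dvd_pow_iff_le_right (by norm_num)] at hx8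
      obtain rfl : m = 1 := by omega
      rcases hTX _ (c.al_mem hsT) with h' | h'
      · exact hsX (by have := halmem _ h'; rwa [c.al_al] at this)
      obtain ⟨j, hj⟩ := (hXeq _).1 h'
      have hsj : c.al s = s * x ^ j := by
        rw [show x ^ j = s * c.al s from hj, ← mul_assoc, hss, one_mul]
      have hjj : x ^ (j + j) * c.z ^ j = 1 := by
        have h1 := c.al_al s
        rw [hsj, c.al_mul, hsj, c.al_zpow, hxfix, (show Commute x c.z from c.z_comm hxT).mul_zpow, mul_assoc,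
          ← mul_assoc (x ^ j), ← zpow_add] at h1
        exact mul_left_cancel (h1.trans (mul_one s).symm)
      have hxj : x ^ j = 1 ∨ x ^ j = c.z := by
        rcases Int.even_or_odd j with ⟨q, hq⟩ | ⟨q, hq⟩
        · refine hinv _ (zpow_mem hxX j) ?_
          rwa [show c.z ^ j = 1 by rw [hq, ← two_mul, zpow_mul, zpow_two, c.zz, one_zpow], mul_one, zpow_add] at hjj
        · exfalso
          rw [show c.z ^ j = c.z by rw [hq, zpow_add_one, zpow_mul, zpow_two, c.zz, one_zpow, one_mul],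
            hzpow, ← zpow_add, show (1 : H) = x ^ (0 : ℤ) from (zpow_zero x).symm, heq, hq] at hjj
          obtain ⟨e, he⟩ := hjj
          norm_num at he
          omega
      rcases hxj with e | e <;> rw [e] at hsj
      · rw [mul_one] at hsj
        exact hsz (c.fix_inv hsT hsj hss hs1)
      · have hsxfix : c.al (s * x) = s * x := by
          rw [c.al_mul, hsj, hxfix, show s * c.z * (x * c.z) = s * (c.z * x) * c.z by group, ← c.z_comm hxT,
            show s * (x * c.z) * c.z = s * x * (c.z * c.z) by group, c.zz, mul_one]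
        apply hsX
        have hmem : s * x ∈ X := by
          rcases c.fix_T (mul_mem hsT hxT) hsxfix with e' | e' | e' | e' <;> rw [e']
          exacts [one_mem _, huX, hzX, mul_mem hzX huX]
        have := mul_mem hmem (inv_mem hxX)
        rwa [mul_inv_cancel_right] at this
    · obtain ⟨r, hr⟩ := h4n.trans h
      have h4m : (4 : ℤ) ∣ 2 ^ (m + 2 - 1) := by
        rw [show (4 : ℤ) = 2 ^ 2 by norm_num]; exact pow_dvd_pow 2 (by omega)
      obtain ⟨r', hr'⟩ := h4m
      omega
  · -- semidihedral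
    have hsu : s * c.u ∈ X := (hTX _ c.u_mem).resolve_left huX
    obtain ⟨j, hj⟩ := (hXeq _).1 hsu
    have hu' : c.u = s * x ^ j := by
      rw [show x ^ j = s * c.u from hj, ← mul_assoc, hss, one_mul]
    have hux : ∀ y, y = x ^ j * x * (x ^ j)⁻¹ → y = x := fun y hy => by
      rw [hy, ((Commute.refl x).zpow_left j).eq, mul_inv_cancel_right]
    rcases (hact s hsT).resolve_left hsx with e | ⟨hn3, e⟩
    · exfalso
      apply c.u2
      rw [hu', show s * x ^ j * (s * x ^ j) = (s * x ^ j * s⁻¹) * (s * s) * x ^ j by group, hss, mul_one,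
        ← conj_zpow, e, inv_zpow, inv_mul_cancel]
    have huconj : c.u * x * c.u⁻¹ = x⁻¹ * c.z := by
      rw [hu', show s * x ^ j * x * (s * x ^ j)⁻¹ = s * (x ^ j * x * (x ^ j)⁻¹) * s⁻¹ by group, hux _ rfl, e]
    have hT' : ∀ g ∈ c.T, g ∈ zpowers x ∨ c.u⁻¹ * g ∈ zpowers x := by
      intro g hg
      rcases hTX g hg with h | h
      · exact Or.inl ((hXeq g).1 h)
      · refine Or.inr ((hXeq _).1 ?_)
        rw [hu', mul_inv_rev, hsinv, mul_assoc]
        exact mul_mem (inv_mem (zpow_mem hxX j)) h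
    refine c.semidihedral_false x n hn3 hxT hn hhalf hT' (fun h => huX ((hXeq _).2 h)) huconj ?_ hrank
    have hno : ¬ (4 : ℤ) ∣ k - 1 := by
      rintro ⟨r, hr⟩
      set i : ℤ := 2 ^ (n - 2) with hi
      have h4i : (2 : ℤ) ^ n = 4 * i := by
        rw [hi, show (4 : ℤ) = 2 ^ 2 by norm_num, ← pow_add, show 2 + (n - 2) = n by omega]
      have hfix' : c.al (x ^ i) = x ^ i := by
        rw [halX, heq, h4i]
        exact ⟨-r, by linear_combination -i * hr⟩
      have hi2 : x ^ (i + i) = c.z := by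
        rw [hzpow, hi, ← two_mul, ← pow_succ', show n - 2 + 1 = n - 1 by omega]
      rcases c.fix_T (zpow_mem hxT i) hfix' with e' | e' | e' | e'
      · rw [zpow_add, e', one_mul] at hi2
        exact c.z_ne hi2.symm
      · exact huX (e' ▸ zpow_mem hxX i)
      · rw [zpow_add, e', c.zz] at hi2
        exact c.z_ne hi2.symm
      · refine huX ?_
        have := mul_mem hzX (zpow_mem hxX i)
        rwa [e', ← mul_assoc, c.zz, one_mul] at this
    have hk' : c.al x = x ^ k := hk
    rcases Cfsg.Lib.CyclicMax.sq_one_cases hn1 hkk with h | h | ⟨h3, h | h⟩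
    · exact absurd ((show (4 : ℤ) ∣ 2 ^ n by
        rw [show (4 : ℤ) = 2 ^ 2 by norm_num]; exact pow_dvd_pow 2 (by omega)).trans h) hno
    · left
      rw [hk', ← zpow_neg_one, heq, show (-1 : ℤ) - k = -(k + 1) by ring]
      exact dvd_neg.2 h
    · exfalso
      apply hno
      have h4n : (4 : ℤ) ∣ 2 ^ n := by rw [show (4 : ℤ) = 2 ^ 2 by norm_num]; exact pow_dvd_pow 2 (by omega)
      obtain ⟨r, hr⟩ := h4n.trans h
      obtain ⟨r', hr'⟩ : (4 : ℤ) ∣ 2 ^ (n - 1) := by
        rw [show (4 : ℤ) = 2 ^ 2 by norm_num]; exact pow_dvd_pow 2 (by omega)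
      exact ⟨r + r', by linarith⟩
    · right
      rw [hk', hzpow, ← zpow_neg_one, ← zpow_add, eq_comm, heq]
      simpa [sub_eq_add_neg, add_comm] using h

end Cfsg.Lib.FourFixed
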