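/-
The structure of `T` relative to a normal four group.
-/
import Cfsg.Agent.Components.FourFixed.FourExist

set_option autoImplicit false
set_option linter.style.haveILetI false
set_option linter.unusedSectionVars false

namespace Cfsg.Lib.FourFixed

open Subgroup

universe v

variable {H : Type v} [Group H] [Finite H] {c : Conf H} {w : H}

theorem Conf.IsW.comm (hw : c.IsW w) : w * c.z = c.z * w := c.z_comm hw.mem

theorem Conf.IsW.inv (hw : c.IsW w) : w⁻¹ = w := inv_eq_of_mul_eq_one_right hw.sq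

/-- The four group `{1, z, w, w z}`. -/
def Conf.IsW.W (hw : c.IsW w) : Subgroup H where
  carrier := {1, c.z, w, w * c.z}
  one_mem' := Or.inl rfl
  mul_mem' := by
    have h1 : c.z * (w * c.z) = w := by rw [← mul_assoc, ← hw.comm, mul_assoc, c.zz, mul_one]
    have h2 : w * (w * c.z) = c.z := by rw [← mul_assoc, hw.sq, one_mul]
    have h3 : (w * c.z) * c.z = w := by rw [mul_assoc, c.zz, mul_one]
    have h4 : (w * c.z) * w = c.z := by rw [hw.comm, mul_assoc, hw.sq, mul_one]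
    have h5 : (w * c.z) * (w * c.z) = 1 := by rw [← mul_assoc, h4, c.zz]
    intro a b ha hb
    simp only [Set.mem_insert_iff, Set.mem_singleton_iff] at ha hb ⊢
    rcases ha with rfl | rfl | rfl | rfl <;> rcases hb with rfl | rfl | rfl | rfl <;>
      simp [c.zz, hw.sq, ← hw.comm, h1, h2, h3, h4, h5]
  inv_mem' := by
    intro a ha
    simp only [Set.mem_insert_iff, Set.mem_singleton_iff] at ha ⊢
    rcases ha with rfl | rfl | rfl | rfl
    · simp
    · exact Or.inr (Or.inl c.z_inv)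
    · exact Or.inr (Or.inr (Or.inl hw.inv))
    · exact Or.inr (Or.inr (Or.inr (by rw [mul_inv_rev, c.z_inv, hw.inv, hw.comm])))

theorem Conf.IsW.mem_W (hw : c.IsW w) {a : H} :
    a ∈ hw.W ↔ a = 1 ∨ a = c.z ∨ a = w ∨ a = w * c.z := Iff.rfl

theorem Conf.IsW.z_mem_W (hw : c.IsW w) : c.z ∈ hw.W := Or.inr (Or.inl rfl)

theorem Conf.IsW.self_mem_W (hw : c.IsW w) : w ∈ hw.W := Or.inr (Or.inr (Or.inl rfl))

theorem Conf.IsW.W_le (hw : c.IsW w) : hw.W ≤ c.T := by
  intro a ha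
  rcases ha with rfl | rfl | rfl | rfl
  exacts [one_mem _, c.z_mem, hw.mem, mul_mem hw.mem c.z_mem]

theorem Conf.IsW.sq_W (hw : c.IsW w) {a : H} (ha : a ∈ hw.W) : a * a = 1 := by
  rcases ha with rfl | rfl | rfl | rfl
  · exact one_mul 1
  · exact c.zz
  · exact hw.sq
  · rw [show w * c.z * (w * c.z) = w * (c.z * w) * c.z by group, ← hw.comm,
      show w * (w * c.z) * c.z = (w * w) * (c.z * c.z) by group, hw.sq, c.zz, one_mul]

theorem Conf.IsW.W_comm (hw : c.IsW w) {a b : H} (ha : a ∈ hw.W) (hb : b ∈ hw.W) : a * b = b * a := by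
  have h := hw.sq_W (mul_mem ha hb)
  calc a * b = (a * b)⁻¹ := (inv_eq_of_mul_eq_one_right h).symm
    _ = b * a := by
      rw [mul_inv_rev, inv_eq_of_mul_eq_one_right (hw.sq_W ha), inv_eq_of_mul_eq_one_right (hw.sq_W hb)]

theorem Conf.IsW.al_W (hw : c.IsW w) {a : H} (ha : a ∈ hw.W) : c.al a ∈ hw.W := by
  rcases ha with rfl | rfl | rfl | rfl
  · rw [c.al_one]; exact one_mem _
  · rw [c.al_z]; exact hw.z_mem_W
  · rw [hw.al]; exact mul_mem hw.self_mem_W hw.z_mem_W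
  · rw [c.al_mul, hw.al, c.al_z, mul_assoc, c.zz, mul_one]; exact hw.self_mem_W

theorem Conf.IsW.conj_W (hw : c.IsW w) {g a : H} (hg : g ∈ c.T) (ha : a ∈ hw.W) : g * a * g⁻¹ ∈ hw.W := by
  have hz : g * c.z * g⁻¹ = c.z := by rw [c.z_comm hg, mul_inv_cancel_right]
  rcases ha with rfl | rfl | rfl | rfl
  · rw [mul_one, mul_inv_cancel]; exact one_mem _
  · rw [hz]; exact hw.z_mem_W
  · rcases hw.conj g hg with h | h <;> rw [h]
    exacts [hw.self_mem_W, mul_mem hw.self_mem_W hw.z_mem_W]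
  · rw [show g * (w * c.z) * g⁻¹ = (g * w * g⁻¹) * (g * c.z * g⁻¹) by group, hz]
    rcases hw.conj g hg with h | h <;> rw [h]
    exacts [mul_mem hw.self_mem_W hw.z_mem_W, mul_mem (mul_mem hw.self_mem_W hw.z_mem_W) hw.z_mem_W]

theorem Conf.IsW.other (hw : c.IsW w) : c.IsW (w * c.z) := by
  refine ⟨mul_mem hw.mem c.z_mem, hw.sq_W (Or.inr (Or.inr (Or.inr rfl))), ?_, ?_, ?_, ?_⟩
  · exact fun h => hw.ne_z (by rw [← mul_one w, ← c.zz, ← mul_assoc, h, one_mul])
  · exact fun h => hw.ne_one (mul_right_cancel (h.trans (one_mul _).symm))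
  · rw [c.al_mul, hw.al, c.al_z]
  · intro g hg
    have hz : g * c.z * g⁻¹ = c.z := by rw [c.z_comm hg, mul_inv_cancel_right]
    rw [show g * (w * c.z) * g⁻¹ = (g * w * g⁻¹) * (g * c.z * g⁻¹) by group, hz]
    rcases hw.conj g hg with h | h <;> rw [h]
    · exact Or.inl rfl
    · exact Or.inr rfl

/-- Between two `t`-invariant subgroups of `T` there is an element fixed modulo the smaller one. -/
theorem Conf.exists_step (c : Conf H) {P N : Subgroup H} (hN : N ≤ c.T) (hPN : P < N)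
    (haP : ∀ a ∈ P, c.al a ∈ P) (haN : ∀ a ∈ N, c.al a ∈ N) :
    ∃ n ∈ N, n ∉ P ∧ (∀ a ∈ P, n * a * n⁻¹ ∈ P) ∧ n⁻¹ * c.al n ∈ P := by
  classical
  haveI : Fact (Nat.Prime 2) := ⟨Nat.prime_two⟩
  set P' : Subgroup N := P.subgroupOf N with hP'
  have hne : P' ≠ ⊤ := fun h => hPN.not_ge (subgroupOf_eq_top.1 h)
  haveI : Group.IsNilpotent N := (c.isPGroup_T.to_le hN).isNilpotent
  obtain ⟨m, hm, hmP⟩ := SetLike.exists_of_lt
    (Group.normalizerCondition_of_isNilpotent (G := N) P' (lt_top_iff_ne_top.2 hne))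
  set R : Subgroup H := (c.S : Subgroup H) ⊓ normalizer (P : Set H) ⊓ normalizer (N : Set H) with hR
  have htR : c.t ∈ R := by
    have hfor : ∀ (K : Subgroup H), (∀ a ∈ K, c.al a ∈ K) → c.t ∈ normalizer (K : Set H) := by
      intro K hK
      refine mem_normalizer_iff.2 fun a => ?_
      have e : c.t * a * c.t⁻¹ = c.al a := by rw [c.tinv]; rfl
      rw [e]
      exact ⟨hK a, fun h => by have := hK _ h; rwa [c.al_al] at this⟩
    exact ⟨⟨c.tS, hfor P haP⟩, hfor N haN⟩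
  have hRp : IsPGroup 2 R := c.S.isPGroup'.to_le (inf_le_left.trans inf_le_left)
  let P₁ : Subgroup R := P.subgroupOf R
  let N₁ : Subgroup R := N.subgroupOf R
  haveI : P₁.Normal := ⟨fun a ha g => (mem_normalizer_iff.1 g.2.1.2 _).1 ha⟩
  haveI : N₁.Normal := ⟨fun a ha g => (mem_normalizer_iff.1 g.2.2 _).1 ha⟩
  have hmR : (m : H) ∈ R := by
    refine ⟨⟨(hN m.2).2, mem_normalizer_iff.2 fun a => ?_⟩,
      mem_normalizer_iff.2 fun a => ⟨fun ha => mul_mem (mul_mem m.2 ha) (inv_mem m.2), fun ha => by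
        have := mul_mem (mul_mem (inv_mem m.2) ha) m.2
        rwa [show (m : H)⁻¹ * ((m : H) * a * (m : H)⁻¹) * m = a by group] at this⟩⟩
    constructor
    · intro ha
      exact (mem_normalizer_iff.1 hm ⟨a, hPN.le ha⟩).1 ha
    · intro ha
      have haN' : a ∈ N := by
        have := mul_mem (mul_mem (inv_mem m.2) (hPN.le ha)) m.2
        rwa [show (m : H)⁻¹ * ((m : H) * a * (m : H)⁻¹) * m = a by group] at this
      exact (mem_normalizer_iff.1 hm ⟨a, haN'⟩).2 ha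
  have hlt : P₁ < N₁ := by
    refine lt_of_le_of_ne (fun a ha => hPN.le ha) fun he => hmP ?_
    have : (⟨m, hmR⟩ : R) ∈ P₁ := he ▸ (show (⟨m, hmR⟩ : R) ∈ N₁ from m.2)
    exact this
  obtain ⟨K, hKn, hPK, hKN, hi⟩ := Cfsg.Lib.PGroups.exists_normal_relIndex_prime hRp hlt
  obtain ⟨n, hnK, hnP⟩ : ∃ n ∈ K, n ∉ P₁ := by
    by_contra h'
    push Not at h'
    rw [relIndex_eq_one.2 (fun a ha => h' a ha)] at hi
    omega
  refine ⟨n, hKN hnK, hnP, fun a ha => (mem_normalizer_iff.1 n.2.1.2 a).1 ha, ?_⟩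
  have hconj := hKn.conj_mem n hnK ⟨c.t, htR⟩
  have e : ((⟨c.t, htR⟩ * n * (⟨c.t, htR⟩ : R)⁻¹ : R) : H) = c.al n := by
    push_cast
    rw [c.tinv]
    rfl
  rcases Cfsg.Lib.FoursRankOne.eq_or_eq_mul_of_index_two hi hnK hnP hconj with h | h
  · exfalso
    refine hnP ?_
    have h' : c.al n ∈ P := by rw [← e]; exact h
    have := haP _ h'
    rwa [c.al_al] at this
  · have h' : (n : H)⁻¹ * c.al n ∈ P := by rw [← e]; exact h
    exact h'

/-- The elements fixed by `t` modulo the four group. -/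
theorem Conf.IsW.fixed_mod (hw : c.IsW w) {r : H} (hr : r ∈ c.T) (h : r⁻¹ * c.al r ∈ hw.W) :
    r ∈ hw.W ∨ c.u⁻¹ * r ∈ hw.W := by
  have hclass : ∀ y ∈ c.T, c.al y = y → y ∈ hw.W ∨ c.u⁻¹ * y ∈ hw.W := by
    intro y hy hfix
    rcases c.fix_T hy hfix with e | e | e | e <;> rw [e]
    · exact Or.inl (one_mem _)
    · exact Or.inr (by rw [inv_mul_cancel]; exact one_mem _)
    · exact Or.inl hw.z_mem_W
    · exact Or.inr (by rw [← c.z_comm c.u_mem, inv_mul_cancel_left]; exact hw.z_mem_W)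
  set a := r⁻¹ * c.al r with ha
  have hal : c.al r = r * a := by rw [ha, mul_inv_cancel_left]
  have hinv : c.al a = a⁻¹ := by
    rw [ha, c.al_mul, c.al_inv, c.al_al]
    group
  rcases (hw.mem_W.1 h) with e | e | e | e
  · exact hclass r hr (by rw [hal, e, mul_one])
  · have hfix : c.al (r * w) = r * w := by
      rw [c.al_mul, hal, hw.al, e, show r * c.z * (w * c.z) = r * (c.z * w) * c.z by group, ← hw.comm,
        show r * (w * c.z) * c.z = r * w * (c.z * c.z) by group, c.zz, mul_one]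
    rcases hclass _ (mul_mem hr hw.mem) hfix with h' | h'
    · left
      have := mul_mem h' (inv_mem hw.self_mem_W)
      rwa [mul_inv_cancel_right] at this
    · right
      have := mul_mem h' (inv_mem hw.self_mem_W)
      rwa [← mul_assoc, mul_inv_cancel_right] at this
  · exfalso
    rw [e, hw.al, hw.inv] at hinv
    exact c.z_ne (mul_left_cancel (hinv.trans (mul_one w).symm))
  · exfalso
    rw [e, c.al_mul, hw.al, c.al_z, mul_assoc, c.zz, mul_one,
      inv_eq_of_mul_eq_one_right (hw.sq_W (Or.inr (Or.inr (Or.inr rfl))))] at hinv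
    exact c.z_ne (mul_left_cancel (hinv.symm.trans (mul_one w).symm))

/-- `u` lies in every invariant subgroup properly containing the four group. -/
theorem Conf.IsW.u_mem_of_lt (hw : c.IsW w) {N : Subgroup H} (hN : N ≤ c.T) (hlt : hw.W < N)
    (haN : ∀ a ∈ N, c.al a ∈ N) : c.u ∈ N := by
  obtain ⟨n, hn, hnW, -, hna⟩ := c.exists_step hN hlt (fun a ha => hw.al_W ha) haN
  rcases hw.fixed_mod (hN hn) hna with h | h
  · exact absurd h hnW
  · have := mul_mem hn (inv_mem (hlt.le h))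
    rwa [show n * (c.u⁻¹ * n)⁻¹ = c.u by group] at this

/-- The dichotomy for the action of `u` on the four group. -/
theorem Conf.IsW.small (hw : c.IsW w) (hu : c.u * w ≠ w * c.u) :
    (∀ g ∈ c.T, g ∈ hw.W ∨ c.u⁻¹ * g ∈ hw.W) ∧ c.u * w * c.u⁻¹ = w * c.z := by
  have hu' : c.u * w * c.u⁻¹ = w * c.z :=
    (hw.conj c.u c.u_mem).resolve_left fun h => hu (mul_inv_eq_iff_eq_mul.1 h)
  refine ⟨fun g hg => ?_, hu'⟩
  let T₀ : Subgroup H := c.T ⊓ centralizer ({w} : Set H)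
  have hW0 : hw.W ≤ T₀ := fun a ha => ⟨hw.W_le ha, mem_centralizer_singleton_iff.2 (by
    rcases hw.mem_W.1 ha with rfl | rfl | rfl | rfl
    · rw [one_mul, mul_one]
    · exact hw.comm.symm
    · rfl
    · rw [mul_assoc, ← hw.comm])⟩
  have hal0 : ∀ a ∈ T₀, c.al a ∈ T₀ := fun a ha => ⟨c.al_mem ha.1, mem_centralizer_singleton_iff.2 (by
    have h1 := congrArg c.al (mem_centralizer_singleton_iff.1 ha.2)
    rw [c.al_mul, c.al_mul, hw.al, ← mul_assoc, mul_assoc w c.z, ← c.z_comm (c.al_mem ha.1), ← mul_assoc] at h1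
    exact mul_right_cancel h1)⟩
  have hT0 : ∀ a ∈ T₀, a ∈ hw.W := by
    intro a ha
    by_contra haW
    exact hu (mem_centralizer_singleton_iff.1 (hw.u_mem_of_lt inf_le_left
      (lt_of_le_of_ne hW0 fun he => haW (he ▸ ha)) hal0).2)
  rcases hw.conj g hg with h | h
  · exact Or.inl (hT0 g ⟨hg, mem_centralizer_singleton_iff.2 (mul_inv_eq_iff_eq_mul.1 h)⟩)
  · refine Or.inr (hT0 _ ⟨c.T.mul_mem (c.T.inv_mem c.u_mem) hg, mem_centralizer_singleton_iff.2 ?_⟩)
    refine mul_inv_eq_iff_eq_mul.1 ?_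
    rw [mul_inv_rev, inv_inv, show c.u⁻¹ * g * w * (g⁻¹ * c.u) = c.u⁻¹ * (g * w * g⁻¹) * c.u by group, h, ← hu']
    group

/-- The case in which `u` commutes with the four group: basic facts. -/
theorem Conf.IsW.u_sq (hw : c.IsW w) (hu : c.u * w = w * c.u) {g : H} (hg : c.u⁻¹ * g ∈ hw.W) :
    g * g = c.z := by
  have huW : ∀ a ∈ hw.W, c.u * a = a * c.u := by
    intro a ha
    rcases hw.mem_W.1 ha with rfl | rfl | rfl | rfl
    · simp
    · exact c.z_comm c.u_mem
    · exact hu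
    · rw [← mul_assoc, hu, mul_assoc, c.z_comm c.u_mem, ← mul_assoc]
  set a := c.u⁻¹ * g with ha
  rw [show g = c.u * a by rw [ha, mul_inv_cancel_left],
    show c.u * a * (c.u * a) = c.u * (a * c.u) * a by group, ← huW a hg,
    show c.u * (c.u * a) * a = c.u * c.u * (a * a) by group, hw.sq_W hg, mul_one]
  rfl

theorem Conf.IsW.not_fixed_mod (hw : c.IsW w) (hu : c.u * w = w * c.u) {p : H} (hp : p ∈ c.T)
    (hpW : p ∉ hw.W) (hpu : c.u⁻¹ * p ∉ hw.W) : p⁻¹ * c.al p ∉ hw.W := fun h => by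
  rcases hw.fixed_mod hp h with h' | h'
  exacts [hpW h', hpu h']

/-- The subgroup spanned by the four group and two elements with squares in it. -/
theorem Conf.IsW.generate (hw : c.IsW w) (hu : c.u * w = w * c.u) {p : H} (hp : p ∈ c.T)
    (hpW : p ∉ hw.W) (hpu : c.u⁻¹ * p ∉ hw.W) (hpp : p * p ∈ hw.W) :
    ∀ g ∈ c.T, ∃ i : ℤ, ∃ a ∈ hw.W, g = (p * c.al p) ^ i * a ∨ g = (p * c.al p) ^ i * p * a := by
  classical
  set q := c.al p with hq
  have hqT : q ∈ c.T := c.al_mem hp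
  set r := p * q with hr
  have hrT : r ∈ c.T := mul_mem hp hqT
  -- work modulo the four group
  let W' : Subgroup c.T := hw.W.subgroupOf c.T
  haveI : W'.Normal := ⟨fun a ha g => hw.conj_W g.2 ha⟩
  let π : c.T →* c.T ⧸ W' := QuotientGroup.mk' W'
  have hπ : ∀ a b : c.T, π a = π b ↔ (a : H)⁻¹ * b ∈ hw.W := fun a b => QuotientGroup.eq
  let α : c.T →* c.T :=
    { toFun := fun a => ⟨c.al a, c.al_mem a.2⟩
      map_one' := Subtype.ext c.al_one
      map_mul' := fun a b => Subtype.ext (c.al_mul a b) }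
  let β : c.T ⧸ W' →* c.T ⧸ W' := QuotientGroup.map W' W' α fun a ha => hw.al_W ha
  have hβ : ∀ a, β (π a) = π (α a) := fun a => rfl
  set P := π ⟨p, hp⟩ with hP
  set R := π ⟨r, hrT⟩ with hR
  have hPP : P * P = 1 := by
    rw [hP, ← map_mul]
    exact (QuotientGroup.eq_one_iff _).2 hpp
  have hPinv : P⁻¹ = P := inv_eq_of_mul_eq_one_right hPP
  have hβP : β P = P * R := by
    have e : π ⟨r, hrT⟩ = π ⟨p, hp⟩ * π ⟨q, hqT⟩ := map_mul π ⟨p, hp⟩ ⟨q, hqT⟩
    rw [hR, e, ← mul_assoc, hPP, one_mul]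
    rfl
  have hPR : ∀ i : ℤ, P * R ^ i * P = R ^ (-i) := by
    intro i
    have hRP : (P * R) * (P * R) = 1 := by
      rw [← hβP, ← map_mul, hPP, map_one]
    have h1 : P * R * P⁻¹ = R⁻¹ := by
      rw [hPinv]
      exact eq_inv_of_mul_eq_one_left (by rw [← hRP]; group)
    have h2 : P * R ^ i * P⁻¹ = R ^ (-i) := by rw [← conj_zpow, h1, inv_zpow, zpow_neg]
    rwa [hPinv] at h2
  have hPR' : ∀ i : ℤ, P * R ^ i = R ^ (-i) * P := fun i => by
    rw [← hPR i, mul_assoc (P * R ^ i), hPP, mul_one]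
  have hβR : β R = R⁻¹ := by
    have e : R = P * β P := by rw [hβP, ← mul_assoc, hPP, one_mul]
    have hββ : ∀ a, β (β a) = a := by
      intro a
      obtain ⟨b, rfl⟩ := QuotientGroup.mk'_surjective W' a
      show π (α (α b)) = π b
      congr 1
      exact Subtype.ext (c.al_al b)
    rw [e, map_mul, hββ, mul_inv_rev, hPinv]
    congr 1
    have : β P * β P = 1 := by rw [← map_mul, hPP, map_one]
    exact (inv_eq_of_mul_eq_one_right this).symm
  let D : Subgroup (c.T ⧸ W') :=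
    { carrier := {a | ∃ i : ℤ, a = R ^ i ∨ a = R ^ i * P}
      one_mem' := ⟨0, Or.inl (zpow_zero R).symm⟩
      mul_mem' := by
        rintro a b ⟨i, rfl | rfl⟩ ⟨j, rfl | rfl⟩
        · exact ⟨i + j, Or.inl (zpow_add R i j).symm⟩
        · exact ⟨i + j, Or.inr (by rw [zpow_add, mul_assoc])⟩
        · exact ⟨i - j, Or.inr (by rw [mul_assoc, hPR', ← mul_assoc, ← zpow_add, sub_eq_add_neg])⟩
        · exact ⟨i - j, Or.inl (by
            rw [show R ^ i * P * (R ^ j * P) = R ^ i * (P * R ^ j * P) by group, hPR, ← zpow_add, sub_eq_add_neg])⟩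
      inv_mem' := by
        rintro a ⟨i, rfl | rfl⟩
        · exact ⟨-i, Or.inl (zpow_neg R i).symm⟩
        · refine ⟨i, Or.inr ?_⟩
          rw [mul_inv_rev, hPinv, ← zpow_neg, hPR', neg_neg] }
  have hPD : P ∈ D := ⟨0, Or.inr (by rw [zpow_zero, one_mul])⟩
  have hβD : ∀ a ∈ D, β a ∈ D := by
    rintro a ⟨i, rfl | rfl⟩
    · exact ⟨-i, Or.inl (by rw [map_zpow, hβR, inv_zpow, zpow_neg])⟩
    · exact ⟨-i - 1, Or.inr (by
        rw [map_mul, map_zpow, hβR, hβP, inv_zpow, ← zpow_neg, show P * R = R ^ (-1 : ℤ) * P by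
          rw [← hPR', zpow_one], ← mul_assoc, ← zpow_add, sub_eq_add_neg])⟩
  let N : Subgroup H := (D.comap π).map c.T.subtype
  have hNT : N ≤ c.T := map_subtype_le _
  have hmemN : ∀ g : c.T, (g : H) ∈ N ↔ π g ∈ D := fun g => by
    constructor
    · rintro ⟨g', hg', e⟩
      rw [Subtype.ext e] at hg'
      exact hg'
    · exact fun h => ⟨g, h, rfl⟩
  have hWN : hw.W ≤ N := fun a ha => by
    refine (hmemN ⟨a, hw.W_le ha⟩).2 ?_
    rw [show π ⟨a, hw.W_le ha⟩ = 1 from (QuotientGroup.eq_one_iff _).2 ha]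
    exact one_mem _
  have halN : ∀ a ∈ N, c.al a ∈ N := fun a ha => by
    have := (hmemN ⟨a, hNT ha⟩).1 ha
    exact (hmemN ⟨c.al a, c.al_mem (hNT ha)⟩).2 (hβD _ this)
  have hpN : p ∈ N := (hmemN ⟨p, hp⟩).2 hPD
  have huN : c.u ∈ N := hw.u_mem_of_lt hNT (lt_of_le_of_ne hWN fun e => hpW (e ▸ hpN)) halN
  have htop : ∀ g ∈ c.T, g ∈ N := by
    by_contra hne
    push Not at hne
    obtain ⟨g, hg, hgN⟩ := hne
    obtain ⟨n, hn, hnN, -, hna⟩ := c.exists_step le_rfl
      (lt_of_le_of_ne hNT fun e => hgN (e ▸ hg)) halN (fun a ha => c.al_mem ha)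
    set d := π ⟨n⁻¹ * c.al n, hNT hna⟩ with hd
    have hdn : d = (π ⟨n, hn⟩)⁻¹ * β (π ⟨n, hn⟩) := by
      rw [hβ, ← map_inv, ← map_mul]
      rfl
    have hββ' : β (β (π ⟨n, hn⟩)) = π ⟨n, hn⟩ := by
      show π (α (α ⟨n, hn⟩)) = _
      congr 1
      exact Subtype.ext (c.al_al n)
    have hdinv : β d = d⁻¹ := by
      rw [hdn, map_mul, map_inv, hββ', mul_inv_rev, inv_inv]
    have hlift : ∀ b ∈ D, d = b⁻¹ * β b → False := by
      intro b hb he
      obtain ⟨⟨b₀, hb₀⟩, rfl⟩ := QuotientGroup.mk'_surjective W' b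
      have hm : π (⟨n, hn⟩ * (⟨b₀, hb₀⟩ : c.T)⁻¹) = β (π (⟨n, hn⟩ * (⟨b₀, hb₀⟩ : c.T)⁻¹)) := by
        rw [map_mul π, map_inv π, map_mul β, map_inv β,
          show β (π ⟨n, hn⟩) = π ⟨n, hn⟩ * d by rw [hdn, mul_inv_cancel_left], he,
          show π = QuotientGroup.mk' W' from rfl]
        group
      rw [hβ, hπ] at hm
      have hb₀N : b₀ ∈ N := (hmemN ⟨b₀, hb₀⟩).2 hb
      apply hnN
      rcases hw.fixed_mod (mul_mem hn (inv_mem hb₀)) hm with h | h
      · have := mul_mem (hWN h) hb₀N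
        rwa [inv_mul_cancel_right] at this
      · have := mul_mem (mul_mem huN (hWN h)) hb₀N
        rwa [mul_inv_cancel_left, inv_mul_cancel_right] at this
    obtain ⟨i, hi | hi⟩ := (hmemN ⟨n⁻¹ * c.al n, hNT hna⟩).1 hna
    · rcases Int.even_or_odd' i with ⟨j, rfl | rfl⟩
      · refine hlift (R ^ (-j)) ⟨_, Or.inl rfl⟩ ?_
        rw [hd, hi, map_zpow, hβR]
        simp only [inv_zpow, ← zpow_neg, neg_neg, ← zpow_add]
        congr 1
        ring
      · refine hlift (R ^ j * P) ⟨_, Or.inr rfl⟩ ?_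
        rw [hd, hi, map_mul, map_zpow, hβR, hβP, mul_inv_rev, hPinv, inv_zpow, ← zpow_neg,
          show P * R ^ (-j) * (R ^ (-j) * (P * R)) = P * (R ^ (-j) * R ^ (-j)) * P * R by group, ← zpow_add,
          hPR, ← zpow_add_one]
        congr 1
        ring
    · -- then `p` would be fixed modulo the four group
      rw [show π ⟨n⁻¹ * c.al n, hNT hna⟩ = d from rfl] at hi
      rw [hi, map_mul, map_zpow, hβR, hβP, mul_inv_rev, hPinv, inv_zpow, ← zpow_neg, ← mul_assoc,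
        hPR', neg_neg] at hdinv
      rw [show R ^ (-i) * P * R = R ^ (-i) * (P * R ^ (1 : ℤ)) by rw [zpow_one, mul_assoc], hPR', ← mul_assoc,
        ← zpow_add] at hdinv
      have h1 : R ^ (-i + -1) = R ^ i := mul_right_cancel hdinv
      have h2 : R ^ (2 * i + 1) = 1 := by
        rw [show 2 * i + 1 = i - (-i + -1) by ring, zpow_sub, h1, mul_inv_cancel]
      obtain ⟨k, hk⟩ := IsPGroup.iff_orderOf.1 (c.isPGroup_T.to_quotient W') R
      have hR1 : R = 1 := by
        rcases k with _ | k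
        · rwa [pow_zero, orderOf_eq_one_iff] at hk
        · have := orderOf_dvd_iff_zpow_eq_one.2 h2
          rw [hk] at this
          have h2d : (2 : ℤ) ∣ 2 * i + 1 := (by exact_mod_cast dvd_pow_self 2 (Nat.succ_ne_zero k) :
            (2 : ℤ) ∣ ((2 ^ (k + 1) : ℕ) : ℤ)).trans this
          omega
      refine hw.not_fixed_mod hu hp hpW hpu ?_
      have : β P = P := by rw [hβP, hR1, mul_one]
      rw [hP, hβ, hπ] at this
      have h3 := inv_mem this
      rwa [mul_inv_rev, inv_inv] at h3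
  intro g hg
  obtain ⟨i, hi | hi⟩ := (hmemN ⟨g, hg⟩).1 (htop g hg)
  · refine ⟨i, (r ^ i)⁻¹ * g, ?_, Or.inl (by rw [mul_inv_cancel_left])⟩
    rw [hR, ← map_zpow, eq_comm, hπ] at hi
    push_cast at hi
    exact hi
  · refine ⟨i, (r ^ i * p)⁻¹ * g, ?_, Or.inr (by rw [mul_inv_cancel_left])⟩
    rw [hR, hP, ← map_zpow, ← map_mul, eq_comm, hπ] at hi
    push_cast at hi
    exact hi

end Cfsg.Lib.FourFixed
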