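/-
Fusion in the case that `u` centralizes the four group.
-/
import Cfsg.Agent.Components.FourFixed.Four
import Cfsg.Agent.Components.Misc.ExtremalTransfer
import Cfsg.Agent.Frobenius.UniqueSubgroup
import Cfsg.Agent.S0949

set_option autoImplicit false
set_option linter.style.haveILetI false
set_option linter.unusedSectionVars false

namespace Cfsg.Lib.FourFixed

open Subgroup
open scoped commutatorElement Pointwise

universe v

variable {H : Type v} [Group H] [Finite H] {c : Conf H} {w : H}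

theorem Conf.IsW.u_comm_W (hw : c.IsW w) (hu : c.u * w = w * c.u) {a : H} (ha : a ∈ hw.W) :
    c.u * a = a * c.u := by
  rcases hw.mem_W.1 ha with rfl | rfl | rfl | rfl
  · simp
  · exact c.z_comm c.u_mem
  · exact hu
  · rw [← mul_assoc, hu, mul_assoc, c.z_comm c.u_mem, ← mul_assoc]

/-- The squares condition. -/
def Conf.Sq (c : Conf H) : Prop :=
  ∀ q ∈ c.T, q * q ≠ 1 → q * q * (q * q) = 1 → q * q = c.z

theorem Conf.IsW.sq_of_noX (hw : c.IsW w) (hu : c.u * w = w * c.u)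
    (hX : ∀ q ∈ c.T, q * q ≠ w ∧ q * q ≠ w * c.z) : c.Sq := by
  intro q hq hq1 hq4
  set x := q * q with hx
  have hxT : x ∈ c.T := mul_mem hq hq
  by_cases hxW : x ∈ hw.W
  · rcases hw.mem_W.1 hxW with e | e | e | e
    exacts [absurd e hq1, e, absurd e (hX q hq).1, absurd e (hX q hq).2]
  exfalso
  have hxu : c.u⁻¹ * x ∉ hw.W := fun h => by
    have := hw.u_sq hu h
    rw [hq4] at this
    exact c.z_ne this.symm
  obtain ⟨i, a, ha, hi⟩ := hw.generate hu hxT hxW hxu (by rw [hq4]; exact one_mem _) q hq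
  set x' := c.al x with hx'
  set r := x * x' with hr
  have hrT : r ∈ c.T := mul_mem hxT (c.al_mem hxT)
  have hxinv : x⁻¹ = x := inv_eq_of_mul_eq_one_right hq4
  have hxr : ∀ j : ℤ, x * r ^ j * x = r ^ (-j) := by
    intro j
    have h1 : x * r * x⁻¹ = r⁻¹ := by
      have hx'2 : x' * x' = 1 := by rw [hx', ← c.al_mul, hq4, c.al_one]
      rw [hr, hxinv, mul_inv_rev, inv_eq_of_mul_eq_one_right hx'2, hxinv,
        show x * (x * x') * x = (x * x) * (x' * x) by group, hq4, one_mul]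
    have h2 : x * r ^ j * x⁻¹ = r ^ (-j) := by rw [← conj_zpow, h1, inv_zpow, zpow_neg]
    rwa [hxinv] at h2
  have hconjW : ∀ g ∈ c.T, g⁻¹ * a * g ∈ hw.W := fun g hg => by
    have := hw.conj_W (inv_mem hg) ha
    rwa [inv_inv] at this
  rcases hi with e | e
  · set b := (r ^ i)⁻¹ * a * r ^ i * a with hb
    have hbW : b ∈ hw.W := mul_mem (hconjW _ (zpow_mem hrT i)) ha
    have hxb : x = r ^ (i + i) * b := by
      rw [hx, e, hb, zpow_add]
      group
    have h1 := hxr 1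
    rw [zpow_one, zpow_neg_one] at h1
    have hcomm : Commute (r ^ (i + i)) r := (Commute.refl r).zpow_left _
    have h2 : b * r * b = r⁻¹ := by
      have e1 : x * r * x⁻¹ = r ^ (i + i) * (b * r * b⁻¹) * (r ^ (i + i))⁻¹ := by rw [hxb]; group
      rw [hxinv, h1, inv_eq_of_mul_eq_one_right (hw.sq_W hbW)] at e1
      calc b * r * b = (r ^ (i + i))⁻¹ * (r ^ (i + i) * (b * r * b) * (r ^ (i + i))⁻¹) * r ^ (i + i) := by group
        _ = (r ^ (i + i))⁻¹ * r⁻¹ * r ^ (i + i) := by rw [← e1]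
        _ = r⁻¹ := by rw [(hcomm.inv_inv).eq, inv_mul_cancel_right]
    have hr2 : r * r ∈ hw.W := by
      have e2 : r * r = (r * b * r⁻¹) * b := by
        have h3 : r = b * r⁻¹ * b := by
          rw [← h2]
          rw [show b * (b * r * b) * b = (b * b) * r * (b * b) by group, hw.sq_W hbW, one_mul, mul_one]
        calc r * r = r * (b * r⁻¹ * b) := by rw [← h3]
          _ = _ := by group
      rw [e2]
      exact mul_mem (hw.conj_W hrT hbW) hbW
    apply hxW
    rw [hxb]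
    refine mul_mem ?_ hbW
    rw [← two_mul, zpow_mul, zpow_two]
    exact zpow_mem hr2 i
  · apply hxW
    rw [hx, e, show r ^ i * x * a * (r ^ i * x * a) =
      (r ^ i * (x * r ^ i * x)) * (((r ^ i * x)⁻¹ * a * (r ^ i * x)) * a) by group, hxr, ← zpow_add,
      add_neg_cancel, zpow_zero, one_mul]
    exact mul_mem (hconjW _ (mul_mem (zpow_mem hrT i) hxT)) ha

/-- An involution other than `z` commuting with `u` is not conjugate to `z`. -/
theorem Conf.Sq.no_fusion (hSq : c.Sq) {x g : H} (hx : x ∈ c.T) (hxz : x ≠ c.z) (hxu : c.u * x = x * c.u)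
    (hg : g ∈ c.A) (he : g * x * g⁻¹ = c.z) : False := by
  obtain ⟨f, hf, hfx, hfT⟩ := c.transport hg he c.z_mem fun r hr => c.z_comm hr
  have hfu : f * c.u * f⁻¹ ∈ c.T := hfT c.u c.u_mem hxu
  have hval : f * c.u * f⁻¹ * (f * c.u * f⁻¹) = f * c.z * f⁻¹ := by
    show _ = f * (c.u * c.u) * f⁻¹
    group
  have h := hSq _ hfu (by rw [hval]; exact fun e => c.z_ne (conj_eq_one_iff.1 e)) (by
    rw [hval, show f * c.z * f⁻¹ * (f * c.z * f⁻¹) = f * (c.z * c.z) * f⁻¹ by group, c.zz, mul_one, mul_inv_cancel])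
  rw [hval] at h
  exact hxz (mul_left_cancel (mul_right_cancel (h.trans hfx.symm))).symm

theorem Conf.Sq.fixes_z (hSq : c.Sq) {n : H} (hn : ∀ r ∈ c.T, n * r * n⁻¹ ∈ c.T) : n * c.z * n⁻¹ = c.z := by
  have hval : n * c.u * n⁻¹ * (n * c.u * n⁻¹) = n * c.z * n⁻¹ := by
    show _ = n * (c.u * c.u) * n⁻¹
    group
  rw [← hval]
  exact hSq _ (hn _ c.u_mem) (by rw [hval]; exact fun e => c.z_ne (conj_eq_one_iff.1 e)) (by
    rw [hval, show n * c.z * n⁻¹ * (n * c.z * n⁻¹) = n * (c.z * c.z) * n⁻¹ by group, c.zz, mul_one, mul_inv_cancel])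

/-- If `T` is generated modulo central elements by `a` and `b` as shown, its derived group is cyclic. -/
theorem Conf.IsW.derived_le (hw : c.IsW w) (hWc : ∀ g ∈ c.T, g * w = w * g) {a b : H} (ha : a ∈ c.T)
    (hb : b ∈ c.T) (hab : Commute (b * a * b⁻¹) a)
    (hgen : ∀ g ∈ c.T, ∃ i : ℤ, ∃ y ∈ hw.W, g = a ^ i * y ∨ g = a ^ i * b * y) :
    ⁅c.T, c.T⁆ ≤ zpowers ⁅b, a⁆ := by
  have hWcent : ∀ y ∈ hw.W, ∀ g ∈ c.T, g * y = y * g := by
    intro y hy g hg
    rcases hw.mem_W.1 hy with rfl | rfl | rfl | rfl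
    · simp
    · exact c.z_comm hg
    · exact hWc g hg
    · rw [← mul_assoc, hWc g hg, mul_assoc, c.z_comm hg, ← mul_assoc]
  set e := ⁅b, a⁆ with he
  have hea : Commute e a := by
    rw [he, commutatorElement_def]
    exact hab.mul_left ((Commute.refl a).inv_left)
  have hk : ∀ k : ℤ, b * a ^ k * b⁻¹ = e ^ k * a ^ k := by
    intro k
    rw [← conj_zpow, ← hea.mul_zpow, he, commutatorElement_def, inv_mul_cancel_right]
  have key : ∀ g g' : H, g ∈ c.T → g' ∈ c.T →
      (∀ y ∈ hw.W, ∀ y' ∈ hw.W, ⁅g * y, g' * y'⁆ = ⁅g, g'⁆) := by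
    intro g g' hg hg' y hy y' hy'
    have c1 : ∀ x ∈ c.T, Commute y x := fun x hx => (hWcent y hy x hx).symm
    have c2 : ∀ x ∈ c.T, Commute y' x := fun x hx => (hWcent y' hy' x hx).symm
    simp only [commutatorElement_def, mul_inv_rev]
    have hyT := hw.W_le hy
    calc g * y * (g' * y') * (y⁻¹ * g⁻¹) * (y'⁻¹ * g'⁻¹)
        = g * (y * (g' * y') * y⁻¹) * g⁻¹ * y'⁻¹ * g'⁻¹ := by group
      _ = g * (g' * y') * g⁻¹ * y'⁻¹ * g'⁻¹ := by
          rw [(c1 _ (mul_mem hg' (hw.W_le hy'))).eq, mul_inv_cancel_right]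
      _ = g * g' * (y' * g⁻¹ * y'⁻¹) * g'⁻¹ := by group
      _ = g * g' * g⁻¹ * g'⁻¹ := by rw [(c2 _ (inv_mem hg)).eq, mul_inv_cancel_right]
  rw [commutator_le]
  intro g hg g' hg'
  obtain ⟨i, y, hy, h1⟩ := hgen g hg
  obtain ⟨k, y', hy', h2⟩ := hgen g' hg'
  have haa : ∀ j : ℤ, a ^ j ∈ c.T := fun j => zpow_mem ha j
  have hab' : ∀ j : ℤ, a ^ j * b ∈ c.T := fun j => mul_mem (haa j) hb
  have hcomm : ∀ j l : ℤ, a ^ j * e ^ l = e ^ l * a ^ j := fun j l => (hea.symm.zpow_zpow j l).eq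
  rcases h1 with h1 | h1 <;> rcases h2 with h2 | h2 <;> rw [h1, h2]
  · rw [key _ _ (haa i) (haa k) y hy y' hy', commutatorElement_eq_one_iff_commute.2 ((Commute.refl a).zpow_zpow i k)]
    exact one_mem _
  · rw [key _ _ (haa i) (hab' k) y hy y' hy', commutatorElement_def,
      show a ^ i * (a ^ k * b) * (a ^ i)⁻¹ * (a ^ k * b)⁻¹ =
        a ^ i * a ^ k * (b * (a ^ i)⁻¹ * b⁻¹) * (a ^ k)⁻¹ by group,
      ← zpow_neg a i, hk, ← zpow_add,
      show a ^ (i + k) * (e ^ (-i) * a ^ (-i)) * (a ^ k)⁻¹ = (a ^ (i + k) * e ^ (-i)) * (a ^ (-i) * (a ^ k)⁻¹) by group,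
      hcomm, mul_assoc, ← zpow_neg a k, ← zpow_add, ← zpow_add, show i + k + (-i + -k) = 0 by ring, zpow_zero,
      mul_one]
    exact zpow_mem (mem_zpowers e) _
  · rw [key _ _ (hab' i) (haa k) y hy y' hy', commutatorElement_def,
      show a ^ i * b * a ^ k * (a ^ i * b)⁻¹ * (a ^ k)⁻¹ =
        a ^ i * (b * a ^ k * b⁻¹) * ((a ^ i)⁻¹ * (a ^ k)⁻¹) by group,
      hk, ← mul_assoc (a ^ i), hcomm, mul_assoc, mul_assoc, ← zpow_neg a k, ← zpow_neg a i, ← zpow_add, ← zpow_add,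
      ← zpow_add, show i + (k + (-i + -k)) = 0 by ring, zpow_zero, mul_one]
    exact zpow_mem (mem_zpowers e) _
  · rw [key _ _ (hab' i) (hab' k) y hy y' hy', commutatorElement_def,
      show a ^ i * b * (a ^ k * b) * (a ^ i * b)⁻¹ * (a ^ k * b)⁻¹ =
        a ^ i * (b * (a ^ k * (a ^ i)⁻¹) * b⁻¹) * (a ^ k)⁻¹ by group,
      ← zpow_neg a i, ← zpow_add, hk, ← mul_assoc, hcomm, mul_assoc, mul_assoc, ← zpow_neg a k, ← zpow_add,
      ← zpow_add, show i + (k + -i + -k) = 0 by ring, zpow_zero, mul_one]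
    exact zpow_mem (mem_zpowers e) _

/-- The end of the central case without outside involutions. -/
theorem Conf.IsW.finish_central (hw : c.IsW w) (hWc : ∀ g ∈ c.T, g * w = w * g)
    (hz : ∀ n ∈ c.A, (∀ r ∈ c.T, n * r * n⁻¹ ∈ c.T) → n * c.z * n⁻¹ = c.z)
    (hinv : ∀ g ∈ c.T, g * g = 1 → g ∈ hw.W) {e : H} (he : ⁅c.T, c.T⁆ ≤ zpowers e) : False := by
  have hzc : ∀ r ∈ c.T, r * c.z = c.z * r := fun r hr => c.z_comm hr
  have hwzc : ∀ r ∈ c.T, r * (w * c.z) = w * c.z * r := fun r hr => by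
    rw [← mul_assoc, hWc r hr, mul_assoc, c.z_comm hr, ← mul_assoc]
  have hconj1 : ∀ (g x : H), x * x = 1 → g * x * g⁻¹ * (g * x * g⁻¹) = 1 := fun g x hx => by
    rw [show g * x * g⁻¹ * (g * x * g⁻¹) = g * (x * x) * g⁻¹ by group, hx, mul_one, mul_inv_cancel]
  have hzne : ∀ x ∈ c.T, (∀ r ∈ c.T, r * x = x * r) → x ≠ c.z → ∀ g ∈ c.A, g * x * g⁻¹ ≠ c.z := by
    intro x hx hxc hxz g hg e'
    obtain ⟨n, hn, hne, hnT, -⟩ := c.burnside hx c.z_mem hxc hzc hg e'
    exact hxz (mul_left_cancel (mul_right_cancel (hne.trans (hz n hn hnT).symm)))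
  have hziso : ∀ g ∈ c.A, g * c.z * g⁻¹ ∈ c.T → g * c.z * g⁻¹ = c.z := by
    intro g hg hgT
    have hback : ∀ x, g * c.z * g⁻¹ = x → g⁻¹ * x * g⁻¹⁻¹ = c.z := fun x hx => by rw [← hx]; group
    rcases hw.mem_W.1 (hinv _ hgT (hconj1 g _ c.zz)) with e' | e' | e' | e'
    · exact absurd (conj_eq_one_iff.1 e') c.z_ne
    · exact e'
    · exact absurd (hback _ e') (hzne w hw.mem hWc hw.ne_z g⁻¹ (inv_mem hg))
    · exact absurd (hback _ e') (hzne _ hw.other.mem hwzc hw.other.ne_z g⁻¹ (inv_mem hg))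
  have hwiso : ∀ g ∈ c.A, g * w * g⁻¹ ∈ c.T → g * w * g⁻¹ = w := by
    intro g hg hgT
    rcases hw.mem_W.1 (hinv _ hgT (hconj1 g _ hw.sq)) with e' | e' | e' | e'
    · exact absurd (conj_eq_one_iff.1 e') hw.ne_one
    · exact absurd e' (hzne w hw.mem hWc hw.ne_z g hg)
    · exact e'
    · exfalso
      obtain ⟨n, hn, hne, hnT, m, hm, hmT⟩ := c.burnside hw.mem hw.other.mem hWc hwzc hg e'
      exact c.no_swap (hz n hn hnT) hne hm (by rw [hWc _ hmT, mul_inv_cancel_right])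
  have h1 := he (c.mem_commutator_of_central c.z_mem (c.central_of_isolated c.z_mem c.zz c.z_ne hziso))
  have h2 := he (c.mem_commutator_of_central hw.mem (c.central_of_isolated hw.mem hw.sq hw.ne_one hwiso))
  refine hw.ne_z (congrArg Subtype.val (Cfsg.Lib.Misc.ExtremalTransfer.eq_of_sq
    (a := (⟨w, h2⟩ : zpowers e)) (b := ⟨c.z, h1⟩) ?_ ?_ ?_ ?_))
  · exact Subtype.ext (by show w ^ 2 = 1; rw [pow_two]; exact hw.sq)
  · exact Subtype.ext (by show c.z ^ 2 = 1; rw [pow_two]; exact c.zz)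
  · exact fun h => hw.ne_one (congrArg Subtype.val h)
  · exact fun h => c.z_ne (congrArg Subtype.val h)

/-- An element of `T` squaring to `w` cannot exist. -/
theorem Conf.IsW.no_root (hw : c.IsW w) (hu : c.u * w = w * c.u) {q : H} (hq : q ∈ c.T) (hqq : q * q = w) :
    False := by
  classical
  haveI : Fact (Nat.Prime 2) := ⟨Nat.prime_two⟩
  haveI := c.nA
  set q' := c.al q with hq'
  have hq'T : q' ∈ c.T := c.al_mem hq
  have hq'q' : q' * q' = w * c.z := by rw [hq', ← c.al_mul, hqq, hw.al]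
  have hqW : q ∉ hw.W := fun h => hw.ne_one (by rw [← hqq]; exact hw.sq_W h)
  have hqu : c.u⁻¹ * q ∉ hw.W := fun h => hw.ne_z (by rw [← hqq]; exact hw.u_sq hu h)
  have hgen := hw.generate hu hq hqW hqu (by rw [hqq]; exact hw.self_mem_W)
  rw [← hq'] at hgen
  set r := q * q' with hr
  have hrT : r ∈ c.T := mul_mem hq hq'T
  have hqw : Commute q w := by rw [← hqq]; exact (Commute.refl q).mul_right (Commute.refl q)
  have hq'wz : Commute q' (w * c.z) := by rw [← hq'q']; exact (Commute.refl q').mul_right (Commute.refl q')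
  have hq'w : Commute q' w := by
    have := hq'wz.mul_right (c.z_comm hq'T : q' * c.z = c.z * q')
    rwa [mul_assoc, c.zz, mul_one] at this
  have hrw : Commute r w := hqw.mul_left hq'w
  have hWc : ∀ g ∈ c.T, g * w = w * g := by
    intro g hg
    obtain ⟨i, a, ha, e | e⟩ := hgen g hg <;> rw [e]
    · exact ((hrw.zpow_left i).mul_left (hw.W_comm ha hw.self_mem_W : a * w = w * a)).eq
    · exact (((hrw.zpow_left i).mul_left hqw).mul_left (hw.W_comm ha hw.self_mem_W : a * w = w * a)).eq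
  by_cases habq : q * q' = q' * q
  · -- `T` is homocyclic of rank two
    have hq4 : q ^ 4 = 1 := by rw [show (4 : ℕ) = 2 + 2 by norm_num, pow_add, pow_two, hqq, hw.sq]
    have hq'4 : q' ^ 4 = 1 := by rw [show (4 : ℕ) = 2 + 2 by norm_num, pow_add, pow_two, hq'q', hw.other.sq]
    let φ₁ : Multiplicative (ZMod 4) →* H :=
      AddMonoidHom.toMultiplicativeLeft (ZMod.lift 4 ⟨(zmultiplesHom (Additive H)) (Additive.ofMul q), by
        show ((4 : ℕ) : ℤ) • Additive.ofMul q = 0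
        rw [natCast_zsmul, ← ofMul_pow, hq4, ofMul_one]⟩)
    let φ₂ : Multiplicative (ZMod 4) →* H :=
      AddMonoidHom.toMultiplicativeLeft (ZMod.lift 4 ⟨(zmultiplesHom (Additive H)) (Additive.ofMul q'), by
        show ((4 : ℕ) : ℤ) • Additive.ofMul q' = 0
        rw [natCast_zsmul, ← ofMul_pow, hq'4, ofMul_one]⟩)
    have hφ₁ : ∀ i : ℤ, φ₁ (Multiplicative.ofAdd (i : ZMod 4)) = q ^ i := fun i => by
      simp [φ₁]
    have hφ₂ : ∀ i : ℤ, φ₂ (Multiplicative.ofAdd (i : ZMod 4)) = q' ^ i := fun i => by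
      simp [φ₂]
    have hsurj : ∀ x : Multiplicative (ZMod 4), ∃ i : ℤ, x = Multiplicative.ofAdd (i : ZMod 4) := fun x => by
      obtain ⟨i, hi⟩ := ZMod.intCast_surjective x.toAdd
      exact ⟨i, by rw [hi, ofAdd_toAdd]⟩
    let ψ : Multiplicative (ZMod 4 × ZMod 4) →* c.T :=
      { toFun := fun x => ⟨φ₁ (Multiplicative.ofAdd x.toAdd.1) * φ₂ (Multiplicative.ofAdd x.toAdd.2), by
          obtain ⟨i, hi⟩ := hsurj (Multiplicative.ofAdd x.toAdd.1)
          obtain ⟨j, hj⟩ := hsurj (Multiplicative.ofAdd x.toAdd.2)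
          rw [hi, hj, hφ₁, hφ₂]
          exact mul_mem (zpow_mem hq i) (zpow_mem hq'T j)⟩
        map_one' := Subtype.ext (by simp)
        map_mul' := fun x y => Subtype.ext (by
          simp only [toAdd_mul, Prod.fst_add, Prod.snd_add, ofAdd_add, map_mul, Subgroup.coe_mul]
          obtain ⟨i, hi⟩ := hsurj (Multiplicative.ofAdd y.toAdd.1)
          obtain ⟨j, hj⟩ := hsurj (Multiplicative.ofAdd x.toAdd.2)
          rw [hi, hj, hφ₁, hφ₂]
          rw [mul_assoc (φ₁ _) (q ^ i), ← mul_assoc (q ^ i), ((show Commute q q' from habq).zpow_zpow i j).eq]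
          simp only [mul_assoc]) }
    have hψ : ∀ i j : ℤ, ψ (Multiplicative.ofAdd ((i : ZMod 4), (j : ZMod 4))) =
        ⟨q ^ i * q' ^ j, mul_mem (zpow_mem hq i) (zpow_mem hq'T j)⟩ := fun i j => Subtype.ext (by
      show φ₁ (Multiplicative.ofAdd (i : ZMod 4)) * φ₂ (Multiplicative.ofAdd (j : ZMod 4)) = _
      rw [hφ₁, hφ₂])
    have hinj : Function.Injective ψ := by
      rw [injective_iff_map_eq_one]
      intro x hx
      obtain ⟨i, hi⟩ := ZMod.intCast_surjective x.toAdd.1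
      obtain ⟨j, hj⟩ := ZMod.intCast_surjective x.toAdd.2
      have hxe : x = Multiplicative.ofAdd ((i : ZMod 4), (j : ZMod 4)) := by rw [hi, hj]; rfl
      rw [hxe, hψ] at hx
      have hx' : q ^ i * q' ^ j = 1 := congrArg Subtype.val hx
      have hodd : ∀ (p : H) (m : ℤ), p ^ (2 * m + 1) = (p * p) ^ m * p := fun p m => by
        rw [zpow_add_one, zpow_mul, zpow_two]
      have hqWz : ∀ m : ℤ, (q * q) ^ m ∈ hw.W := fun m => zpow_mem (hqq ▸ hw.self_mem_W) m
      have hq'Wz : ∀ m : ℤ, (q' * q') ^ m ∈ hw.W :=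
        fun m => zpow_mem (hq'q' ▸ mul_mem hw.self_mem_W hw.z_mem_W) m
      have hq'W : q' ∉ hw.W := fun h => hqW (by
        have := hw.al_W h
        rwa [hq', c.al_al] at this)
      have hbad : q * q' ∉ hw.W := fun h => by
        refine hw.not_fixed_mod hu hq hqW hqu ?_
        rw [← hq', show q⁻¹ * q' = (q * q)⁻¹ * (q * q') by group, hqq]
        exact mul_mem (inv_mem hw.self_mem_W) h
      rcases Int.even_or_odd' i with ⟨m, rfl | rfl⟩ <;> rcases Int.even_or_odd' j with ⟨n, rfl | rfl⟩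
      · rw [zpow_mul, zpow_two, hqq, zpow_mul, zpow_two, hq'q'] at hx'
        have hwpow : ∀ (y : H), y * y = 1 → ∀ k : ℤ, y ^ k = if Even k then 1 else y := by
          intro y hy k
          rcases Int.even_or_odd k with hk | hk
          · obtain ⟨l, rfl⟩ := hk
            rw [if_pos ⟨l, rfl⟩, ← two_mul, zpow_mul, zpow_two, hy, one_zpow]
          · rw [if_neg (Int.not_even_iff_odd.2 hk)]
            obtain ⟨l, rfl⟩ := hk
            rw [zpow_add_one, zpow_mul, zpow_two, hy, one_zpow, one_mul]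
        rw [hwpow w hw.sq, hwpow _ hw.other.sq] at hx'
        by_cases hm : Even m <;> by_cases hn : Even n
        · obtain ⟨a', rfl⟩ := hm
          obtain ⟨b', rfl⟩ := hn
          rw [hxe]
          push_cast
          have e4 : ∀ y : ZMod 4, 2 * (y + y) = 0 := by decide
          rw [e4, e4]
          rfl
        · rw [if_pos hm, if_neg hn, one_mul] at hx'
          exact absurd hx' hw.other.ne_one
        · rw [if_neg hm, if_pos hn, mul_one] at hx'
          exact absurd hx' hw.ne_one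
        · rw [if_neg hm, if_neg hn, ← mul_assoc, hw.sq, one_mul] at hx'
          exact absurd hx' c.z_ne
      · exfalso
        apply hq'W
        rw [hodd, zpow_mul, zpow_two] at hx'
        have : q' = ((q' * q') ^ n)⁻¹ * ((q * q) ^ m)⁻¹ := by
          rw [← mul_inv_rev]
          exact eq_inv_of_mul_eq_one_right (by rw [mul_assoc]; exact hx')
        rw [this]
        exact mul_mem (inv_mem (hq'Wz n)) (inv_mem (hqWz m))
      · exfalso
        apply hqW
        rw [hodd, zpow_mul, zpow_two] at hx'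
        have : q = ((q * q) ^ m)⁻¹ * ((q' * q') ^ n)⁻¹ := by
          rw [eq_inv_mul_iff_mul_eq]
          exact eq_inv_of_mul_eq_one_left hx'
        rw [this]
        exact mul_mem (inv_mem (hqWz m)) (inv_mem (hq'Wz n))
      · exfalso
        apply hbad
        have hqc : Commute q ((q' * q') ^ n) := by
          rw [hq'q']
          exact (hqw.mul_right (c.z_comm hq : q * c.z = c.z * q)).zpow_right n
        rw [hodd, hodd, show (q * q) ^ m * q * ((q' * q') ^ n * q') = (q * q) ^ m * (q * (q' * q') ^ n) * q' by group,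
          hqc.eq,
          show (q * q) ^ m * ((q' * q') ^ n * q) * q' = ((q * q) ^ m * (q' * q') ^ n) * (q * q') by group] at hx'
        rw [eq_inv_of_mul_eq_one_right hx']
        exact inv_mem (mul_mem (hqWz m) (hq'Wz n))
    have hsurjψ : Function.Surjective ψ := by
      have hW2 : ∀ a, a ∈ hw.W → ∃ k l : ℤ, a = q ^ k * q' ^ l := by
        have h2q : q ^ (2 : ℤ) = w := by rw [zpow_two]; exact hqq
        have h2q' : q' ^ (2 : ℤ) = w * c.z := by rw [zpow_two]; exact hq'q'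
        intro a ha
        rcases hw.mem_W.1 ha with rfl | rfl | rfl | rfl
        · exact ⟨0, 0, by simp⟩
        · exact ⟨2, 2, by rw [h2q, h2q', ← mul_assoc, hw.sq, one_mul]⟩
        · exact ⟨2, 0, by rw [h2q, zpow_zero, mul_one]⟩
        · exact ⟨0, 2, by rw [h2q', zpow_zero, one_mul]⟩
      rintro ⟨g, hg⟩
      have hqq' : ∀ k l : ℤ, q' ^ k * q ^ l = q ^ l * q' ^ k := fun k l =>
        ((show Commute q' q from habq.symm).zpow_zpow k l).eq
      obtain ⟨i, a, ha, e | e⟩ := hgen g hg <;> obtain ⟨k, l, hkl⟩ := hW2 a ha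
      · refine ⟨Multiplicative.ofAdd (((i + k : ℤ) : ZMod 4), ((i + l : ℤ) : ZMod 4)), ?_⟩
        rw [hψ]
        exact Subtype.ext (by
          show q ^ (i + k) * q' ^ (i + l) = g
          rw [e, hkl, hr, (show Commute q q' from habq).mul_zpow, mul_assoc, ← mul_assoc (q' ^ i), hqq',
            mul_assoc (q ^ k), ← zpow_add, ← mul_assoc, ← zpow_add])
      · refine ⟨Multiplicative.ofAdd (((i + (1 + k) : ℤ) : ZMod 4), ((i + l : ℤ) : ZMod 4)), ?_⟩
        rw [hψ]
        exact Subtype.ext (by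
          show q ^ (i + (1 + k)) * q' ^ (i + l) = g
          rw [e, hkl, hr, (show Commute q q' from habq).mul_zpow,
            show q ^ i * q' ^ i * q * (q ^ k * q' ^ l) = q ^ i * (q' ^ i * q ^ (1 + k)) * q' ^ l by
              rw [zpow_add, zpow_one]; group, hqq']
          group)
    let eT : c.T ≃* Multiplicative (ZMod 4 × ZMod 4) := (MulEquiv.ofBijective ψ ⟨hinj, hsurjψ⟩).symm
    have hcoe : (c.TA : Subgroup c.A) = c.T.subgroupOf c.A := IsPGroup.toSylow_coe ..
    let eP : (c.TA : Subgroup c.A) ≃* Multiplicative (ZMod (2 ^ 2) × ZMod (2 ^ 2)) :=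
      ((MulEquiv.subgroupCongr hcoe).trans (subgroupOfEquivOfLe c.T_le_A)).trans eT
    have hO : ∀ N : Subgroup c.A, N.Normal → Odd (Nat.card N) → N = ⊥ := by
      intro N hN hodd
      haveI : (Cfsg.pPrimeCore 2 c.A).Characteristic := Cfsg.Lib.Components.pPrimeCore_characteristic
      have h1 := c.core _ (inferInstance : ((Cfsg.pPrimeCore 2 c.A).map c.A.subtype).Normal) (map_subtype_le _) (by
        rw [card_map_of_injective c.A.subtype_injective]
        exact Nat.coprime_two_right.1 (Cfsg.Lib.Components.coprime_card_pPrimeCore 2))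
      rw [← le_bot_iff, ← (map_eq_bot_iff_of_injective _ c.A.subtype_injective).1 h1]
      exact Cfsg.Lib.Components.le_pPrimeCore (Nat.coprime_two_right.2 hodd)
    obtain ⟨hn, -, hidx⟩ := Cfsg.Agent.S0949.result c.TA 2 le_rfl eP hO
    haveI := hn
    haveI : IsCyclic (c.A ⧸ (c.TA : Subgroup c.A)) := by
      rcases hidx with h | h
      · haveI : Subsingleton (c.A ⧸ (c.TA : Subgroup c.A)) :=
          (Nat.card_eq_one_iff_unique.1 (by rw [← index_eq_card]; exact h)).1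
        exact isCyclic_of_subsingleton
      · haveI : Fact (Nat.Prime 3) := ⟨Nat.prime_three⟩
        exact isCyclic_of_prime_card (p := 3) (by rw [← index_eq_card]; exact h)
    letI : CommGroup (c.A ⧸ (c.TA : Subgroup c.A)) := IsCyclic.commGroup
    have hall : ∀ g : c.A, (g : H) ∈ c.T := fun g => by
      have h1 : (QuotientGroup.mk' (c.TA : Subgroup c.A)) g = 1 :=
        c.hom_trivial (QuotientGroup.mk' (c.TA : Subgroup c.A)) g
      exact c.mem_TA.1 ((QuotientGroup.eq_one_iff g).1 h1)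
    have hab : ∀ a ∈ c.A, ∀ b ∈ c.A, a * b = b * a := fun a ha b hb => by
      have h := congrArg (fun x : c.T => (x : H)) (eT.injective (a₁ := ⟨a, hall ⟨a, ha⟩⟩ * ⟨b, hall ⟨b, hb⟩⟩)
        (a₂ := ⟨b, hall ⟨b, hb⟩⟩ * ⟨a, hall ⟨a, ha⟩⟩) (by rw [map_mul, map_mul, mul_comm]))
      exact h
    have hbot : c.A = ⊥ := by
      rw [← c.perf, commutator_eq_bot_iff_le_centralizer]
      exact fun a ha => mem_centralizer_iff.2 fun b hb => hab b hb a ha
    exact c.u_ne ((mem_bot).1 (hbot ▸ c.uA))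
  -- `T` is not abelian
  have hprod : (q' * q) * r = c.z := by
    rw [hr, show q' * q * (q * q') = q' * (q * q) * q' by group, hqq, hq'w.eq, mul_assoc, hq'q', ← mul_assoc,
      hw.sq, one_mul]
  have hprod' : r * (q' * q) = c.z := by
    rw [hr, show q * q' * (q' * q) = q * (q' * q') * q by group, hq'q',
      (hqw.mul_right (c.z_comm hq : q * c.z = c.z * q) : Commute q (w * c.z)).eq, mul_assoc, hqq,
      hw.comm, mul_assoc, hw.sq, mul_one]
  have hconj : q * r * q⁻¹ = q' * q := by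
    have hqi : q⁻¹ = q * w := eq_comm.1 (eq_inv_of_mul_eq_one_right (by rw [← mul_assoc, hqq, hw.sq]))
    rw [hr, show q * (q * q') * q⁻¹ = (q * q) * q' * q⁻¹ by group, hqq, hqi, ← hq'w.eq,
      show q' * w * (q * w) = q' * (w * q) * w by group, ← hqw.eq,
      show q' * (q * w) * w = q' * q * (w * w) by group, hw.sq, mul_one]
  have hD := hw.derived_le hWc hrT hq (by rw [hconj]; exact hprod.trans hprod'.symm) hgen
  set e := ⁅q, r⁆ with he
  have he1 : e ≠ 1 := by
    intro h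
    apply habq
    have hc' : q * r = r * q := commutatorElement_eq_one_iff_mul_comm.1 h
    rw [hr, mul_assoc q q' q] at hc'
    exact mul_left_cancel hc'
  have heT : e ∈ ⁅c.T, c.T⁆ := commutator_mem_commutator hq hrT
  -- `z` is the only involution of the derived group
  have huniq : ∀ x ∈ ⁅c.T, c.T⁆, x * x = 1 → x ≠ 1 → ∀ y ∈ ⁅c.T, c.T⁆, y * y = 1 → y ≠ 1 → x = y := by
    intro x hx hxx hx1 y hy hyy hy1
    exact congrArg Subtype.val (Cfsg.Lib.Misc.ExtremalTransfer.eq_of_sq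
      (a := (⟨x, hD hx⟩ : zpowers e)) (b := ⟨y, hD hy⟩)
      (Subtype.ext (by show x ^ 2 = 1; rw [pow_two]; exact hxx))
      (Subtype.ext (by show y ^ 2 = 1; rw [pow_two]; exact hyy))
      (fun h => hx1 (congrArg Subtype.val h)) (fun h => hy1 (congrArg Subtype.val h)))
  have hTT : ⁅c.T, c.T⁆ ≤ c.T := commutator_le_self _
  obtain ⟨k, hk⟩ := IsPGroup.iff_orderOf.1 c.isPGroup_T ⟨e, hTT heT⟩
  rw [Subgroup.orderOf_mk] at hk
  obtain ⟨k, rfl⟩ : ∃ l, k = l + 1 := ⟨k - 1, by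
    rcases k with _ | k
    · exact absurd (orderOf_eq_one_iff.1 (by rwa [pow_zero] at hk)) he1
    · omega⟩
  set x0 := e ^ 2 ^ k with hx0
  have hx0T : x0 ∈ ⁅c.T, c.T⁆ := pow_mem heT _
  have hx02 : x0 * x0 = 1 := by rw [hx0, ← pow_add, ← two_mul, ← pow_succ', ← hk, pow_orderOf_eq_one]
  have hx01 : x0 ≠ 1 := by
    intro h
    have := orderOf_dvd_of_pow_eq_one h
    rw [hk, Nat.pow_dvd_pow_iff_le_right (by norm_num)] at this
    omega
  have hmapn : ∀ n, (∀ r ∈ c.T, n * r * n⁻¹ ∈ c.T) → ∀ x ∈ ⁅c.T, c.T⁆, n * x * n⁻¹ ∈ ⁅c.T, c.T⁆ := by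
    intro n hn x hx
    have h := mem_map_of_mem (MulAut.conj n).toMonoidHom hx
    rw [map_commutator] at h
    have hle : c.T.map (MulAut.conj n).toMonoidHom ≤ c.T := by rintro _ ⟨r, hr, rfl⟩; exact hn r hr
    exact commutator_mono hle hle h
  have halx : c.al x0 = x0 := by
    refine huniq _ ?_ (by rw [← c.al_mul, hx02, c.al_one])
      (fun h => hx01 (by have := congrArg c.al h; rwa [c.al_al, c.al_one] at this)) _ hx0T hx02 hx01
    have := hmapn c.t (fun r hr => c.T_normal c.tS hr) x0 hx0T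
    rwa [c.tinv] at this
  have hzmem : c.z ∈ ⁅c.T, c.T⁆ := c.fix_inv (hTT hx0T) halx hx02 hx01 ▸ hx0T
  have hz : ∀ n ∈ c.A, (∀ r ∈ c.T, n * r * n⁻¹ ∈ c.T) → n * c.z * n⁻¹ = c.z := by
    intro n _ hn
    refine huniq _ (hmapn n hn _ hzmem) ?_ (fun h => c.z_ne (conj_eq_one_iff.1 h)) _ hzmem c.zz c.z_ne
    rw [show n * c.z * n⁻¹ * (n * c.z * n⁻¹) = n * (c.z * c.z) * n⁻¹ by group, c.zz, mul_one, mul_inv_cancel]
  have halr : c.al r = c.z * r⁻¹ := by
    rw [eq_mul_inv_iff_mul_eq, hr, c.al_mul, ← hq', hq', c.al_al, ← hq']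
    exact hprod
  refine hw.finish_central hWc hz (fun g hg hgg => ?_) hD
  have hWa : ∀ a ∈ hw.W, ∀ g ∈ c.T, g * a = a * g := by
    intro a ha g hg
    rcases hw.mem_W.1 ha with rfl | rfl | rfl | rfl
    · simp
    · exact c.z_comm hg
    · exact hWc g hg
    · rw [← mul_assoc, hWc g hg, mul_assoc, c.z_comm hg, ← mul_assoc]
  obtain ⟨i, a, ha, e' | e'⟩ := hgen g hg
  · have hri : r ^ i * r ^ i = 1 := by
      rw [e', show r ^ i * a * (r ^ i * a) = r ^ i * (a * r ^ i) * a by group, ← hWa a ha _ (zpow_mem hrT i),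
        show r ^ i * (r ^ i * a) * a = r ^ i * r ^ i * (a * a) by group, hw.sq_W ha, mul_one] at hgg
      exact hgg
    have hfix : g⁻¹ * c.al g ∈ hw.W := by
      rw [e', c.al_mul, c.al_zpow, halr, (show Commute c.z r⁻¹ from (c.z_comm (inv_mem hrT)).symm).mul_zpow,
        show (r ^ i * a)⁻¹ * (c.z ^ i * r⁻¹ ^ i * c.al a) = a⁻¹ * ((r ^ i)⁻¹ * c.z ^ i * r⁻¹ ^ i) * c.al a by group,
        (show Commute (r ^ i)⁻¹ (c.z ^ i) from
          ((show Commute (r ^ i)⁻¹ c.z from c.z_comm (inv_mem (zpow_mem hrT i)))).zpow_right i).eq,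
        inv_zpow, mul_assoc (c.z ^ i), ← mul_inv_rev, hri, inv_one, mul_one]
      exact mul_mem (mul_mem (inv_mem ha) (zpow_mem hw.z_mem_W i)) (hw.al_W ha)
    rcases hw.fixed_mod hg hfix with h | h
    · exact h
    · exfalso
      rw [hw.u_sq hu h] at hgg
      exact c.z_ne hgg
  · exfalso
    have hqri : q * r ^ i * q⁻¹ = c.z ^ i * (r ^ i)⁻¹ := by
      rw [← conj_zpow, hconj, show q' * q = c.z * r⁻¹ by rw [eq_mul_inv_iff_mul_eq]; exact hprod,
        (show Commute c.z r⁻¹ from (c.z_comm (inv_mem hrT)).symm).mul_zpow, inv_zpow]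
    rw [e', show r ^ i * q * a * (r ^ i * q * a) = r ^ i * q * (a * (r ^ i * q)) * a by group,
      ← hWa a ha _ (mul_mem (zpow_mem hrT i) hq),
      show r ^ i * q * (r ^ i * q * a) * a = r ^ i * (q * r ^ i * q⁻¹) * (q * q) * (a * a) by group,
      hw.sq_W ha, mul_one, hqq, hqri,
      show r ^ i * (c.z ^ i * (r ^ i)⁻¹) = c.z ^ i by
        rw [← mul_assoc, ((show Commute (r ^ i) c.z from c.z_comm (zpow_mem hrT i))).zpow_right i |>.eq, mul_inv_cancel_right]] at hgg
    rcases c.zpowers_z ⟨i, rfl⟩ with h | h <;> simp only at h <;> rw [h] at hgg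
    · exact hw.ne_one (by simpa using hgg)
    · exact hw.other.ne_one (by rw [hw.comm]; exact hgg)

end Cfsg.Lib.FourFixed
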