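/-
`u` centralizes the four group: there are no involutions of `T` outside the four group.
-/
import Cfsg.Agent.Components.FourFixed.Fusion

set_option autoImplicit false
set_option linter.style.haveILetI false
set_option linter.unusedSectionVars false

namespace Cfsg.Lib.FourFixed

open Subgroup

universe v

variable {H : Type v} [Group H] [Finite H] {c : Conf H} {w : H}

/-- Conjugacy under `A`. -/
def Conf.Cj (c : Conf H) (x y : H) : Prop := ∃ g ∈ c.A, g * x * g⁻¹ = y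

theorem Conf.cj_symm {x y : H} (h : c.Cj x y) : c.Cj y x := by
  obtain ⟨g, hg, rfl⟩ := h
  exact ⟨g⁻¹, inv_mem hg, by group⟩

theorem Conf.cj_trans {x y y' : H} (h : c.Cj x y) (h' : c.Cj y y') : c.Cj x y' := by
  obtain ⟨g, hg, rfl⟩ := h
  obtain ⟨g', hg', rfl⟩ := h'
  exact ⟨g' * g, mul_mem hg' hg, by group⟩

theorem Conf.cj_al {x y : H} (h : c.Cj x y) : c.Cj (c.al x) (c.al y) := by
  obtain ⟨g, hg, rfl⟩ := h
  refine ⟨c.al g, ?_, by rw [← c.al_inv, ← c.al_mul, ← c.al_mul]⟩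
  have h := c.nA.conj_mem g hg c.t
  rwa [c.tinv] at h

theorem Conf.IsW.sq_cond (hw : c.IsW w) (hu : c.u * w = w * c.u) : c.Sq :=
  hw.sq_of_noX hu fun _ hq =>
    ⟨fun e => hw.no_root hu hq e,
      fun e => hw.other.no_root (hw.u_comm_W hu (mul_mem hw.self_mem_W hw.z_mem_W)) hq e⟩

theorem Conf.IsW.not_cj_z (hw : c.IsW w) (hu : c.u * w = w * c.u) {a : H} (ha : a = w ∨ a = w * c.z) :
    ¬ c.Cj a c.z := by
  rintro ⟨g, hg, e⟩
  rcases ha with rfl | rfl
  · exact (hw.sq_cond hu).no_fusion hw.mem hw.ne_z hu hg e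
  · exact (hw.sq_cond hu).no_fusion hw.other.mem hw.other.ne_z
      (hw.u_comm_W hu (mul_mem hw.self_mem_W hw.z_mem_W)) hg e

/-- `T` as a union of two cosets of `⟨r⟩` over the four group. -/
structure Conf.IsRefl (c : Conf H) (w r y : H) : Prop where
  rT : r ∈ c.T
  yT : y ∈ c.T
  y2 : y * y ∈ zpowers r
  inv : y * r * y⁻¹ = r⁻¹
  zr : c.z ∈ zpowers r
  r2 : r * r ≠ 1
  wr : w ∉ zpowers r
  comm : Commute r w
  gen : ∀ g ∈ c.T, ∃ i : ℤ, (g = r ^ i ∨ g = r ^ i * w) ∨ (g = r ^ i * y ∨ g = r ^ i * y * w)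

variable {r y : H}

theorem Conf.IsRefl.conj_zpow' (h : c.IsRefl w r y) (i : ℤ) : y * r ^ i * y⁻¹ = r ^ (-i) := by
  rw [← conj_zpow, h.inv, inv_zpow, zpow_neg]

theorem Conf.IsRefl.mv (h : c.IsRefl w r y) (i : ℤ) : y * r ^ i = r ^ (-i) * y := by
  rw [← h.conj_zpow' i, inv_mul_cancel_right]

/-- Every involution of `A` has a conjugate of the form `z`, `r ^ i * y`. -/
theorem Conf.IsRefl.conj_into (h : c.IsRefl w r y) (hww : w * w = 1) (hwT : w ∈ c.T) {x : H} (hxA : x ∈ c.A)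
    (hxx : x * x = 1) (hx1 : x ≠ 1) :
    c.Cj x c.z ∨ ∃ i : ℤ, (r ^ i * y) * (r ^ i * y) = 1 ∧ c.Cj x (r ^ i * y) := by
  classical
  let M : Subgroup H :=
    { carrier := {g | ∃ i : ℤ, g = r ^ i ∨ g = r ^ i * y}
      one_mem' := ⟨0, Or.inl (zpow_zero r).symm⟩
      mul_mem' := by
        rintro a b ⟨i, rfl | rfl⟩ ⟨j, rfl | rfl⟩
        · exact ⟨i + j, Or.inl (zpow_add r i j).symm⟩
        · exact ⟨i + j, Or.inr (by rw [zpow_add, mul_assoc])⟩
        · exact ⟨i - j, Or.inr (by rw [mul_assoc, h.mv, ← mul_assoc, ← zpow_add, sub_eq_add_neg])⟩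
        · obtain ⟨k, hk : r ^ k = y * y⟩ := h.y2
          refine ⟨i - j + k, Or.inl ?_⟩
          rw [show r ^ i * y * (r ^ j * y) = r ^ i * (y * r ^ j) * y by group, h.mv,
            show r ^ i * (r ^ (-j) * y) * y = r ^ i * r ^ (-j) * (y * y) by group, ← hk, ← zpow_add, ← zpow_add,
            sub_eq_add_neg]
      inv_mem' := by
        rintro a ⟨i, rfl | rfl⟩
        · exact ⟨-i, Or.inl (zpow_neg r i).symm⟩
        · obtain ⟨k, hk : r ^ k = y * y⟩ := h.y2
          refine ⟨i - k, Or.inr ?_⟩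
          refine inv_eq_of_mul_eq_one_left ?_
          rw [show r ^ (i - k) * y * (r ^ i * y) = r ^ (i - k) * (y * r ^ i) * y by group, h.mv,
            show r ^ (i - k) * (r ^ (-i) * y) * y = r ^ (i - k) * r ^ (-i) * (y * y) by group, ← hk, ← zpow_add,
            ← zpow_add, show i - k + -i + k = 0 by ring, zpow_zero] }
  have hM : M ≤ c.T := by
    rintro a ⟨i, rfl | rfl⟩
    exacts [zpow_mem h.rT i, mul_mem (zpow_mem h.rT i) h.yT]
  have hrM : ∀ i : ℤ, r ^ i ∈ M := fun i => ⟨i, Or.inl rfl⟩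
  have hyM : y ∈ M := ⟨0, Or.inr (by rw [zpow_zero, one_mul])⟩
  have hwM : w ∉ M := by
    rintro ⟨i, e | e⟩
    · exact h.wr ⟨i, e.symm⟩
    · have hy : y = r ^ (-i) * w := by rw [e, zpow_neg, inv_mul_cancel_left]
      have hc : Commute y r := by
        rw [hy]
        exact ((Commute.refl r).zpow_left _).mul_left h.comm.symm
      have h1 := h.inv
      rw [hc.eq, mul_inv_cancel_right] at h1
      exact h.r2 (by nth_rewrite 2 [h1]; rw [mul_inv_cancel])
  have hnot : ∀ b ∈ M, b * w ∉ M := fun b hb hbw => hwM (by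
    have := mul_mem (inv_mem hb) hbw
    rwa [inv_mul_cancel_left] at this)
  have hidx : M.relIndex c.T = 2 := by
    rw [relIndex, index_eq_two_iff]
    refine ⟨⟨w, hwT⟩, fun b => ?_⟩
    rw [mem_subgroupOf, mem_subgroupOf]
    show Xor ((b : H) * w ∈ M) ((b : H) ∈ M)
    obtain ⟨i, hi⟩ := h.gen b b.2
    by_cases hb : (b : H) ∈ M
    · exact Or.inr ⟨hb, hnot _ hb⟩
    · refine Or.inl ⟨?_, hb⟩
      rcases hi with (e | e) | (e | e)
      · exact absurd (e ▸ hrM i) hb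
      · rw [e, mul_assoc, hww, mul_one]; exact hrM i
      · exact absurd (e ▸ mul_mem (hrM i) hyM) hb
      · rw [e, mul_assoc, hww, mul_one]; exact mul_mem (hrM i) hyM
  obtain ⟨g, hg, i, e | e⟩ := c.conj_into hM hidx hxA hxx hx1
  · refine Or.inl ⟨g, hg, ?_⟩
    by_contra hne
    have h1 : r ^ i * r ^ i = 1 := by
      rw [← e, show g * x * g⁻¹ * (g * x * g⁻¹) = g * (x * x) * g⁻¹ by group, hxx, mul_one, mul_inv_cancel]
    refine hne (congrArg Subtype.val (Cfsg.Lib.Misc.ExtremalTransfer.eq_of_sq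
      (a := (⟨g * x * g⁻¹, e ▸ ⟨i, rfl⟩⟩ : zpowers r)) (b := ⟨c.z, h.zr⟩) ?_ ?_ ?_ ?_))
    · exact Subtype.ext (by show (g * x * g⁻¹) ^ 2 = 1; rw [e, pow_two]; exact h1)
    · exact Subtype.ext (by show c.z ^ 2 = 1; rw [pow_two]; exact c.zz)
    · exact fun he => hx1 (conj_eq_one_iff.1 (congrArg Subtype.val he))
    · exact fun he => c.z_ne (congrArg Subtype.val he)
  · refine Or.inr ⟨i, ?_, g, hg, e⟩
    rw [← e, show g * x * g⁻¹ * (g * x * g⁻¹) = g * (x * x) * g⁻¹ by group, hxx, mul_one, mul_inv_cancel]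

theorem Conf.IsRefl.cj_class (h : c.IsRefl w r y) (i : ℤ) :
    c.Cj (r ^ i * y) y ∨ c.Cj (r ^ i * y) (r * y) := by
  rcases Int.even_or_odd' i with ⟨m, rfl | rfl⟩
  · refine Or.inl ⟨r ^ (-m), zpow_mem (c.T_le_A h.rT) _, ?_⟩
    rw [← zpow_neg, neg_neg, show r ^ (-m) * (r ^ (2 * m) * y) * r ^ m = r ^ (-m) * r ^ (2 * m) * (y * r ^ m) by group,
      h.mv, ← mul_assoc, ← zpow_add, ← zpow_add, show -m + 2 * m + -m = 0 by ring, zpow_zero, one_mul]
  · refine Or.inr ⟨r ^ (-m), zpow_mem (c.T_le_A h.rT) _, ?_⟩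
    rw [← zpow_neg, neg_neg,
      show r ^ (-m) * (r ^ (2 * m + 1) * y) * r ^ m = r ^ (-m) * r ^ (2 * m + 1) * (y * r ^ m) by group,
      h.mv, ← mul_assoc, ← zpow_add, ← zpow_add, show -m + (2 * m + 1) + -m = 1 by ring, zpow_one]

theorem Conf.IsW.no_outside (hw : c.IsW w) (hu : c.u * w = w * c.u) {v : H} (hvT : v ∈ c.T)
    (hvv : v * v = 1) (hvW : v ∉ hw.W) : False := by
  classical
  haveI : Fact (Nat.Prime 2) := ⟨Nat.prime_two⟩
  have hSq := hw.sq_cond hu
  have huw' : c.u * (w * c.z) = w * c.z * c.u := hw.u_comm_W hu (mul_mem hw.self_mem_W hw.z_mem_W)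
  have hvu : c.u⁻¹ * v ∉ hw.W := fun h => c.z_ne (by rw [← hw.u_sq hu h, hvv])
  have hgen := hw.generate hu hvT hvW hvu (by rw [hvv]; exact one_mem _)
  have hrW : v * c.al v ∉ hw.W := by
    have h := hw.not_fixed_mod hu hvT hvW hvu
    rwa [inv_eq_of_mul_eq_one_right hvv] at h
  set v' := c.al v with hv'
  have hv'T : v' ∈ c.T := c.al_mem hvT
  have hv'v' : v' * v' = 1 := by rw [hv', ← c.al_mul, hvv, c.al_one]
  set r := v * v' with hr
  have hrT : r ∈ c.T := mul_mem hvT hv'T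
  have hal : c.al r = r⁻¹ := by
    rw [hr, c.al_mul, hv', c.al_al, ← hv', mul_inv_rev, inv_eq_of_mul_eq_one_right hvv,
      inv_eq_of_mul_eq_one_right hv'v']
  have hvrv : v * r * v⁻¹ = r⁻¹ := by
    rw [hr, mul_inv_rev, inv_eq_of_mul_eq_one_right hvv, inv_eq_of_mul_eq_one_right hv'v', ← mul_assoc, hvv,
      one_mul]
  have hfixed : ∀ x ∈ c.T, c.al x = x → x * x = 1 → x ∈ hw.W := fun x hx hxal hxx => by
    by_cases hx1 : x = 1
    · exact hx1 ▸ one_mem _
    · exact c.fix_inv hx hxal hxx hx1 ▸ hw.z_mem_W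
  have hr2 : r * r ≠ 1 := fun e => hrW (hfixed r hrT (hal.trans (inv_eq_of_mul_eq_one_right e)) e)
  have hzr : c.z ∈ zpowers r := by
    obtain ⟨k, hk⟩ := IsPGroup.iff_orderOf.1 c.isPGroup_T ⟨r, hrT⟩
    rw [Subgroup.orderOf_mk] at hk
    obtain ⟨k, rfl⟩ : ∃ l, k = l + 1 := ⟨k - 1, by
      rcases k with _ | k
      · exfalso
        rw [pow_zero, orderOf_eq_one_iff] at hk
        exact hr2 (by rw [hk, mul_one])
      · omega⟩
    have h2 : r ^ 2 ^ k * r ^ 2 ^ k = 1 := by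
      rw [← pow_add, ← two_mul, ← pow_succ', ← hk, pow_orderOf_eq_one]
    have h1 : r ^ 2 ^ k ≠ 1 := by
      intro h
      have := orderOf_dvd_of_pow_eq_one h
      rw [hk, Nat.pow_dvd_pow_iff_le_right (by norm_num)] at this
      omega
    rw [← c.fix_inv (pow_mem hrT _) (by rw [c.al_pow, hal, inv_pow, inv_eq_of_mul_eq_one_right h2]) h2 h1]
    exact pow_mem (mem_zpowers r) _
  have hwr : w ∉ zpowers r := fun h => hw.ne_z (congrArg Subtype.val (Cfsg.Lib.Misc.ExtremalTransfer.eq_of_sq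
      (a := (⟨w, h⟩ : zpowers r)) (b := ⟨c.z, hzr⟩)
      (Subtype.ext (by show w ^ 2 = 1; rw [pow_two]; exact hw.sq))
      (Subtype.ext (by show c.z ^ 2 = 1; rw [pow_two]; exact c.zz))
      (fun e => hw.ne_one (congrArg Subtype.val e)) (fun e => c.z_ne (congrArg Subtype.val e))))
  have hwv : v * w * v⁻¹ = w ∨ v * w * v⁻¹ = w * c.z := hw.conj v hvT
  have hwv' : v' * (w * c.z) * v'⁻¹ = c.al (v * w * v⁻¹) := by
    rw [c.al_mul, c.al_mul, c.al_inv, hw.al]
  have hrw : Commute r w := by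
    have hwz : v' * c.z * v'⁻¹ = c.z := by rw [c.z_comm hv'T, mul_inv_cancel_right]
    have hwz' : v * c.z * v⁻¹ = c.z := by rw [c.z_comm hvT, mul_inv_cancel_right]
    have h1 : v' * w * v'⁻¹ = v * w * v⁻¹ := by
      have hsplit : v' * w * v'⁻¹ = (v' * (w * c.z) * v'⁻¹) * (v' * c.z * v'⁻¹)⁻¹ := by group
      rw [hsplit, hwv', hwz]
      rcases hwv with e | e <;> rw [e]
      · rw [hw.al, mul_inv_cancel_right]
      · rw [c.al_mul, hw.al, c.al_z, mul_inv_cancel_right]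
    refine mul_inv_eq_iff_eq_mul.1 (?_ : r * w * r⁻¹ = w)
    rw [hr, show v * v' * w * (v * v')⁻¹ = v * (v' * w * v'⁻¹) * v⁻¹ by group, h1]
    rcases hwv with e | e
    · rw [e, e]
    · rw [e, show v * (w * c.z) * v⁻¹ = (v * w * v⁻¹) * (v * c.z * v⁻¹) by group, e, hwz', mul_assoc, c.zz,
        mul_one]
  -- the shape of `T`
  have hgen' : ∀ g ∈ c.T, ∃ i : ℤ, (g = r ^ i ∨ g = r ^ i * w) ∨ (g = r ^ i * v ∨ g = r ^ i * v * w) := by
    obtain ⟨j, hj : r ^ j = c.z⟩ := hzr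
    intro g hg
    obtain ⟨i, a, ha, e | e⟩ := hgen g hg <;> rcases hw.mem_W.1 ha with h | h | h | h
    · exact ⟨i, Or.inl (Or.inl (by rw [e, h, mul_one]))⟩
    · exact ⟨i + j, Or.inl (Or.inl (by rw [e, h, zpow_add, hj]))⟩
    · exact ⟨i, Or.inl (Or.inr (by rw [e, h]))⟩
    · exact ⟨i + j, Or.inl (Or.inr (by rw [e, h, hw.comm, ← mul_assoc, zpow_add, hj]))⟩
    · exact ⟨i, Or.inr (Or.inl (by rw [e, h, mul_one]))⟩
    · exact ⟨i + j, Or.inr (Or.inl (by rw [e, h, mul_assoc, c.z_comm hvT, ← mul_assoc, zpow_add, hj]))⟩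
    · exact ⟨i, Or.inr (Or.inr (by rw [e, h]))⟩
    · exact ⟨i + j, Or.inr (Or.inr (by
        rw [e, h, hw.comm, ← mul_assoc, mul_assoc (r ^ i) v, c.z_comm hvT, ← mul_assoc, zpow_add, hj]))⟩
  have hwinv : w⁻¹ = w := hw.inv
  have hinvy : v * w * r * (v * w)⁻¹ = r⁻¹ := by
    rw [show v * w * r * (v * w)⁻¹ = v * (w * r * w⁻¹) * v⁻¹ by group, hrw.symm.eq, mul_inv_cancel_right, hvrv]
  have hgen'' : ∀ g ∈ c.T,
      ∃ i : ℤ, (g = r ^ i ∨ g = r ^ i * w) ∨ (g = r ^ i * (v * w) ∨ g = r ^ i * (v * w) * w) := by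
    intro g hg
    obtain ⟨i, h⟩ := hgen' g hg
    refine ⟨i, h.imp id fun h => h.symm.imp (fun e => by rw [e, mul_assoc]) fun e => ?_⟩
    rw [e, show r ^ i * (v * w) * w = r ^ i * v * (w * w) by group, hw.sq, mul_one]
  rcases hwv with hc | hc
  · -- the four group is central
    have hcvw : v * w = w * v := mul_inv_eq_iff_eq_mul.1 hc
    have hv'w : v' * w = w * v' := by
      have h1 := congrArg c.al hcvw
      rw [c.al_mul, c.al_mul, hw.al, ← hv', ← mul_assoc, mul_assoc w c.z, ← c.z_comm hv'T, ← mul_assoc] at h1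
      exact mul_right_cancel h1
    have hWc : ∀ g ∈ c.T, g * w = w * g := by
      intro g hg
      obtain ⟨i, (e | e) | (e | e)⟩ := hgen' g hg <;> rw [e]
      · exact (hrw.zpow_left i).eq
      · exact ((hrw.zpow_left i).mul_left (Commute.refl w)).eq
      · exact ((hrw.zpow_left i).mul_left hcvw).eq
      · exact (((hrw.zpow_left i).mul_left hcvw).mul_left (Commute.refl w)).eq
    have hR1 : c.IsRefl w r v := ⟨hrT, hvT, by rw [hvv]; exact one_mem _, hvrv, hzr, hr2, hwr, hrw, hgen'⟩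
    have hvw2 : v * w * (v * w) = 1 := by
      rw [show v * w * (v * w) = v * (w * v) * w by group, ← hcvw,
        show v * (v * w) * w = v * v * (w * w) by group, hvv, hw.sq, mul_one]
    have hR2 : c.IsRefl w r (v * w) :=
      ⟨hrT, mul_mem hvT hw.mem, by rw [hvw2]; exact one_mem _, hinvy, hzr, hr2, hwr, hrw, hgen''⟩
    have hzc : ∀ g ∈ c.T, g * c.z = c.z * g := fun g hg => c.z_comm hg
    have hwzc : ∀ g ∈ c.T, g * (w * c.z) = w * c.z * g := fun g hg => by
      rw [← mul_assoc, hWc g hg, mul_assoc, c.z_comm hg, ← mul_assoc]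
    have hwwz : ¬ c.Cj w (w * c.z) := by
      rintro ⟨g, hg, e⟩
      obtain ⟨n, -, hne, hnT, m, hm, hmT⟩ := c.burnside hw.mem hw.other.mem hWc hwzc hg e
      exact c.no_swap (hSq.fixes_z hnT) hne hm (by rw [hWc _ hmT, mul_inv_cancel_right])
    have hrv : r * v = v * v' * v⁻¹ := by rw [hr, inv_eq_of_mul_eq_one_right hvv]
    have hrvw : r * (v * w) = v * (v' * w) * v⁻¹ := by
      rw [hr, inv_eq_of_mul_eq_one_right hvv,
        show v * v' * (v * w) = v * v' * (w * v) by rw [hcvw]]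
      group
    -- a reflection is conjugate to its product with `z`
    have hpz : ∀ p, p ∈ c.T → p * r * p⁻¹ = r⁻¹ → c.Cj p (p * c.z) := by
      intro p hp hpr
      obtain ⟨j, hj : r ^ j = c.z⟩ := hzr
      rcases Int.even_or_odd' j with ⟨m, rfl | rfl⟩
      · refine ⟨r ^ m, zpow_mem (c.T_le_A hrT) m, ?_⟩
        have hmv : p * (r ^ m)⁻¹ = r ^ m * p := by
          have h1 : p * r ^ (-m) * p⁻¹ = r ^ m := by rw [← conj_zpow, hpr, inv_zpow, ← zpow_neg, neg_neg]
          rw [← zpow_neg, ← h1, inv_mul_cancel_right]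
        rw [mul_assoc, hmv, ← mul_assoc, ← zpow_add, ← two_mul, hj, c.z_comm hp]
      · exfalso
        obtain ⟨k, hk⟩ := IsPGroup.iff_orderOf.1 c.isPGroup_T ⟨r, hrT⟩
        rw [Subgroup.orderOf_mk] at hk
        have h2 : r ^ (2 * (2 * m + 1)) = 1 := by
          rw [two_mul (2 * m + 1), zpow_add, hj, c.zz]
        have h3 := orderOf_dvd_iff_zpow_eq_one.2 h2
        rw [hk] at h3
        rcases Nat.lt_or_ge k 2 with hk2 | hk2
        · apply hr2
          rw [← pow_two, ← orderOf_dvd_iff_pow_eq_one, hk]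
          exact (pow_dvd_pow 2 (by omega : k ≤ 1)).trans (by norm_num)
        · have h4 : (4 : ℤ) ∣ 2 * (2 * m + 1) :=
            (by exact_mod_cast (pow_dvd_pow 2 hk2) : (4 : ℤ) ∣ ((2 ^ k : ℕ) : ℤ)).trans h3
          omega
    have hconjcl : ∀ p q : H, p ∈ c.T → q = v * p * v⁻¹ → c.Cj q p := fun p q hp e =>
      c.cj_symm ⟨v, hvT.1, e.symm⟩
    -- every reflection is conjugate to `w` or `w * z`
    have hcls1 : ∀ i : ℤ, c.Cj (r ^ i * v) v ∨ c.Cj (r ^ i * v) v' := fun i =>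
      (hR1.cj_class i).imp id fun h => c.cj_trans h (hconjcl v' _ hv'T hrv)
    have hcls2 : ∀ i : ℤ, c.Cj (r ^ i * (v * w)) (v * w) ∨ c.Cj (r ^ i * (v * w)) (v' * w) := fun i =>
      (hR2.cj_class i).imp id fun h => c.cj_trans h (hconjcl (v' * w) _ (mul_mem hv'T hw.mem) hrvw)
    have hv'r : v' * r * v'⁻¹ = r⁻¹ := by
      rw [hr, mul_inv_rev, inv_eq_of_mul_eq_one_right hvv, inv_eq_of_mul_eq_one_right hv'v']
      rw [show v' * (v * v') * v' = v' * v * (v' * v') by group, hv'v', mul_one]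
    have hw1 : c.Cj w v ∨ c.Cj w v' := by
      rcases hR1.conj_into hw.sq hw.mem hw.mem.1 hw.sq hw.ne_one with h | ⟨i, -, h⟩
      · exact absurd h (hw.not_cj_z hu (Or.inl rfl))
      · exact (hcls1 i).imp (c.cj_trans h) (c.cj_trans h)
    have hw2 : c.Cj w (v * w) ∨ c.Cj w (v' * w) := by
      rcases hR2.conj_into hw.sq hw.mem hw.mem.1 hw.sq hw.ne_one with h | ⟨i, -, h⟩
      · exact absurd h (hw.not_cj_z hu (Or.inl rfl))
      · exact (hcls2 i).imp (c.cj_trans h) (c.cj_trans h)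
    have halv' : c.al v' = v := c.al_al v
    have hal1 : ∀ {p}, c.Cj w p → c.Cj (w * c.z) (c.al p) := fun h => hw.al ▸ c.cj_al h
    have hG1 : (c.Cj w v ∨ c.Cj (w * c.z) v) ∧ (c.Cj w v' ∨ c.Cj (w * c.z) v') := by
      rcases hw1 with h | h
      · exact ⟨Or.inl h, Or.inr (hal1 h)⟩
      · exact ⟨Or.inr (halv' ▸ hal1 h), Or.inl h⟩
    have hG2 : (c.Cj w (v * w) ∨ c.Cj (w * c.z) (v * w)) ∧ (c.Cj w (v' * w) ∨ c.Cj (w * c.z) (v' * w)) := by
      rcases hw2 with h | h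
      · refine ⟨Or.inl h, Or.inr ?_⟩
        have h1 := hal1 h
        rw [c.al_mul, hw.al, ← hv', ← mul_assoc] at h1
        refine c.cj_trans h1 (c.cj_symm (hpz _ (mul_mem hv'T hw.mem) ?_))
        rw [show v' * w * r * (v' * w)⁻¹ = v' * (w * r * w⁻¹) * v'⁻¹ by group, hrw.symm.eq, mul_inv_cancel_right,
          hv'r]
      · refine ⟨Or.inr ?_, Or.inl h⟩
        have h1 := hal1 h
        rw [c.al_mul, hw.al, halv', ← mul_assoc] at h1
        exact c.cj_trans h1 (c.cj_symm (hpz _ (mul_mem hvT hw.mem) hinvy))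
    -- `z` is isolated
    have hziso : ∀ g ∈ c.A, g * c.z * g⁻¹ ∈ c.T → g * c.z * g⁻¹ = c.z := by
      intro g hg hgT
      have hzx : c.Cj c.z (g * c.z * g⁻¹) := ⟨g, hg, rfl⟩
      have hbad : ∀ {p}, (c.Cj w p ∨ c.Cj (w * c.z) p) → c.Cj c.z p → False := by
        intro p hp hzp
        rcases hp with h | h
        exacts [hw.not_cj_z hu (Or.inl rfl) (c.cj_trans h (c.cj_symm hzp)),
          hw.not_cj_z hu (Or.inr rfl) (c.cj_trans h (c.cj_symm hzp))]
      set x := g * c.z * g⁻¹ with hx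
      have hxx : x * x = 1 := by
        rw [hx, show g * c.z * g⁻¹ * (g * c.z * g⁻¹) = g * (c.z * c.z) * g⁻¹ by group, c.zz, mul_one, mul_inv_cancel]
      have hx1 : x ≠ 1 := fun e => c.z_ne (conj_eq_one_iff.1 e)
      have hrz : ∀ i : ℤ, r ^ i * r ^ i = 1 → r ^ i = 1 ∨ r ^ i = c.z := by
        intro i hi
        by_cases h1 : r ^ i = 1
        · exact Or.inl h1
        · exact Or.inr (c.fix_inv (zpow_mem hrT i)
            (by rw [c.al_zpow, hal, inv_zpow, inv_eq_of_mul_eq_one_right hi]) hi h1)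
      obtain ⟨i, (e | e) | (e | e)⟩ := hgen' x hgT
      · exact ((hrz i (e ▸ hxx)).resolve_left fun h => hx1 (e.trans h)) ▸ e
      · exfalso
        have hi : r ^ i * r ^ i = 1 := by
          rw [e, show r ^ i * w * (r ^ i * w) = r ^ i * (w * r ^ i) * w by group,
            ← (hrw.zpow_left i).eq, show r ^ i * (r ^ i * w) * w = r ^ i * r ^ i * (w * w) by group, hw.sq,
            mul_one] at hxx
          exact hxx
        rcases hrz i hi with h | h <;> rw [h] at e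
        · exact hw.not_cj_z hu (Or.inl rfl) (c.cj_symm ((one_mul w ▸ e) ▸ hzx))
        · exact hw.not_cj_z hu (Or.inr rfl) (c.cj_symm ((e.trans hw.comm.symm) ▸ hzx))
      · exfalso
        rcases hcls1 i with h | h
        · exact hbad hG1.1 (c.cj_trans (e ▸ hzx) h)
        · exact hbad hG1.2 (c.cj_trans (e ▸ hzx) h)
      · exfalso
        rw [mul_assoc] at e
        rcases hcls2 i with h | h
        · exact hbad hG2.1 (c.cj_trans (e ▸ hzx) h)
        · exact hbad hG2.2 (c.cj_trans (e ▸ hzx) h)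
    have hzA := c.central_of_isolated c.z_mem c.zz c.z_ne hziso
    -- conclusion
    have hfin : ∀ p, p ∈ c.T → p * r * p⁻¹ = r⁻¹ → c.Cj w p → False := by
      intro p hp hpr h
      refine hwwz (c.cj_trans h (c.cj_trans (hpz p hp hpr) (c.cj_symm ?_)))
      obtain ⟨g, hg, e⟩ := h
      exact ⟨g, hg, by
        rw [show g * (w * c.z) * g⁻¹ = (g * w * g⁻¹) * (g * c.z * g⁻¹) by group, e, hzA g hg, mul_inv_cancel_right]⟩
    rcases hw1 with h | h
    exacts [hfin v hvT hvrv h, hfin v' hv'T hv'r h]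
  · -- the four group is not central: `⟨r, v * w⟩` has a unique involution
    have hy : v * w * (v * w) = c.z := by
      have h1 : v * w = w * c.z * v := mul_inv_eq_iff_eq_mul.1 hc
      nth_rewrite 1 [h1]
      rw [show w * c.z * v * (v * w) = w * c.z * (v * v) * w by group, hvv, mul_one, hw.comm, mul_assoc, hw.sq,
        mul_one]
    have hR : c.IsRefl w r (v * w) :=
      ⟨hrT, mul_mem hvT hw.mem, by rw [hy]; exact hzr, hinvy, hzr, hr2, hwr, hrw, hgen''⟩
    rcases hR.conj_into hw.sq hw.mem hw.mem.1 hw.sq hw.ne_one with h | ⟨i, hi, -⟩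
    · exact hw.not_cj_z hu (Or.inl rfl) h
    · refine c.z_ne ?_
      rw [show r ^ i * (v * w) * (r ^ i * (v * w)) = r ^ i * (v * w * r ^ i) * (v * w) by group, hR.mv,
        show r ^ i * (r ^ (-i) * (v * w)) * (v * w) = r ^ i * r ^ (-i) * (v * w * (v * w)) by group, hy, ← zpow_add,
        add_neg_cancel, zpow_zero, one_mul] at hi
      exact hi

end Cfsg.Lib.FourFixed
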