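/-
The case in which `u` does not centralize the four group: `T` is dihedral of order eight.
-/
import Cfsg.Agent.Components.FourFixed.Four

set_option autoImplicit false
set_option linter.style.haveILetI false
set_option linter.unusedSectionVars false

namespace Cfsg.Lib.FourFixed

open Subgroup
open scoped Pointwise

universe v

variable {H : Type v} [Group H] [Finite H] {c : Conf H} {w : H}

/-- In the small case `z` and `w` have no automizer element moving `z`. -/
theorem Conf.IsW.small_no_move (hw : c.IsW w) (hu : c.u * w * c.u⁻¹ = w * c.z)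
    (hT : ∀ g ∈ c.T, g ∈ hw.W ∨ c.u⁻¹ * g ∈ hw.W) {n : H} (hn : n ∈ c.A)
    (hnz : n * c.z * n⁻¹ ∈ hw.W) (hnw : n * w * n⁻¹ ∈ hw.W) (hne : n * c.z * n⁻¹ ≠ c.z) : False := by
  classical
  haveI := c.nA
  haveI : Fact (Nat.Prime 2) := ⟨Nat.prime_two⟩
  set k := n⁻¹ with hk
  have hnW : ∀ a ∈ hw.W, n * a * n⁻¹ ∈ hw.W := by
    intro a ha
    rcases hw.mem_W.1 ha with e | e | e | e <;> rw [e]
    · rw [mul_one, mul_inv_cancel]; exact one_mem _
    · exact hnz
    · exact hnw
    · rw [show n * (w * c.z) * n⁻¹ = (n * w * n⁻¹) * (n * c.z * n⁻¹) by group]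
      exact mul_mem hnw hnz
  have hnW' : ∀ a ∈ hw.W, n⁻¹ * a * n ∈ hw.W := by
    have h1 : hw.W.map (MulAut.conj n).toMonoidHom = hw.W :=
      eq_of_le_of_card_ge (by rintro _ ⟨a, ha, rfl⟩; exact hnW a ha)
        (card_map_of_injective (MulAut.conj n).injective).ge
    intro a ha
    obtain ⟨b, hb, hba⟩ : a ∈ hw.W.map (MulAut.conj n).toMonoidHom := h1.symm ▸ ha
    rwa [← show n * b * n⁻¹ = a from hba, show n⁻¹ * (n * b * n⁻¹) * n = b by group]
  set d := c.u * c.t with hd
  have hdd : d * d = c.z := by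
    rw [hd, show c.u * c.t * (c.u * c.t) = c.u * (c.t * c.u * c.t) by group]
    show c.u * c.al c.u = c.u * c.u
    rw [c.al_u]
  have hdW : ∀ a ∈ hw.W, d * a * d⁻¹ = a := by
    have hz : d * c.z * d⁻¹ = c.z := by
      rw [c.z_comm_S (mul_mem c.uS c.tS), mul_inv_cancel_right]
    have hwd : d * w * d⁻¹ = w := by
      rw [hd, mul_inv_rev, c.tinv, show c.u * c.t * w * (c.t * c.u⁻¹) = c.u * (c.t * w * c.t) * c.u⁻¹ by group]
      show c.u * c.al w * c.u⁻¹ = w
      rw [hw.al, show c.u * (w * c.z) * c.u⁻¹ = (c.u * w * c.u⁻¹) * (c.u * c.z * c.u⁻¹) by group, hu,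
        c.z_comm c.u_mem, mul_inv_cancel_right, mul_assoc, c.zz, mul_one]
    intro a ha
    rcases hw.mem_W.1 ha with e | e | e | e <;> rw [e]
    · rw [mul_one, mul_inv_cancel]
    · exact hz
    · exact hwd
    · rw [show d * (w * c.z) * d⁻¹ = (d * w * d⁻¹) * (d * c.z * d⁻¹) by group, hwd, hz]
  have hdW' : ∀ a ∈ hw.W, d * a = a * d := fun a ha => mul_inv_eq_iff_eq_mul.1 (hdW a ha)
  set f := n⁻¹ * (d * n * d⁻¹) with hf
  have hfA : f ∈ c.A := mul_mem (inv_mem hn) (c.nA.conj_mem n hn d)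
  have hfW : ∀ a ∈ hw.W, f * a = a * f := by
    intro a ha
    refine mul_inv_eq_iff_eq_mul.1 ?_
    have h1 : d⁻¹ * a * d = a := by rw [mul_assoc, ← hdW' a ha, inv_mul_cancel_left]
    rw [hf, show n⁻¹ * (d * n * d⁻¹) * a * (n⁻¹ * (d * n * d⁻¹))⁻¹ =
      n⁻¹ * (d * (n * (d⁻¹ * a * d) * n⁻¹) * d⁻¹) * n by group, h1, hdW _ (hnW a ha)]
    group
  set e := f * (d * f * d⁻¹) with he
  have heq : e = n⁻¹ * c.z * n * c.z := by
    rw [he, hf, show n⁻¹ * (d * n * d⁻¹) * (d * (n⁻¹ * (d * n * d⁻¹)) * d⁻¹) = n⁻¹ * (d * d) * n * (d * d)⁻¹ by group,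
      hdd, c.z_inv]
  have heW : e ∈ hw.W := by rw [heq]; exact mul_mem (hnW' _ hw.z_mem_W) hw.z_mem_W
  have he1 : e ≠ 1 := by
    intro h
    apply hne
    rw [heq] at h
    have h1 : n⁻¹ * c.z * n = c.z := by rw [eq_inv_of_mul_eq_one_left h, c.z_inv]
    calc n * c.z * n⁻¹ = n * (n⁻¹ * c.z * n) * n⁻¹ := by rw [h1]
      _ = c.z := by group
  -- the centralizer of the four group in `A`
  let C : Subgroup c.A := (centralizer (hw.W : Set H)).subgroupOf c.A
  let P : Subgroup C := (hw.W.subgroupOf c.A).subgroupOf C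
  have hP : IsPGroup 2 P := fun y => ⟨1, Subtype.ext (Subtype.ext (Subtype.ext (by
    show ((y : C) : c.A).1 ^ 2 ^ 1 = 1
    rw [pow_one, pow_two]
    exact hw.sq_W y.2)))⟩
  obtain ⟨Q, hQ⟩ := hP.exists_le_sylow
  have hQP : (Q : Subgroup C) ≤ P := by
    intro y hy
    by_contra hyP
    let R : Subgroup c.A := ((Q : Subgroup C)).map C.subtype
    have hRp : IsPGroup 2 R := Q.isPGroup'.map _
    obtain ⟨RS, hRS⟩ := hRp.exists_le_sylow
    obtain ⟨g, hg⟩ := MulAction.exists_smul_eq c.A RS c.TA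
    have hinT : ∀ b : C, b ∈ (Q : Subgroup C) → (g : H) * ((b : c.A) : H) * (g : H)⁻¹ ∈ c.T := fun b hb => by
      have : g * (b : c.A) * g⁻¹ ∈ (c.TA : Subgroup c.A) := by
        rw [← hg]
        exact Subgroup.smul_mem_pointwise_smul (b : c.A) (MulAut.conj g) _ (hRS ⟨b, hb, rfl⟩)
      exact c.mem_TA.1 this
    have hWQ : ∀ a, ∀ ha : a ∈ hw.W, (g : H) * a * (g : H)⁻¹ ∈ c.T := fun a ha =>
      hinT ⟨⟨a, (hw.W_le ha).1⟩, show a ∈ centralizer (hw.W : Set H) from mem_centralizer_iff.2 fun b hb =>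
        hw.W_comm hb ha⟩ (hQ (show a ∈ hw.W from ha))
    -- the image of the four group centralizes four-element sets in `T`
    set y' := (g : H) * ((y : c.A) : H) * (g : H)⁻¹ with hy'
    have hy'T : y' ∈ c.T := hinT y hy
    have hcomm : ∀ a ∈ hw.W, y' * ((g : H) * a * (g : H)⁻¹) = (g : H) * a * (g : H)⁻¹ * y' := by
      intro a ha
      have h1 : a * ((y : c.A) : H) = ((y : c.A) : H) * a := mem_centralizer_iff.1 y.2 a ha
      rw [hy', show (g : H) * ((y : c.A) : H) * (g : H)⁻¹ * ((g : H) * a * (g : H)⁻¹) =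
        (g : H) * (((y : c.A) : H) * a) * (g : H)⁻¹ by group, ← h1]
      group
    -- an element of `T` commuting with a four subgroup lies in it
    have hu2 : c.u * c.u = c.z := rfl
    set V : Subgroup H := hw.W.map (MulAut.conj (g : H)).toMonoidHom with hV
    have hVT : V ≤ c.T := by rintro _ ⟨a, ha, rfl⟩; exact hWQ a ha
    have hVcard : Nat.card V = 4 := by
      rw [hV, card_map_of_injective (MulAut.conj (g : H)).injective]
      show Nat.card (({1, c.z, w, w * c.z} : Set H) : Set H) = 4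
      rw [Nat.card_coe_set_eq, Set.ncard_insert_of_notMem, Set.ncard_insert_of_notMem, Set.ncard_pair]
      · exact fun h => c.z_ne (mul_left_cancel (h.symm.trans (mul_one w).symm))
      · simp only [Set.mem_insert_iff, Set.mem_singleton_iff, not_or]
        exact ⟨Ne.symm hw.ne_z, fun h => hw.ne_one (mul_right_cancel (h.symm.trans (one_mul _).symm))⟩
      · simp only [Set.mem_insert_iff, Set.mem_singleton_iff, not_or]
        exact ⟨Ne.symm c.z_ne, Ne.symm hw.ne_one, fun h => hw.other.ne_one h.symm⟩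
    have hy'V : y' ∉ V := by
      rintro ⟨a, ha, hae⟩
      apply hyP
      have : a = ((y : c.A) : H) := by
        have h1 : (g : H) * a * (g : H)⁻¹ = (g : H) * ((y : c.A) : H) * (g : H)⁻¹ := hae
        exact mul_left_cancel (mul_right_cancel h1)
      exact (this ▸ ha : ((y : c.A) : H) ∈ hw.W)
    let V' : Subgroup c.T := V.subgroupOf c.T
    have hTcard : Nat.card c.T ≤ 8 := by
      have hsub : (c.T : Set H) ⊆ (hw.W : Set H) ∪ (fun a => c.u * a) '' (hw.W : Set H) := fun a ha => by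
        rcases hT a ha with h | h
        · exact Or.inl h
        · exact Or.inr ⟨_, h, mul_inv_cancel_left _ _⟩
      have h1 := (Set.ncard_le_ncard hsub).trans (Set.ncard_union_le _ _)
      rw [Set.ncard_image_of_injective _ (mul_right_injective c.u)] at h1
      have hWcard : (hw.W : Set H).ncard = 4 := by
        rw [← Nat.card_coe_set_eq]
        exact (card_map_of_injective (MulAut.conj (g : H)).injective).symm.trans hVcard
      rw [hWcard] at h1
      rwa [← Nat.card_coe_set_eq] at h1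
    -- then `T` is abelian
    let K : Subgroup c.T := V' ⊔ zpowers ⟨y', hy'T⟩
    have hKtop : K = ⊤ := by
      apply eq_top_of_le_card
      have h1 : Nat.card V' = 4 := (Nat.card_congr (subgroupOfEquivOfLe hVT).toEquiv).trans hVcard
      have h2 : V' < K := lt_of_le_of_ne le_sup_left fun e' => hy'V (by
        have : (⟨y', hy'T⟩ : c.T) ∈ V' := e' ▸ mem_sup_right (mem_zpowers _)
        exact this)
      have h3 := card_dvd_of_le h2.le
      have h4 : Nat.card V' < Nat.card K := by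
        by_contra h
        exact h2.ne (eq_of_le_of_card_ge h2.le (not_lt.1 h))
      rw [h1] at h3 h4
      obtain ⟨l, hl⟩ := h3
      omega
    have hcentral : ∀ v ∈ V', ∀ b : c.T, b * v = v * b := by
      intro v hv b
      have hle : K ≤ centralizer ({v} : Set c.T) := by
        refine sup_le (fun v' hv' => mem_centralizer_singleton_iff.2 (Subtype.ext ?_))
          (zpowers_le.2 (mem_centralizer_singleton_iff.2 (Subtype.ext ?_)))
        · obtain ⟨a, ha, hae⟩ := hv
          obtain ⟨a', ha', hae'⟩ := hv'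
          show (v' : H) * v = v * v'
          rw [← show MulAut.conj (g : H) a = v from hae, ← show MulAut.conj (g : H) a' = v' from hae', ← map_mul,
            ← map_mul]
          congr 1
          exact hw.W_comm ha' ha
        · obtain ⟨a, ha, hae⟩ := hv
          show y' * (v : H) = v * y'
          rw [← show (g : H) * a * (g : H)⁻¹ = v from hae]
          exact hcomm a ha
      rw [hKtop] at hle
      exact mem_centralizer_singleton_iff.1 (hle (mem_top b))
    have hVz : ∀ v : H, v ∈ V → v = 1 ∨ v = c.z := by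
      intro v hv
      have hcu : c.u * v = v * c.u :=
        congrArg Subtype.val (hcentral ⟨v, hVT hv⟩ hv ⟨c.u, c.u_mem⟩)
      have hcw : w * v = v * w := congrArg Subtype.val (hcentral ⟨v, hVT hv⟩ hv ⟨w, hw.mem⟩)
      rcases hT v (hVT hv) with h | h
      · rcases hw.mem_W.1 h with rfl | rfl | rfl | rfl
        · exact Or.inl rfl
        · exact Or.inr rfl
        · exfalso
          rw [hcu, mul_inv_cancel_right] at hu
          exact c.z_ne (mul_left_cancel (hu.symm.trans (mul_one _).symm))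
        · exfalso
          rw [← mul_assoc] at hcu
          have h2 : c.u * w = w * c.u := by
            rw [mul_assoc w c.z c.u, ← c.z_comm c.u_mem, ← mul_assoc] at hcu
            exact mul_right_cancel hcu
          rw [h2, mul_inv_cancel_right] at hu
          exact c.z_ne (mul_left_cancel (hu.symm.trans (mul_one _).symm))
      · exfalso
        set a := c.u⁻¹ * v with ha'
        have hva : v = c.u * a := by rw [ha', mul_inv_cancel_left]
        have haw : a * w = w * a := by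
          rcases hw.mem_W.1 h with e' | e' | e' | e' <;> rw [e']
          · rw [one_mul, mul_one]
          · exact hw.comm.symm
          · rw [mul_assoc, ← hw.comm]
        have h1 : w * (c.u * a) = c.u * a * w := hva ▸ hcw
        have h2 : c.u * w = w * c.u := mul_right_cancel (b := a) (by
          calc c.u * w * a = c.u * (w * a) := mul_assoc _ _ _
            _ = c.u * (a * w) := by rw [haw]
            _ = c.u * a * w := (mul_assoc _ _ _).symm
            _ = w * (c.u * a) := h1.symm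
            _ = w * c.u * a := (mul_assoc _ _ _).symm)
        rw [h2, mul_inv_cancel_right] at hu
        exact c.z_ne (mul_left_cancel (hu.symm.trans (mul_one _).symm))
    have h4 : (V : Set H).ncard ≤ 2 := by
      refine (Set.ncard_le_ncard (t := {1, c.z}) fun v hv => hVz v hv).trans ?_
      exact (Set.ncard_insert_le _ _).trans (by rw [Set.ncard_singleton])
    rw [← Nat.card_coe_set_eq] at h4
    rw [show Nat.card (V : Set H) = Nat.card V from rfl, hVcard] at h4
    omega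
  have hQeq : (Q : Subgroup C) = P := le_antisymm hQP hQ
  have hNC : normalizer ((Q : Subgroup C) : Set C) ≤ centralizer ((Q : Subgroup C) : Set C) := by
    intro b _
    refine mem_centralizer_iff.2 fun a ha => ?_
    have ha' : ((a : c.A) : H) ∈ hw.W := hQP ha
    exact Subtype.ext (Subtype.ext (mem_centralizer_iff.1 b.2 _ ha'))
  obtain ⟨K, hKdef⟩ : ∃ K, K = (MonoidHom.transferSylow Q hNC).ker := ⟨_, rfl⟩
  have hK := MonoidHom.ker_transferSylow_isComplement' Q hNC
  rw [← hKdef] at hK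
  haveI : K.Normal := hKdef ▸ inferInstance
  obtain ⟨hcop, j, hj⟩ := Cfsg.Lib.Transfer.complement_props hK
  let fC : C := ⟨⟨f, hfA⟩, show f ∈ centralizer (hw.W : Set H) from
    mem_centralizer_iff.2 fun a ha => (hfW a ha).symm⟩
  have hsplit : ∀ y : C, ∃ k ∈ K, ∃ a ∈ (Q : Subgroup C), k * a = y := fun y => by
    obtain ⟨⟨k, a⟩, hka⟩ := hK.2 y
    exact ⟨k, k.2, a, a.2, hka⟩
  obtain ⟨k₀, hk₀, a₀, ha₀, hka⟩ := hsplit fC
  have ha₀W : ((a₀ : c.A) : H) ∈ hw.W := hQP ha₀
  have hdk : d * ((k₀ : c.A) : H) * d⁻¹ ∈ c.A := c.nA.conj_mem _ (k₀ : c.A).2 d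
  have hdkC : d * ((k₀ : c.A) : H) * d⁻¹ ∈ centralizer (hw.W : Set H) := by
    refine mem_centralizer_iff.2 fun a ha => ?_
    have h1 : d⁻¹ * a * d = a := by rw [mul_assoc, ← hdW' a ha, inv_mul_cancel_left]
    calc a * (d * ((k₀ : c.A) : H) * d⁻¹) = d * ((d⁻¹ * a * d) * ((k₀ : c.A) : H)) * d⁻¹ := by group
      _ = d * (((k₀ : c.A) : H) * a) * d⁻¹ := by
          rw [h1, show a * ((k₀ : c.A) : H) = ((k₀ : c.A) : H) * a from mem_centralizer_iff.1 k₀.2 a ha]
      _ = d * ((k₀ : c.A) : H) * (a * d⁻¹) := by group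
      _ = d * ((k₀ : c.A) : H) * (d⁻¹ * (d * a * d⁻¹)) := by group
      _ = d * ((k₀ : c.A) : H) * d⁻¹ * a := by rw [hdW a ha]; group
  let k₁ : C := ⟨⟨_, hdk⟩, hdkC⟩
  have hk₁ : k₁ ∈ K := by
    rw [Cfsg.Lib.Transfer.mem_iff_coprime_orderOf hcop hj]
    have e1 : orderOf k₁ = orderOf k₀ := by
      rw [← Subgroup.orderOf_coe k₁, ← Subgroup.orderOf_coe (k₁ : c.A), ← Subgroup.orderOf_coe k₀,
        ← Subgroup.orderOf_coe (k₀ : c.A)]
      exact MulEquiv.orderOf_eq (MulAut.conj d) _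
    rw [e1]
    exact (Cfsg.Lib.Transfer.mem_iff_coprime_orderOf hcop hj k₀).1 hk₀
  let eC : C := ⟨⟨e, (hw.W_le heW).1⟩, show e ∈ centralizer (hw.W : Set H) from mem_centralizer_iff.2 fun a ha => by
    rw [he]
    have hdf : a * (d * f * d⁻¹) = (d * f * d⁻¹) * a := by
      have h1 : d⁻¹ * a * d = a := by rw [mul_assoc, ← hdW' a ha, inv_mul_cancel_left]
      calc a * (d * f * d⁻¹) = d * ((d⁻¹ * a * d) * f) * d⁻¹ := by group
        _ = d * (f * a) * d⁻¹ := by rw [h1, hfW a ha]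
        _ = d * f * (d⁻¹ * (d * a * d⁻¹)) := by group
        _ = (d * f * d⁻¹) * a := by rw [hdW a ha]; group
    rw [← mul_assoc, ← hfW a ha, mul_assoc, hdf, ← mul_assoc]⟩
  have heC : eC = k₀ * k₁ := by
    apply Subtype.ext
    apply Subtype.ext
    show e = ((k₀ : c.A) : H) * (d * ((k₀ : c.A) : H) * d⁻¹)
    have hfka : f = ((k₀ : c.A) : H) * ((a₀ : c.A) : H) := (congrArg (fun y : C => ((y : c.A) : H)) hka).symm
    have hcomm : ((a₀ : c.A) : H) * (d * ((k₀ : c.A) : H) * d⁻¹) = (d * ((k₀ : c.A) : H) * d⁻¹) * ((a₀ : c.A) : H) :=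
      mem_centralizer_iff.1 hdkC _ ha₀W
    rw [he, hfka, show d * (((k₀ : c.A) : H) * ((a₀ : c.A) : H)) * d⁻¹ =
      (d * ((k₀ : c.A) : H) * d⁻¹) * (d * ((a₀ : c.A) : H) * d⁻¹) by group, hdW _ ha₀W,
      mul_assoc, ← mul_assoc ((a₀ : c.A) : H), hcomm, mul_assoc (d * ((k₀ : c.A) : H) * d⁻¹), hw.sq_W ha₀W, mul_one]
  have heK : eC ∈ K := heC ▸ mul_mem hk₀ hk₁
  have hord := (Cfsg.Lib.Transfer.mem_iff_coprime_orderOf hcop hj eC).1 heK
  have hord2 : orderOf eC = 2 := orderOf_eq_prime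
    (Subtype.ext (Subtype.ext (by show e ^ 2 = 1; rw [pow_two]; exact hw.sq_W heW)))
    fun h => he1 (congrArg (fun y : C => ((y : c.A) : H)) h)
  rw [hord2] at hord
  exact absurd hord (by decide)

/-- The case `u ∉ C(W)` does not occur. -/
theorem Conf.IsW.small_false (hw : c.IsW w) (hu : c.u * w ≠ w * c.u) : False := by
  classical
  obtain ⟨hT, hu'⟩ := hw.small hu
  have hu2 : c.u * c.u = c.z := rfl
  set v := c.u * w with hv
  have hvv : v * v = 1 := by
    rw [hv, show c.u * w * (c.u * w) = (c.u * w * c.u⁻¹) * (c.u * c.u) * w by group, hu', hu2,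
      show w * c.z * c.z * w = w * (c.z * c.z) * w by group, c.zz, mul_one, hw.sq]
  have hvT : v ∈ c.T := mul_mem c.u_mem hw.mem
  have huW : c.u ∉ hw.W := by
    intro h
    have := hw.sq_W h
    exact c.u2 this
  have hvW : v ∉ hw.W := fun h => huW (by
    have := mul_mem h (inv_mem hw.self_mem_W)
    rwa [hv, mul_inv_cancel_right] at this)
  have hvconj : c.u * v * c.u⁻¹ = v * c.z := by
    rw [hv, show c.u * (c.u * w) * c.u⁻¹ = c.u * (c.u * w * c.u⁻¹) by group, hu', mul_assoc]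
  have hv' : c.IsW v := by
    refine ⟨hvT, hvv, fun h => hvW (h ▸ one_mem _), fun h => hvW (h ▸ hw.z_mem_W), ?_, fun g hg => ?_⟩
    · rw [hv, c.al_mul, c.al_u, hw.al, mul_assoc]
    · have hWv : ∀ a ∈ hw.W, a * v * a⁻¹ = v ∨ a * v * a⁻¹ = v * c.z := by
        have hwv : w * v * w⁻¹ = v * c.z := by
          rw [hv, show w * (c.u * w) * w⁻¹ = w * c.u by group]
          calc w * c.u = (w * c.z) * c.u * c.z := by
                rw [mul_assoc w c.z c.u, ← c.z_comm c.u_mem, mul_assoc, mul_assoc, c.zz, mul_one]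
            _ = c.u * w * c.u⁻¹ * c.u * c.z := by rw [hu']
            _ = c.u * w * c.z := by group
        intro a ha
        rcases hw.mem_W.1 ha with e | e | e | e <;> rw [e]
        · left; rw [one_mul, inv_one, mul_one]
        · left; rw [← c.z_comm hvT, mul_inv_cancel_right]
        · exact Or.inr hwv
        · right
          rw [show w * c.z * v * (w * c.z)⁻¹ = w * (c.z * v * c.z⁻¹) * w⁻¹ by group, ← c.z_comm hvT,
            mul_inv_cancel_right, hwv]
      rcases hT g hg with h | h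
      · exact hWv g h
      · have hsplit : g * v * g⁻¹ = c.u * ((c.u⁻¹ * g) * v * (c.u⁻¹ * g)⁻¹) * c.u⁻¹ := by group
        rcases hWv _ h with e | e <;> rw [hsplit, e]
        · exact Or.inr hvconj
        · left
          rw [show c.u * (v * c.z) * c.u⁻¹ = (c.u * v * c.u⁻¹) * (c.u * c.z * c.u⁻¹) by group, hvconj,
            c.z_comm c.u_mem, mul_inv_cancel_right, mul_assoc, c.zz, mul_one]
  have hT' : ∀ g ∈ c.T, g ∈ hv'.W ∨ c.u⁻¹ * g ∈ hv'.W :=
    (hv'.small fun h => by
      rw [h, mul_inv_cancel_right] at hvconj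
      exact c.z_ne (mul_left_cancel (hvconj.symm.trans (mul_one _).symm))).1
  -- involutions of `T`
  have hinvT : ∀ g ∈ c.T, g * g = 1 → g ≠ 1 → g ≠ c.z →
      (g = w ∨ g = w * c.z) ∨ (g = v ∨ g = v * c.z) := by
    intro g hg hgg hg1 hgz
    rcases hT g hg with h | h
    · rcases hw.mem_W.1 h with e | e | e | e
      exacts [absurd e hg1, absurd e hgz, Or.inl (Or.inl e), Or.inl (Or.inr e)]
    · set a := c.u⁻¹ * g with ha
      have hga : g = c.u * a := by rw [ha, mul_inv_cancel_left]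
      rcases hw.mem_W.1 h with e | e | e | e
      · exfalso
        rw [hga, e, mul_one] at hgg
        exact c.u2 hgg
      · exfalso
        rw [hga, e, show c.u * c.z * (c.u * c.z) = c.u * (c.z * c.u) * c.z by group, ← c.z_comm c.u_mem,
          show c.u * (c.u * c.z) * c.z = c.u * c.u * (c.z * c.z) by group, c.zz, mul_one] at hgg
        exact c.u2 hgg
      · exact Or.inr (Or.inl (by rw [hga, e, hv]))
      · exact Or.inr (Or.inr (by rw [hga, e, hv, mul_assoc]))
  -- all involutions are conjugate to `z`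
  let M : Subgroup H := zpowers c.u
  have hMT : M ≤ c.T := zpowers_le.2 c.u_mem
  have hMinv : ∀ g ∈ M, g * g = 1 → g = 1 ∨ g = c.z := by
    rintro _ ⟨i, rfl⟩ hii
    show c.u ^ i = 1 ∨ c.u ^ i = c.z
    rcases Int.even_or_odd' i with ⟨j, rfl | rfl⟩
    · rw [zpow_mul, show c.u ^ (2 : ℤ) = c.z by rw [zpow_two]; rfl]
      exact c.zpowers_z ⟨j, rfl⟩
    · exfalso
      have hii' : c.u ^ ((2 * j + 1) + (2 * j + 1)) = 1 := by rw [zpow_add]; exact hii
      rw [show (2 * j + 1) + (2 * j + 1) = 2 + (2 + 2) * j by ring, zpow_add, zpow_mul,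
        show c.u ^ ((2 : ℤ) + 2) = 1 by rw [zpow_add, zpow_two]; exact c.u4, one_zpow, mul_one, zpow_two] at hii'
      exact c.u2 hii'
  have huM : ∀ i, c.u ^ (i : ℕ) ∈ M := fun i => pow_mem (mem_zpowers _) i
  have hzM : c.z ∈ M := mul_mem (mem_zpowers _) (mem_zpowers _)
  have hMidx : M.relIndex c.T = 2 := by
    rw [relIndex, index_eq_two_iff]
    refine ⟨⟨w, hw.mem⟩, fun b => ?_⟩
    rw [mem_subgroupOf, mem_subgroupOf]
    show Xor ((b : H) * w ∈ M) ((b : H) ∈ M)
    have hwM : w ∉ M := fun h => by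
      rcases hMinv w h hw.sq with e | e
      exacts [hw.ne_one e, hw.ne_z e]
    have hWM : ∀ a ∈ hw.W, (a ∈ M ∧ a * w ∉ M) ∨ (a * w ∈ M ∧ a ∉ M) := by
      intro a ha
      have hcase : ∀ m ∈ M, m * w ∉ M := fun m hm h => hwM (by
        have := mul_mem (inv_mem hm) h
        rwa [inv_mul_cancel_left] at this)
      rcases hw.mem_W.1 ha with e | e | e | e <;> rw [e]
      · exact Or.inl ⟨one_mem _, hcase 1 (one_mem _)⟩
      · exact Or.inl ⟨hzM, hcase _ hzM⟩
      · exact Or.inr ⟨by rw [hw.sq]; exact one_mem _, hwM⟩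
      · refine Or.inr ⟨?_, fun h => hwM ?_⟩
        · rw [hw.comm, mul_assoc, hw.sq, mul_one]; exact hzM
        · have := mul_mem h hzM
          rwa [mul_assoc, c.zz, mul_one] at this
    rcases hT b b.2 with h | h
    · rcases hWM _ h with ⟨h1, h2⟩ | ⟨h1, h2⟩
      exacts [Or.inr ⟨h1, h2⟩, Or.inl ⟨h1, h2⟩]
    · set a := c.u⁻¹ * (b : H) with ha
      have hb : (b : H) = c.u * a := by rw [ha, mul_inv_cancel_left]
      rcases hWM _ h with ⟨h1, h2⟩ | ⟨h1, h2⟩
      · refine Or.inr ⟨?_, fun h' => h2 ?_⟩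
        · rw [hb]; exact mul_mem (mem_zpowers _) h1
        · have := mul_mem (inv_mem (mem_zpowers c.u)) h'
          rwa [hb, mul_assoc c.u, inv_mul_cancel_left] at this
      · refine Or.inl ⟨?_, fun h' => h2 ?_⟩
        · rw [hb, mul_assoc]; exact mul_mem (mem_zpowers _) h1
        · have := mul_mem (inv_mem (mem_zpowers c.u)) h'
          rwa [hb, inv_mul_cancel_left] at this
  have hzc : ∀ r ∈ c.T, r * c.z = c.z * r := fun r hr => c.z_comm hr
  have hconj : ∀ g ∈ c.T, g * g = 1 → g ≠ 1 → g ≠ c.z →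
      ∃ f ∈ c.A, f * g * f⁻¹ = c.z ∧ f * c.z * f⁻¹ ≠ c.z ∧ f * c.z * f⁻¹ ∈ c.T := by
    intro g hg hgg hg1 hgz
    obtain ⟨f₀, hf₀, hf₀M⟩ := c.conj_into hMT hMidx hg.1 hgg hg1
    have h1 : f₀ * g * f₀⁻¹ = c.z := by
      refine (hMinv _ hf₀M ?_).resolve_left fun e => hg1 (conj_eq_one_iff.1 e)
      rw [show f₀ * g * f₀⁻¹ * (f₀ * g * f₀⁻¹) = f₀ * (g * g) * f₀⁻¹ by group, hgg, mul_one, mul_inv_cancel]
    obtain ⟨f, hf, hfg, hfT⟩ := c.transport hf₀ h1 c.z_mem hzc
    refine ⟨f, hf, hfg, fun e => hgz ?_, hfT c.z c.z_mem (c.z_comm hg).symm⟩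
    exact (mul_left_cancel (mul_right_cancel (e.trans hfg.symm))).symm
  have hsq : ∀ f : H, f * c.z * f⁻¹ * (f * c.z * f⁻¹) = 1 := fun f => by
    rw [show f * c.z * f⁻¹ * (f * c.z * f⁻¹) = f * (c.z * c.z) * f⁻¹ by group, c.zz, mul_one, mul_inv_cancel]
  have hne1 : ∀ f : H, f * c.z * f⁻¹ ≠ 1 := fun f e => c.z_ne (conj_eq_one_iff.1 e)
  obtain ⟨f, hf, hfw, hfne, hfT⟩ := hconj w hw.mem hw.sq hw.ne_one hw.ne_z
  rcases hinvT _ hfT (hsq f) (hne1 f) hfne with hW | hV
  · refine hw.small_no_move hu' hT hf ?_ (hfw ▸ hw.z_mem_W) hfne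
    rcases hW with e | e <;> rw [e]
    exacts [hw.self_mem_W, mul_mem hw.self_mem_W hw.z_mem_W]
  obtain ⟨h, hh, hhv, hhne, hhT⟩ := hconj v hvT hvv hv'.ne_one hv'.ne_z
  rcases hinvT _ hhT (hsq h) (hne1 h) hhne with hW' | hV'
  · -- compose the two elements
    have hhW : h * c.z * h⁻¹ ∈ hw.W := by
      rcases hW' with e | e <;> rw [e]
      exacts [hw.self_mem_W, mul_mem hw.self_mem_W hw.z_mem_W]
    obtain ⟨k, hkA, hkw, hkz⟩ : ∃ k ∈ c.A, k * w * k⁻¹ = c.z ∧ k * c.z * k⁻¹ = v * c.z := by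
      rcases hV with e | e
      · refine ⟨c.u * f, mul_mem c.uA hf, ?_, ?_⟩
        · rw [show c.u * f * w * (c.u * f)⁻¹ = c.u * (f * w * f⁻¹) * c.u⁻¹ by group, hfw, c.z_comm c.u_mem,
            mul_inv_cancel_right]
        · rw [show c.u * f * c.z * (c.u * f)⁻¹ = c.u * (f * c.z * f⁻¹) * c.u⁻¹ by group, e, hvconj]
      · exact ⟨f, hf, hfw, e⟩
    refine hw.small_no_move hu' hT (mul_mem hh hkA) ?_ ?_ ?_
    · rw [show h * k * c.z * (h * k)⁻¹ = h * (k * c.z * k⁻¹) * h⁻¹ by group, hkz,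
        show h * (v * c.z) * h⁻¹ = (h * v * h⁻¹) * (h * c.z * h⁻¹) by group, hhv]
      exact mul_mem hw.z_mem_W hhW
    · rw [show h * k * w * (h * k)⁻¹ = h * (k * w * k⁻¹) * h⁻¹ by group, hkw]
      exact hhW
    · rw [show h * k * c.z * (h * k)⁻¹ = h * (k * c.z * k⁻¹) * h⁻¹ by group, hkz,
        show h * (v * c.z) * h⁻¹ = (h * v * h⁻¹) * (h * c.z * h⁻¹) by group, hhv]
      exact fun e => hne1 h (mul_left_cancel (e.trans (mul_one _).symm))
  · refine hv'.small_no_move hvconj hT' hh ?_ (hhv ▸ hv'.z_mem_W) hhne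
    rcases hV' with e | e <;> rw [e]
    exacts [hv'.self_mem_W, mul_mem hv'.self_mem_W hv'.z_mem_W]

end Cfsg.Lib.FourFixed
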