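/-
`u` centralizes the four group and all involutions of `T` lie in it: contradiction.
-/
import Cfsg.Agent.Components.FourFixed.Outside
import Cfsg.Agent.Components.FourFixed.Small

set_option autoImplicit false
set_option linter.style.haveILetI false
set_option linter.unusedSectionVars false

namespace Cfsg.Lib.FourFixed

open Subgroup

universe v

variable {H : Type v} [Group H] [Finite H] {c : Conf H} {w : H}

theorem Conf.odd_normal_bot (c : Conf H) {N : Subgroup c.A} (hN : N.Normal) (hodd : Odd (Nat.card N)) : N = ⊥ := by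
  haveI := c.nA
  haveI : (Cfsg.pPrimeCore 2 c.A).Characteristic := Cfsg.Lib.Components.pPrimeCore_characteristic
  have h1 := c.core _ (inferInstance : ((Cfsg.pPrimeCore 2 c.A).map c.A.subtype).Normal) (map_subtype_le _) (by
    rw [card_map_of_injective c.A.subtype_injective]
    exact Nat.coprime_two_right.1 (Cfsg.Lib.Components.coprime_card_pPrimeCore 2))
  rw [← le_bot_iff, ← (map_eq_bot_iff_of_injective _ c.A.subtype_injective).1 h1]
  exact Cfsg.Lib.Components.le_pPrimeCore (Nat.coprime_two_right.2 hodd)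

/-- A normal subgroup with odd index over a central subgroup of order two equals it. -/
theorem Conf.le_zpowers_z (c : Conf H) (hzA : ∀ g ∈ c.A, g * c.z = c.z * g) {N : Subgroup c.A} (hN : N.Normal)
    (hzN : zpowers (⟨c.z, c.z_mem.1⟩ : c.A) ≤ N)
    (hodd : Odd ((zpowers (⟨c.z, c.z_mem.1⟩ : c.A)).relIndex N)) : N ≤ zpowers (⟨c.z, c.z_mem.1⟩ : c.A) := by
  classical
  set z' : c.A := ⟨c.z, c.z_mem.1⟩ with hz'
  let Z : Subgroup N := (zpowers z').subgroupOf N
  haveI : IsCyclic Z := isCyclic_of_injective (subgroupOfEquivOfLe hzN).toMonoidHom (subgroupOfEquivOfLe hzN).injective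
  letI : CommGroup Z := IsCyclic.commGroup
  have hcent : ∀ x : N, x ∈ Z → ∀ g : N, g * x = x * g := by
    intro x hx g
    have hgz : (g : c.A) * z' = z' * g := Subtype.ext (hzA _ (g : c.A).2)
    obtain ⟨i, hi : z' ^ i = (x : c.A)⟩ := (hx : (x : c.A) ∈ zpowers z')
    refine Subtype.ext ?_
    show (g : c.A) * (x : c.A) = (x : c.A) * g
    rw [← hi]
    exact ((show Commute (g : c.A) z' from hgz).zpow_right i).eq
  let φ : N →* Z := MonoidHom.transfer (MonoidHom.id Z)
  have hφ : ∀ g : N, ((φ g : Z) : N) = g ^ Z.index := fun g => by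
    rw [show φ g = _ from MonoidHom.transfer_eq_pow (MonoidHom.id Z) g fun k g₀ hk => by
      have h := hcent _ hk g₀
      rw [show g₀ * (g₀⁻¹ * g ^ k * g₀) = g ^ k * g₀ by group] at h
      exact mul_right_cancel h.symm]
    rfl
  let K : Subgroup c.A := φ.ker.map N.subtype
  haveI : K.Normal := ⟨by
    rintro _ ⟨k, hk, rfl⟩ g
    refine ⟨⟨g * (k : c.A) * g⁻¹, hN.conj_mem _ k.2 g⟩, ?_, rfl⟩
    rw [SetLike.mem_coe, MonoidHom.mem_ker] at hk ⊢
    have hk' : (k : N) ^ Z.index = 1 := by rw [← hφ, hk]; rfl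
    refine Subtype.ext (Subtype.ext ?_)
    rw [hφ]
    push_cast
    rw [conj_pow, ← Subgroup.coe_pow, hk']
    simp⟩
  have hKodd : Odd (Nat.card K) := by
    rw [card_map_of_injective N.subtype_injective]
    refine Nat.odd_iff.2 (Nat.two_dvd_ne_zero.1 fun h => ?_)
    haveI : Fact (Nat.Prime 2) := ⟨Nat.prime_two⟩
    obtain ⟨k, hk⟩ := exists_prime_orderOf_dvd_card' 2 h
    have hk' : (k : N) ^ Z.index = 1 := by rw [← hφ, MonoidHom.mem_ker.1 k.2]; rfl
    have h1 := orderOf_dvd_of_pow_eq_one hk'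
    rw [Subgroup.orderOf_coe, hk] at h1
    exact Nat.not_even_iff_odd.2 (show Odd Z.index from hodd) (even_iff_two_dvd.2 h1)
  have hK := c.odd_normal_bot (N := K) inferInstance hKodd
  rw [map_eq_bot_iff_of_injective _ N.subtype_injective] at hK
  intro g hg
  have h1 : ((⟨g, hg⟩ : N) * ((φ ⟨g, hg⟩ : Z) : N)⁻¹) ∈ φ.ker := by
    rw [MonoidHom.mem_ker, map_mul, map_inv, mul_inv_eq_one]
    apply Subtype.ext
    rw [hφ ((φ ⟨g, hg⟩ : Z) : N)]
    set x := φ ⟨g, hg⟩
    have hx2 : ((x : Z) : N) ^ 2 = 1 := by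
      have hmem : ((x : N) : c.A) ∈ zpowers z' := x.2
      obtain ⟨i, hi : z' ^ i = _⟩ := hmem
      refine Subtype.ext ?_
      push_cast
      rw [← hi, ← zpow_natCast, ← zpow_mul, mul_comm, zpow_mul, zpow_natCast, pow_two,
        show z' * z' = 1 from Subtype.ext c.zz, one_zpow]
    have ho : Odd Z.index := hodd
    obtain ⟨l, hl⟩ := ho
    rw [hl, pow_succ, pow_mul, hx2, one_pow, one_mul]
  rw [hK, mem_bot, mul_inv_eq_one] at h1
  have h2 : ((⟨g, hg⟩ : N) : c.A) ∈ zpowers z' := by
    rw [h1]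
    exact (φ ⟨g, hg⟩).2
  exact h2

theorem Conf.IsW.inside_false (hw : c.IsW w) (hu : c.u * w = w * c.u)
    (hinv : ∀ g ∈ c.T, g * g = 1 → g ∈ hw.W) : False := by
  classical
  haveI : Fact (Nat.Prime 2) := ⟨Nat.prime_two⟩
  haveI := c.nA
  have hSq := hw.sq_cond hu
  have huW : c.u ∉ hw.W := fun h => c.u2 (hw.sq_W h)
  let W' : Subgroup c.T := hw.W.subgroupOf c.T
  haveI : W'.Normal := ⟨fun a ha g => hw.conj_W g.2 ha⟩
  by_cases hWc : ∀ g ∈ c.T, g * w = w * g
  · -- central case: the derived group is cyclic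
    have hWcent : ∀ y ∈ hw.W, ∀ g ∈ c.T, g * y = y * g := by
      intro y hy g hg
      rcases hw.mem_W.1 hy with rfl | rfl | rfl | rfl
      · simp
      · exact c.z_comm hg
      · exact hWc g hg
      · rw [← mul_assoc, hWc g hg, mul_assoc, c.z_comm hg, ← mul_assoc]
    obtain ⟨a, ha, b, hb, hab, hgen⟩ : ∃ a ∈ c.T, ∃ b ∈ c.T, Commute (b * a * b⁻¹) a ∧
        ∀ g ∈ c.T, ∃ i : ℤ, ∃ y ∈ hw.W, g = a ^ i * y ∨ g = a ^ i * b * y := by
      by_cases hq : ∃ q ∈ c.T, q ∉ hw.W ∧ c.u⁻¹ * q ∉ hw.W ∧ q * q ∈ hw.W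
      · obtain ⟨q, hq, hqW, hqu, hqq⟩ := hq
        have hz : q * q = c.z := hSq q hq (fun e => hqW (hinv q hq e)) (hw.sq_W hqq)
        have hq'z : c.al q * c.al q = c.z := by rw [← c.al_mul, hz, c.al_z]
        have hqi : q⁻¹ = q * c.z := inv_eq_of_mul_eq_one_right (by rw [← mul_assoc, hz, c.zz])
        refine ⟨q * c.al q, mul_mem hq (c.al_mem hq), q, hq, ?_, hw.generate hu hq hqW hqu hqq⟩
        have h1 : q * (q * c.al q) * q⁻¹ = c.al q * q := by
          rw [show q * (q * c.al q) * q⁻¹ = (q * q) * c.al q * q⁻¹ by group, hz, ← c.z_comm (c.al_mem hq), hqi,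
            show c.al q * c.z * (q * c.z) = c.al q * (c.z * q) * c.z by group, ← c.z_comm hq,
            show c.al q * (q * c.z) * c.z = c.al q * q * (c.z * c.z) by group, c.zz, mul_one]
        rw [h1]
        show c.al q * q * (q * c.al q) = q * c.al q * (c.al q * q)
        rw [show c.al q * q * (q * c.al q) = c.al q * (q * q) * c.al q by group,
          show q * c.al q * (c.al q * q) = q * (c.al q * c.al q) * q by group, hq'z, hz, c.z_comm (c.al_mem hq),
          mul_assoc c.z, hq'z, c.z_comm hq, mul_assoc c.z, hz]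
      · push Not at hq
        let π : c.T →* c.T ⧸ W' := QuotientGroup.mk' W'
        have hπ : ∀ x y : c.T, π x = π y → (x : H)⁻¹ * y ∈ hw.W := fun x y e => by
          have h := QuotientGroup.eq.1 (show (x : c.T ⧸ W') = (y : c.T ⧸ W') from e)
          exact h
        have hu1 : ∀ x : c.T ⧸ W', orderOf x = 2 → x = π ⟨c.u, c.u_mem⟩ := by
          intro x hx
          obtain ⟨⟨q, hqT⟩, rfl⟩ := QuotientGroup.mk'_surjective W' x
          have hqW : q ∉ hw.W := fun h => by
            rw [show π ⟨q, hqT⟩ = 1 from (QuotientGroup.eq_one_iff _).2 h, orderOf_one] at hx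
            omega
          have hqq : q * q ∈ hw.W := by
            have h := pow_orderOf_eq_one (π ⟨q, hqT⟩)
            rw [hx, pow_two, ← map_mul] at h
            have h2 := (QuotientGroup.eq_one_iff (N := W') _).1 h
            exact h2
          by_contra hne
          refine hq q hqT hqW (fun h => hne ?_) hqq
          exact (QuotientGroup.eq.2 (show (⟨c.u, c.u_mem⟩ : c.T)⁻¹ * ⟨q, hqT⟩ ∈ W' from h)).symm
        rcases Cfsg.Lib.UniqueSub.isCyclic_or_quaternion (c.isPGroup_T.to_quotient W') (p := 2)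
          (fun x y hx hy => by rw [hu1 x hx, hu1 y hy]; exact mem_zpowers _) with h | ⟨-, n, ⟨e⟩⟩
        · obtain ⟨x, hx⟩ := h.exists_zpow_surjective
          obtain ⟨⟨a, ha⟩, rfl⟩ := QuotientGroup.mk'_surjective W' x
          refine ⟨a, ha, 1, one_mem _, ?_, fun g hg => ?_⟩
          · rw [one_mul, inv_one, mul_one]
          · obtain ⟨i, hi⟩ := hx (π ⟨g, hg⟩)
            refine ⟨i, (a ^ i)⁻¹ * g, ?_, Or.inl (by rw [mul_inv_cancel_left])⟩
            exact hπ ((⟨a, ha⟩ : c.T) ^ i) ⟨g, hg⟩ ((map_zpow π _ i).trans hi)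
        · obtain ⟨⟨a, ha⟩, hae⟩ := QuotientGroup.mk'_surjective W' (e.symm (QuaternionGroup.a 1))
          obtain ⟨⟨b, hb⟩, hbe⟩ := QuotientGroup.mk'_surjective W' (e.symm (QuaternionGroup.xa 0))
          have hapow : ∀ i : ℤ, (QuaternionGroup.a 1 : QuaternionGroup (2 ^ n)) ^ i = QuaternionGroup.a (i : ZMod _) := by
            intro i
            induction i using Int.induction_on with
            | zero => rw [zpow_zero, Int.cast_zero, ← QuaternionGroup.one_def]
            | succ i ih =>
              rw [zpow_add_one, ih, QuaternionGroup.a_mul_a]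
              push_cast
              rfl
            | pred i ih =>
              rw [zpow_sub_one, ih]
              refine mul_inv_eq_of_eq_mul ?_
              rw [QuaternionGroup.a_mul_a]
              push_cast
              rw [sub_add_cancel]
          have hconj : (QuaternionGroup.xa 0 : QuaternionGroup (2 ^ n)) * QuaternionGroup.a 1 *
              (QuaternionGroup.xa 0)⁻¹ = (QuaternionGroup.a 1)⁻¹ := by
            rw [mul_inv_eq_iff_eq_mul, eq_inv_mul_iff_mul_eq, QuaternionGroup.xa_mul_a, QuaternionGroup.a_mul_xa,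
              zero_add, sub_self]
          have hba : (a⁻¹)⁻¹ * (b * a * b⁻¹) ∈ hw.W := by
            refine hπ ⟨a, ha⟩⁻¹ (⟨b, hb⟩ * ⟨a, ha⟩ * (⟨b, hb⟩ : c.T)⁻¹) (e.injective ?_)
            simp only [π, map_inv, map_mul, hae, hbe, MulEquiv.apply_symm_apply]
            exact hconj.symm
          refine ⟨a, ha, b, hb, ?_, fun g hg => ?_⟩
          · rw [inv_inv] at hba
            have h1 : b * a * b⁻¹ = a⁻¹ * (a * (b * a * b⁻¹)) := by group
            rw [h1]
            exact (Commute.refl a).inv_left.mul_left (hWcent _ hba a ha).symm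
          · set g' := e (π ⟨g, hg⟩) with hg'
            rcases hcase : g' with i | i
            · obtain ⟨i, rfl⟩ := ZMod.intCast_surjective i
              refine ⟨i, (a ^ i)⁻¹ * g, ?_, Or.inl (by rw [mul_inv_cancel_left])⟩
              refine hπ ((⟨a, ha⟩ : c.T) ^ i) ⟨g, hg⟩ (e.injective ?_)
              rw [← hg', hcase, ← hapow]
              simp only [π, map_zpow, hae, MulEquiv.apply_symm_apply]
            · obtain ⟨i, rfl⟩ := ZMod.intCast_surjective i
              refine ⟨-i, (a ^ (-i) * b)⁻¹ * g, ?_, Or.inr (by rw [mul_inv_cancel_left])⟩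
              refine hπ ((⟨a, ha⟩ : c.T) ^ (-i) * ⟨b, hb⟩) ⟨g, hg⟩ (e.injective ?_)
              rw [← hg', hcase]
              simp only [π, map_mul, map_zpow, hae, hbe, MulEquiv.apply_symm_apply, hapow,
                QuaternionGroup.a_mul_xa]
              push_cast
              rw [zero_sub, neg_neg]
    exact hw.finish_central hWc (fun n _ hn => hSq.fixes_z hn) hinv (hw.derived_le hWc ha hb hab hgen)
  · -- the four group is not central
    push Not at hWc
    obtain ⟨g₀, hg₀, hg₀w⟩ := hWc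
    have hg₀' : g₀ * w * g₀⁻¹ = w * c.z :=
      (hw.conj g₀ hg₀).resolve_left fun h => hg₀w (mul_inv_eq_iff_eq_mul.1 h)
    have hsq : ∀ g x : H, x * x = 1 → g * x * g⁻¹ * (g * x * g⁻¹) = 1 := fun g x hx => by
      rw [show g * x * g⁻¹ * (g * x * g⁻¹) = g * (x * x) * g⁻¹ by group, hx, mul_one, mul_inv_cancel]
    have hzA : ∀ g ∈ c.A, g * c.z = c.z * g := by
      refine c.central_of_isolated c.z_mem c.zz c.z_ne fun g hg hgT => ?_
      rcases hw.mem_W.1 (hinv _ hgT (hsq g _ c.zz)) with e | e | e | e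
      · exact absurd (conj_eq_one_iff.1 e) c.z_ne
      · exact e
      · exact absurd (c.cj_symm ⟨g, hg, e⟩) (hw.not_cj_z hu (Or.inl rfl))
      · exact absurd (c.cj_symm ⟨g, hg, e⟩) (hw.not_cj_z hu (Or.inr rfl))
    -- pass to the quotient by `⟨z⟩`
    set z' : c.A := ⟨c.z, c.z_mem.1⟩ with hz'
    set w' : c.A := ⟨w, hw.mem.1⟩ with hw'
    set Z : Subgroup c.A := zpowers z' with hZ
    have hmemZ : ∀ x : c.A, x ∈ Z → x = 1 ∨ (x : H) = c.z := by
      intro x hx
      rcases c.zpowers_z (x := (x : H)) (by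
        obtain ⟨i, rfl⟩ := hx
        exact ⟨i, by simp [hz']⟩) with h | h
      exacts [Or.inl (Subtype.ext h), Or.inr h]
    haveI : Z.Normal := ⟨fun x hx g => by
      rcases hmemZ x hx with h | h
      · rw [h, mul_one, mul_inv_cancel]; exact one_mem _
      · have : g * x * g⁻¹ = x := Subtype.ext (by
          push_cast
          rw [h, hzA _ g.2, mul_inv_cancel_right])
        rwa [this]⟩
    let π : c.A →* c.A ⧸ Z := QuotientGroup.mk' Z
    have hπW : ∀ x : c.A, ((x : H) = w ∨ (x : H) = w * c.z) → π x = π w' := by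
      intro x hx
      refine QuotientGroup.eq.2 ?_
      rcases hx with h | h
      · rw [show x = w' from Subtype.ext h, inv_mul_cancel]; exact one_mem _
      · have : x⁻¹ * w' = z' := Subtype.ext (by
          push_cast
          rw [h, mul_inv_rev, c.z_inv, hw.inv, mul_assoc, hw.sq, mul_one])
        rw [this]
        exact mem_zpowers _
    have hw2 : π w' * π w' = 1 := by
      rw [← map_mul, show w' * w' = 1 from Subtype.ext hw.sq, map_one]
    have hiso : Cfsg.IsIsolatedInvolution (π w') := by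
      refine ⟨orderOf_eq_prime (by rw [pow_two, hw2]) fun h => ?_, fun gq hcm => ?_⟩
      · rcases hmemZ w' ((QuotientGroup.eq_one_iff _).1 h) with e | e
        exacts [hw.ne_one (congrArg Subtype.val e), hw.ne_z e]
      · obtain ⟨g, rfl⟩ := QuotientGroup.mk'_surjective Z gq
        set s := g * w' * g⁻¹ with hs
        have hπs : π g * π w' * (π g)⁻¹ = π s := by rw [hs, map_mul, map_mul, map_inv]
        rw [show QuotientGroup.mk' Z g = π g from rfl, hπs] at hcm ⊢
        have hs2 : π s * π s = 1 := by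
          rw [← map_mul, show s * s = 1 by
            rw [hs, show g * w' * g⁻¹ * (g * w' * g⁻¹) = g * (w' * w') * g⁻¹ by group,
              show w' * w' = 1 from Subtype.ext hw.sq, mul_one, mul_inv_cancel], map_one]
        have hp : ∀ x : c.A ⧸ Z, x * x = 1 → IsPGroup 2 (zpowers x) := fun x hx => by
          have hd : orderOf x ∣ 2 ^ 1 := orderOf_dvd_of_pow_eq_one (by rw [pow_one, pow_two, hx])
          obtain ⟨j, -, hj⟩ := (Nat.dvd_prime_pow Nat.prime_two).1 hd
          exact IsPGroup.of_card (n := j) (by rw [Nat.card_zpowers, hj])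
        have hle : zpowers (π s) ≤ normalizer (zpowers (π w') : Set (c.A ⧸ Z)) := by
          refine le_trans (zpowers_le.2 ?_) (centralizer_le_normalizer _)
          rw [zpowers_eq_closure, centralizer_closure, mem_centralizer_singleton_iff]
          exact hcm.symm.eq
        have hD := ((hp _ hs2).to_sup_of_normal_right' (hp _ hw2) hle).comap_of_ker_isPGroup π (by
          rw [show π.ker = Z from QuotientGroup.ker_mk' Z]
          refine IsPGroup.of_card (n := 1) ?_
          rw [hZ, Nat.card_zpowers, pow_one]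
          exact orderOf_eq_prime (Subtype.ext (by show c.z ^ 2 = 1; rw [pow_two]; exact c.zz))
            fun e => c.z_ne (congrArg Subtype.val e))
        obtain ⟨Q, hQ⟩ := hD.exists_le_sylow
        obtain ⟨k, hkQ⟩ := MulAction.exists_smul_eq c.A Q c.TA
        have key : ∀ x : c.A, x * x = 1 → π x ∈ zpowers (π s) ⊔ zpowers (π w') →
            (∃ h : c.A, x = h * w' * h⁻¹) → π (k * x * k⁻¹) = π w' := by
          rintro x hxx hxD ⟨h, rfl⟩
          have hT : ((k * (h * w' * h⁻¹) * k⁻¹ : c.A) : H) ∈ c.T := by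
            rw [← c.mem_TA, ← hkQ]
            exact Subgroup.smul_mem_pointwise_smul _ (MulAut.conj k) _ (hQ hxD)
          refine hπW _ ?_
          have e : ((k * (h * w' * h⁻¹) * k⁻¹ : c.A) : H) = ((k * h : c.A) : H) * w * ((k * h : c.A) : H)⁻¹ := by
            push_cast [hw']
            group
          rw [e] at hT ⊢
          rcases hw.mem_W.1 (hinv _ hT (hsq _ w hw.sq)) with h' | h' | h' | h'
          · exact absurd (conj_eq_one_iff.1 h') hw.ne_one
          · exact absurd ⟨_, (k * h).2, h'⟩ (hw.not_cj_z hu (Or.inl rfl))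
          · exact Or.inl h'
          · exact Or.inr h'
        have h1 := key w' (Subtype.ext hw.sq) (mem_sup_right (mem_zpowers _)) ⟨1, by group⟩
        have h2 := key s (by
            rw [hs, show g * w' * g⁻¹ * (g * w' * g⁻¹) = g * (w' * w') * g⁻¹ by group,
              show w' * w' = 1 from Subtype.ext hw.sq, mul_one, mul_inv_cancel])
          (mem_sup_left (mem_zpowers _)) ⟨g, hs⟩
        rw [map_mul, map_mul, map_inv] at h1 h2
        exact mul_left_cancel (mul_right_cancel (h2.trans h1.symm))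
    have hcore : Cfsg.pPrimeCore 2 (c.A ⧸ Z) = ⊥ := by
      haveI : (Cfsg.pPrimeCore 2 (c.A ⧸ Z)).Characteristic := Cfsg.Lib.Components.pPrimeCore_characteristic
      set N := (Cfsg.pPrimeCore 2 (c.A ⧸ Z)).comap π with hN
      have hZN : Z ≤ N := fun x hx => by
        rw [hN, mem_comap]
        rw [show π x = 1 from (QuotientGroup.eq_one_iff x).2 hx]
        exact one_mem _
      have hNZ := c.le_zpowers_z hzA (N := N) inferInstance hZN (by
        show Odd (Z.relIndex N)
        have h : (Cfsg.pPrimeCore 2 (c.A ⧸ Z)) = N.map π :=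
          (map_comap_eq_self_of_surjective (QuotientGroup.mk'_surjective Z) _).symm
        rw [← QuotientGroup.ker_mk' Z, relIndex_ker, ← h]
        exact Nat.coprime_two_right.1 (Cfsg.Lib.Components.coprime_card_pPrimeCore 2))
      rw [eq_bot_iff]
      intro x hx
      obtain ⟨y, rfl⟩ := QuotientGroup.mk'_surjective Z x
      exact (QuotientGroup.eq_one_iff y).2 (hNZ hx)
    have hstar := Cfsg.Lib.Blocks.zstar (Nat.card (c.A ⧸ Z)) rfl hiso
    have hall : ∀ g ∈ c.A, g * w * g⁻¹ = w ∨ g * w * g⁻¹ = w * c.z := by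
      intro g hg
      have h := hstar (π ⟨g, hg⟩)
      rw [hcore, mem_bot, ← map_inv, ← map_inv, ← map_mul, ← map_mul, ← map_mul] at h
      rcases hmemZ _ ((QuotientGroup.eq_one_iff _).1 h) with e | e
      · left
        have e' : w * g * w⁻¹ * g⁻¹ = 1 := congrArg Subtype.val e
        rw [mul_inv_eq_one, mul_inv_eq_iff_eq_mul] at e'
        rw [← e', mul_inv_cancel_right]
      · right
        have e' : w * g * w⁻¹ * g⁻¹ = c.z := e
        rw [hw.inv, show w * g * w * g⁻¹ = w * (g * w * g⁻¹) by group] at e'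
        rw [eq_inv_mul_of_mul_eq e', hw.inv]
    let C : Subgroup c.A := (centralizer ({w} : Set H)).subgroupOf c.A
    have hC : ∀ b : c.A, b ∈ C ↔ (b : H) * w * (b : H)⁻¹ = w := fun b => by
      rw [mem_subgroupOf, mem_centralizer_singleton_iff, mul_inv_eq_iff_eq_mul]
    have hidx : C.index = 2 := by
      rw [index_eq_two_iff]
      refine ⟨⟨g₀, hg₀.1⟩, fun b => ?_⟩
      rw [hC, hC]
      show Xor ((b : H) * g₀ * w * ((b : H) * g₀)⁻¹ = w) ((b : H) * w * (b : H)⁻¹ = w)
      have e : (b : H) * g₀ * w * ((b : H) * g₀)⁻¹ = (b : H) * w * (b : H)⁻¹ * c.z := by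
        rw [show (b : H) * g₀ * w * ((b : H) * g₀)⁻¹ = (b : H) * (g₀ * w * g₀⁻¹) * (b : H)⁻¹ by group, hg₀',
          show (b : H) * (w * c.z) * (b : H)⁻¹ = ((b : H) * w * (b : H)⁻¹) * ((b : H) * c.z * (b : H)⁻¹) by group,
          hzA _ b.2, mul_inv_cancel_right]
      rw [e]
      have hne : w * c.z ≠ w := fun h => c.z_ne (mul_left_cancel (h.trans (mul_one w).symm))
      rcases hall _ b.2 with h | h <;> rw [h]
      · exact Or.inr ⟨rfl, hne⟩
      · exact Or.inl ⟨by rw [mul_assoc, c.zz, mul_one], hne⟩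
    haveI : C.Normal := normal_of_index_eq_two hidx
    haveI : IsCyclic (c.A ⧸ C) := isCyclic_of_prime_card (p := 2) (by rw [← index_eq_card]; exact hidx)
    letI : CommGroup (c.A ⧸ C) := IsCyclic.commGroup
    refine hg₀w (mul_inv_eq_iff_eq_mul.1 ((hC ⟨g₀, hg₀.1⟩).1 ?_))
    exact (QuotientGroup.eq_one_iff _).1 (c.hom_trivial (QuotientGroup.mk' C) ⟨g₀, hg₀.1⟩)

theorem Conf.IsW.comm_false (hw : c.IsW w) (hu : c.u * w = w * c.u) : False := by
  by_cases h : ∃ v ∈ c.T, v * v = 1 ∧ v ∉ hw.W
  · obtain ⟨v, hvT, hvv, hvW⟩ := h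
    exact hw.no_outside hu hvT hvv hvW
  · push Not at h
    exact hw.inside_false hu h

/-- `T` has no involution besides `z`. -/
theorem Conf.eq_z_of_inv (c : Conf H) {s : H} (hs : s ∈ c.T) (hss : s * s = 1) (hs1 : s ≠ 1) : s = c.z := by
  by_contra hsz
  obtain ⟨w, hw⟩ := c.exists_W ⟨s, hs, hss, hs1, hsz⟩
  by_cases hu : c.u * w = w * c.u
  · exact hw.comm_false hu
  · exact hw.small_false hu

end Cfsg.Lib.FourFixed
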