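/-
An involution acting on a perfect group whose centralizer has cyclic Sylow 2-subgroups of order
four: the group has 2-rank one.
-/
import Cfsg.Agent.Components.FourFixed.Inside

set_option autoImplicit false
set_option linter.style.haveILetI false
set_option linter.unusedSectionVars false

namespace Cfsg.Lib.FourFixed

open Subgroup

universe v

variable {G : Type v} [Group G] [Finite G]

theorem isPGroup_zpowers_of_sq {x : G} {n : ℕ} (h : x ^ 2 ^ n = 1) : IsPGroup 2 (zpowers x) := by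
  obtain ⟨j, -, hj⟩ := (Nat.dvd_prime_pow Nat.prime_two).1 (orderOf_dvd_of_pow_eq_one h)
  exact IsPGroup.of_card (n := j) (by rw [Nat.card_zpowers, hj])

theorem zpowers_le_normalizer_of_commute {x y : G} (h : x * y = y * x) :
    zpowers x ≤ normalizer (zpowers y : Set G) := by
  refine le_trans (zpowers_le.2 ?_) (centralizer_le_normalizer _)
  rw [zpowers_eq_closure, centralizer_closure, mem_centralizer_singleton_iff]
  exact h

/-- An element of order four together with a commuting 2-element. -/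
theorem mem_zpowers_of_small {A : Subgroup G} {t u x : G}
    (hD : ∀ D : Subgroup G, IsPGroup 2 D → D ≤ A → (∀ d ∈ D, t * d = d * t) → Nat.card D ≤ 4)
    (hu : orderOf u = 4) (hut : t * u = u * t) (huA : u ∈ A)
    {P : Subgroup G} (hP : IsPGroup 2 P) (huP : u ∈ P) (hxP : x ∈ P) (hxA : x ∈ A) (hxt : t * x = x * t) :
    x ∈ zpowers u := by
  set D := zpowers u ⊔ zpowers x with hDdef
  have h := hD D (hP.to_le (sup_le (zpowers_le.2 huP) (zpowers_le.2 hxP)))
    (sup_le (zpowers_le.2 huA) (zpowers_le.2 hxA)) (fun d hd => by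
      have hle : D ≤ centralizer ({t} : Set G) := sup_le
        (zpowers_le.2 (mem_centralizer_singleton_iff.2 hut.symm))
        (zpowers_le.2 (mem_centralizer_singleton_iff.2 hxt.symm))
      exact (mem_centralizer_singleton_iff.1 (hle hd)).symm)
  have he : zpowers u = D := eq_of_le_of_card_ge le_sup_left (by rw [Nat.card_zpowers, hu]; exact h)
  rw [he]
  exact mem_sup_right (mem_zpowers x)

theorem eq_sq_of_mem_zpowers {u x : G} (hu : orderOf u = 4) (hx : x ∈ zpowers u) (hxx : x * x = 1) (hx1 : x ≠ 1) :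
    x = u * u := by
  have hu4 : u * u * (u * u) = 1 := by
    have := pow_orderOf_eq_one u
    rwa [hu, show (4 : ℕ) = 2 + 2 by norm_num, pow_add, pow_two] at this
  exact congrArg Subtype.val (Cfsg.Lib.Misc.ExtremalTransfer.eq_of_sq
    (a := (⟨x, hx⟩ : zpowers u)) (b := ⟨u * u, mul_mem (mem_zpowers u) (mem_zpowers u)⟩)
    (Subtype.ext (by show x ^ 2 = 1; rw [pow_two]; exact hxx))
    (Subtype.ext (by show (u * u) ^ 2 = 1; rw [pow_two]; exact hu4))
    (fun e => hx1 (congrArg Subtype.val e)) fun e => by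
      have h1 : u ^ 2 = 1 := by rw [pow_two]; exact congrArg Subtype.val e
      have := Nat.le_of_dvd two_pos (orderOf_dvd_of_pow_eq_one h1)
      omega)

/-- The case in which the involution lies in the group. -/
theorem rank_one_of_mem (A : Subgroup G) {t u : G} (ht : t * t = 1) (ht1 : t ≠ 1) (htA : t ∈ A)
    (hD : ∀ D : Subgroup G, IsPGroup 2 D → D ≤ A → (∀ d ∈ D, t * d = d * t) → Nat.card D ≤ 4)
    (huA : u ∈ A) (hu : orderOf u = 4) (hut : t * u = u * t)
    {a b : G} (haA : a ∈ A) (hbA : b ∈ A) (ha : a * a = 1) (hb : b * b = 1) (ha1 : a ≠ 1) (hb1 : b ≠ 1)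
    (hne : a ≠ b) (hab : a * b = b * a) : False := by
  classical
  haveI : Fact (Nat.Prime 2) := ⟨Nat.prime_two⟩
  have hu4 : u ^ 2 ^ 2 = 1 := by rw [show (2 : ℕ) ^ 2 = 4 by norm_num, ← hu, pow_orderOf_eq_one]
  have hD0 : IsPGroup 2 ↥(zpowers t ⊔ zpowers u) := (isPGroup_zpowers_of_sq (n := 1) (by rw [pow_one, pow_two, ht])).to_sup_of_normal_right'
    (isPGroup_zpowers_of_sq hu4) (zpowers_le_normalizer_of_commute hut)
  have htu : t = u * u := eq_sq_of_mem_zpowers hu
    (mem_zpowers_of_small hD hu hut huA hD0 (mem_sup_right (mem_zpowers u)) (mem_sup_left (mem_zpowers t)) htA rfl)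
    ht ht1
  obtain ⟨P, hP⟩ := (hD0.comap_subtype (K := A)).exists_le_sylow
  set T : Subgroup G := (P : Subgroup A).map A.subtype with hT
  have hTp : IsPGroup 2 T := P.isPGroup'.map _
  have hTA : T ≤ A := map_subtype_le _
  have huT : u ∈ T := ⟨⟨u, huA⟩, hP (show u ∈ zpowers t ⊔ zpowers u from mem_sup_right (mem_zpowers u)), rfl⟩
  have htT : t ∈ T := ⟨⟨t, htA⟩, hP (show t ∈ zpowers t ⊔ zpowers u from mem_sup_left (mem_zpowers t)), rfl⟩
  obtain ⟨y, -, hyc, hyo⟩ := Cfsg.Lib.PGroups.exists_mem_center_of_normal_ne_bot hTp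
    (N := ⊤) (fun h => ht1 (by
      have : (⟨t, htT⟩ : T) ∈ (⊥ : Subgroup T) := h ▸ mem_top _
      exact congrArg Subtype.val (mem_bot.1 this)))
  have hcy : ∀ g ∈ T, g * (y : G) = y * g := fun g hg => congrArg Subtype.val (mem_center_iff.1 hyc ⟨g, hg⟩)
  have hyt : (y : G) = t := by
    rw [htu]
    refine eq_sq_of_mem_zpowers hu
      (mem_zpowers_of_small hD hu hut huA hTp huT y.2 (hTA y.2) (hcy t htT)) ?_ ?_
    · have h := pow_orderOf_eq_one y
      rw [hyo, pow_two] at h
      exact congrArg Subtype.val h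
    · intro h
      rw [show y = 1 from Subtype.ext h, orderOf_one] at hyo
      omega
  have hTu : ∀ g ∈ T, g ∈ zpowers u := fun g hg =>
    mem_zpowers_of_small hD hu hut huA hTp huT hg (hTA hg) (by rw [← hyt]; exact (hcy g hg).symm)
  -- the four group is conjugate into `T`
  have hB : IsPGroup 2 ↥(zpowers a ⊔ zpowers b) :=
    (isPGroup_zpowers_of_sq (n := 1) (by rw [pow_one, pow_two, ha])).to_sup_of_normal_right'
      (isPGroup_zpowers_of_sq (n := 1) (by rw [pow_one, pow_two, hb])) (zpowers_le_normalizer_of_commute hab)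
  obtain ⟨Q, hQ⟩ := (hB.comap_subtype (K := A)).exists_le_sylow
  obtain ⟨g, hg⟩ := MulAction.exists_smul_eq A Q P
  have key : ∀ x : G, ∀ hx : x ∈ A, x * x = 1 → x ≠ 1 → x ∈ zpowers a ⊔ zpowers b →
      (g : G) * x * (g : G)⁻¹ = t := by
    intro x hx hxx hx1 hxB
    rw [htu]
    refine eq_sq_of_mem_zpowers hu (hTu _ ⟨g * ⟨x, hx⟩ * g⁻¹, ?_, rfl⟩) ?_ (fun e => hx1 (conj_eq_one_iff.1 e))
    · rw [← hg]
      exact Subgroup.smul_mem_pointwise_smul _ (MulAut.conj g) _ (hQ hxB)
    · rw [show (g : G) * x * (g : G)⁻¹ * ((g : G) * x * (g : G)⁻¹) = (g : G) * (x * x) * (g : G)⁻¹ by group, hxx,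
        mul_one, mul_inv_cancel]
  exact hne (mul_left_cancel (mul_right_cancel ((key a haA ha ha1 (mem_sup_left (mem_zpowers a))).trans
    (key b hbA hb hb1 (mem_sup_right (mem_zpowers b))).symm)))

/-- The case in which the involution lies outside the group. -/
theorem rank_one_of_not_mem (A : Subgroup G) [A.Normal] (hperf : ⁅A, A⁆ = A) (hidx : A.index = 2)
    {t u : G} (ht : t * t = 1) (htA : t ∉ A)
    (hD : ∀ D : Subgroup G, IsPGroup 2 D → D ≤ A → (∀ d ∈ D, t * d = d * t) → Nat.card D ≤ 4)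
    (huA : u ∈ A) (hu : orderOf u = 4) (hut : t * u = u * t)
    {a b : G} (haA : a ∈ A) (hbA : b ∈ A) (ha : a * a = 1) (hb : b * b = 1) (ha1 : a ≠ 1) (hb1 : b ≠ 1)
    (hne : a ≠ b) (hab : a * b = b * a) : False := by
  classical
  haveI : Fact (Nat.Prime 2) := ⟨Nat.prime_two⟩
  haveI : (Cfsg.pPrimeCore 2 A).Characteristic := Cfsg.Lib.Components.pPrimeCore_characteristic
  set O : Subgroup G := (Cfsg.pPrimeCore 2 A).map A.subtype with hO
  haveI : O.Normal := inferInstance
  have hOA : O ≤ A := map_subtype_le _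
  have hOodd : Odd (Nat.card O) := by
    rw [hO, card_map_of_injective A.subtype_injective]
    exact Nat.coprime_two_right.1 (Cfsg.Lib.Components.coprime_card_pPrimeCore 2)
  have hO2 : ∀ x ∈ O, ∀ n : ℕ, x ^ 2 ^ n = 1 → x = 1 := by
    intro x hx n hn
    rw [← orderOf_eq_one_iff]
    have h1 : orderOf x ∣ Nat.card O := by
      have := orderOf_dvd_natCard (⟨x, hx⟩ : O)
      rwa [Subgroup.orderOf_mk] at this
    exact Nat.eq_one_of_dvd_coprimes (Nat.Coprime.pow_left n (Nat.coprime_two_left.2 hOodd))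
      (orderOf_dvd_of_pow_eq_one hn) h1
  let π : G →* G ⧸ O := QuotientGroup.mk' O
  have hπ1 : ∀ x, π x = 1 ↔ x ∈ O := fun x => QuotientGroup.eq_one_iff x
  have hsurj : Function.Surjective π := QuotientGroup.mk'_surjective O
  set Ab := A.map π with hAb
  haveI : Ab.Normal := Subgroup.Normal.map inferInstance π hsurj
  have hmemA : ∀ x, π x ∈ Ab → x ∈ A := by
    rintro x ⟨y, hy, e⟩
    have : y⁻¹ * x ∈ O := by rw [← hπ1, map_mul, map_inv, e, inv_mul_cancel]
    have h := mul_mem hy (hOA this)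
    rwa [mul_inv_cancel_left] at h
  have hu4 : u ^ 2 ^ 2 = 1 := by rw [show (2 : ℕ) ^ 2 = 4 by norm_num, ← hu, pow_orderOf_eq_one]
  have hu2 : u * u ≠ 1 := fun e => by
    have := Nat.le_of_dvd two_pos (orderOf_dvd_of_pow_eq_one (show u ^ 2 = 1 by rw [pow_two, e]))
    omega
  have hu2' : π (u * u) ≠ 1 := fun e => hu2 (hO2 _ ((hπ1 _).1 e) 1 (by
    rw [pow_one, pow_two, ← hu4, show (2 : ℕ) ^ 2 = 2 + 2 by norm_num, pow_add, pow_two]))
  -- centralizers lift
  have hsylC : ∀ D : Subgroup (G ⧸ O), IsPGroup 2 D → D ≤ Ab → (∀ d ∈ D, π t * d = d * π t) → Nat.card D ≤ 4 := by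
    intro D hDp hDA hDt
    set Dt := zpowers (π t) ⊔ D with hDt'
    have htp : IsPGroup 2 (zpowers (π t)) := isPGroup_zpowers_of_sq (n := 1)
      (by rw [pow_one, pow_two, ← map_mul, ht, map_one])
    have hDtp : IsPGroup 2 Dt := htp.to_sup_of_normal_right' hDp (by
      refine le_trans (zpowers_le.2 ?_) (centralizer_le_normalizer _)
      exact mem_centralizer_iff.2 fun d hd => (hDt d hd).symm)
    set L := Dt.comap π with hL
    have htL : t ∈ L := by rw [hL, mem_comap]; exact mem_sup_left (mem_zpowers _)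
    have hpt : IsPGroup 2 (zpowers (⟨t, htL⟩ : L)) :=
      isPGroup_zpowers_of_sq (n := 1) (by rw [pow_one, pow_two]; exact Subtype.ext ht)
    obtain ⟨Q, hQ⟩ := hpt.exists_le_sylow
    let f : L →* Dt := (π.comp L.subtype).codRestrict Dt fun x => x.2
    have hf : Function.Surjective f := fun d => by
      obtain ⟨x, hx⟩ := hsurj d
      exact ⟨⟨x, by rw [hL, mem_comap, hx]; exact d.2⟩, Subtype.ext hx⟩
    have htop : (Q : Subgroup L).map f = ⊤ := by
      rw [← Sylow.coe_mapSurjective hf Q]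
      exact ((Q.mapSurjective hf).3 (hDtp.of_equiv topEquiv.symm) le_top).symm
    let D₀ : Subgroup G := (Q : Subgroup L).map L.subtype ⊓ D.comap π
    have hD₀p : IsPGroup 2 D₀ := (Q.isPGroup'.map L.subtype).to_le inf_le_left
    have hD₀A : D₀ ≤ A := fun x hx => hmemA x (hDA hx.2)
    have hQp : ∀ x ∈ (Q : Subgroup L), ∃ n : ℕ, (x : G) ^ 2 ^ n = 1 := fun x hx => by
      obtain ⟨n, hn⟩ := IsPGroup.iff_orderOf.1 Q.isPGroup' ⟨x, hx⟩
      refine ⟨n, ?_⟩
      have h := pow_orderOf_eq_one (⟨x, hx⟩ : (Q : Subgroup L))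
      rw [hn] at h
      exact congrArg (fun y : (Q : Subgroup L) => ((y : L) : G)) h
    have hD₀t : ∀ d ∈ D₀, t * d = d * t := by
      rintro _ ⟨⟨⟨x, hxL⟩, hxQ, rfl⟩, hxD⟩
      show t * x = x * t
      have hmem : (⟨t, htL⟩ : L) * ⟨x, hxL⟩ * (⟨t, htL⟩ : L)⁻¹ * (⟨x, hxL⟩ : L)⁻¹ ∈ (Q : Subgroup L) :=
        mul_mem (mul_mem (mul_mem (hQ (mem_zpowers _)) hxQ) (inv_mem (hQ (mem_zpowers _)))) (inv_mem hxQ)
      obtain ⟨n, hn⟩ := hQp _ hmem
      have hO' : t * x * t⁻¹ * x⁻¹ ∈ O := by
        rw [← hπ1, map_mul, map_mul, map_mul, map_inv, map_inv, hDt _ (show π x ∈ D from hxD)]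
        group
      have := hO2 _ hO' n hn
      rwa [mul_inv_eq_one, mul_inv_eq_iff_eq_mul] at this
    refine le_trans ?_ (hD D₀ hD₀p hD₀A hD₀t)
    refine le_of_eq_of_le (congrArg (fun K : Subgroup (G ⧸ O) => Nat.card K) (?_ : D = D₀.map π)) ?_
    · refine le_antisymm (fun d hd => ?_) (by rintro _ ⟨x, hx, rfl⟩; exact hx.2)
      obtain ⟨x, hxQ, hx⟩ : (⟨d, mem_sup_right hd⟩ : Dt) ∈ (Q : Subgroup L).map f := htop ▸ mem_top _
      have hxd : π (x : G) = d := congrArg Subtype.val hx
      exact ⟨x, ⟨⟨x, hxQ, rfl⟩, show π (x : G) ∈ D by rw [hxd]; exact hd⟩, hxd⟩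
    · exact Nat.card_le_card_of_surjective (π.subgroupMap D₀) (π.subgroupMap_surjective D₀)
  -- the configuration
  have hut' : π t * π u = π u * π t := by rw [← map_mul, hut, map_mul]
  have hUt : IsPGroup 2 ↥(zpowers (π t) ⊔ zpowers (π u)) :=
    (isPGroup_zpowers_of_sq (n := 1) (by rw [pow_one, pow_two, ← map_mul, ht, map_one])).to_sup_of_normal_right'
      (isPGroup_zpowers_of_sq (n := 2) (by rw [← map_pow, hu4, map_one])) (zpowers_le_normalizer_of_commute hut')
  obtain ⟨S, hS⟩ := hUt.exists_le_sylow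
  have huo : orderOf (π u) = 4 := by
    refine orderOf_eq_prime_pow (p := 2) (n := 1) ?_ ?_
    · rw [pow_one, pow_two, ← map_mul]; exact hu2'
    · rw [← map_pow, hu4, map_one]
  have hidx' : Ab.index = 2 := by
    rw [hAb, index_map_eq _ hsurj (by rw [QuotientGroup.ker_mk']; exact hOA), hidx]
  let c : Conf (G ⧸ O) :=
    { A := Ab
      nA := inferInstance
      perf := by rw [hAb, ← map_commutator, hperf]
      idx := hidx'
      core := fun N hN hNA hNodd => by
        haveI := hN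
        set N₀ := N.comap π with hN₀
        have hN₀A : N₀ ≤ A := fun x hx => hmemA x (hNA hx)
        haveI : (N₀.subgroupOf A).Normal := inferInstance
        have hle : N₀.subgroupOf A ≤ Cfsg.pPrimeCore 2 A := Cfsg.Lib.Components.le_pPrimeCore (by
          rw [Nat.card_congr (subgroupOfEquivOfLe hN₀A).toEquiv, Nat.coprime_two_right, hN₀]
          have h := card_mul_index (N.comap π)
          rw [index_comap_of_surjective _ hsurj] at h
          have h' : Nat.card G = Nat.card (G ⧸ O) * Nat.card O := card_eq_card_quotient_mul_card_subgroup O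
          rw [← card_mul_index N, mul_right_comm, mul_comm (Nat.card N)] at h'
          rw [mul_comm _ N.index, mul_comm N.index] at h
          have heq : Nat.card ↥(N.comap π) = Nat.card O * Nat.card N :=
            Nat.eq_of_mul_eq_mul_right (Nat.pos_of_ne_zero index_ne_zero_of_finite) (by
              rw [h, h'])
          rw [heq]
          exact hOodd.mul hNodd)
        rw [eq_bot_iff]
        intro x hx
        obtain ⟨y, rfl⟩ := hsurj x
        refine mem_bot.2 ((hπ1 y).2 ?_)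
        exact ⟨⟨y, hN₀A hx⟩, hle hx, rfl⟩
      S := S
      t := π t
      tS := hS (mem_sup_left (mem_zpowers _))
      tA := fun h => htA (hmemA t h)
      tt := by rw [← map_mul, ht, map_one]
      u := π u
      uA := mem_map_of_mem π huA
      uS := hS (mem_sup_right (mem_zpowers _))
      u2 := by rw [← map_mul]; exact hu2'
      u4 := by rw [← map_mul, ← map_mul, show u * u * (u * u) = u ^ 2 ^ 2 by rw [show (2 : ℕ) ^ 2 = 2 + 2 by norm_num, pow_add, pow_two], hu4, map_one]
      ut := hut'.symm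
      fix := fun x hxA hxS hxt => by
        obtain ⟨i, rfl⟩ := mem_zpowers_of_small hsylC huo hut' (mem_map_of_mem π huA) S.isPGroup'
          (hS (mem_sup_right (mem_zpowers _))) hxS hxA hxt
        simp only
        rw [← zpow_mod_orderOf, huo]
        have h1 := Int.emod_nonneg i (show ((4 : ℕ) : ℤ) ≠ 0 by norm_num)
        have h2 := Int.emod_lt_of_pos i (show (0 : ℤ) < ((4 : ℕ) : ℤ) by norm_num)
        set k := i % ((4 : ℕ) : ℤ) with hk
        rcases (by omega : k = 0 ∨ k = 1 ∨ k = 2 ∨ k = 3) with e | e | e | e <;> rw [e]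
        · left; rw [zpow_zero]
        · right; left; rw [zpow_one]
        · right; right; left; rw [zpow_two]
        · right; right; right
          rw [show (3 : ℤ) = 2 + 1 by norm_num, zpow_add, zpow_two, zpow_one]
      sylC := hsylC }
  -- the four group
  have hne' : ∀ x, x * x = 1 → x ≠ 1 → π x ≠ 1 := fun x hxx hx1 e =>
    hx1 (hO2 x ((hπ1 x).1 e) 1 (by rw [pow_one, pow_two, hxx]))
  have hab' : π a * π b = π b * π a := by rw [← map_mul, hab, map_mul]
  have hne'' : π a ≠ π b := fun e => hne' (a * b) (by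
      rw [show a * b * (a * b) = a * (b * a) * b by group, ← hab, show a * (a * b) * b = (a * a) * (b * b) by group,
        ha, hb, one_mul])
    (fun e' => hne (by rw [eq_inv_of_mul_eq_one_left e', inv_eq_of_mul_eq_one_right hb]))
    (by rw [map_mul, e, ← map_mul, hb, map_one])
  have hB : IsPGroup 2 ↥(zpowers (π a) ⊔ zpowers (π b)) :=
    (isPGroup_zpowers_of_sq (n := 1) (by rw [pow_one, pow_two, ← map_mul, ha, map_one])).to_sup_of_normal_right'
      (isPGroup_zpowers_of_sq (n := 1) (by rw [pow_one, pow_two, ← map_mul, hb, map_one]))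
      (zpowers_le_normalizer_of_commute hab')
  obtain ⟨Q, hQ⟩ := hB.exists_le_sylow
  obtain ⟨g, hg⟩ := MulAction.exists_smul_eq (G ⧸ O) Q S
  have key : ∀ x, x ∈ A → x * x = 1 → x ≠ 1 → π x ∈ zpowers (π a) ⊔ zpowers (π b) → g * π x * g⁻¹ = c.z := by
    intro x hx hxx hx1 hxB
    refine c.eq_z_of_inv ⟨(inferInstance : Ab.Normal).conj_mem _ (mem_map_of_mem π hx) g, ?_⟩ ?_
      (fun e => hne' x hxx hx1 (conj_eq_one_iff.1 e))
    · show g * π x * g⁻¹ ∈ (S : Subgroup (G ⧸ O))
      rw [← hg]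
      exact Subgroup.smul_mem_pointwise_smul _ (MulAut.conj g) _ (hQ hxB)
    · rw [show g * π x * g⁻¹ * (g * π x * g⁻¹) = g * (π x * π x) * g⁻¹ by group, ← map_mul, hxx, map_one, mul_one,
        mul_inv_cancel]
  exact hne'' (mul_left_cancel (mul_right_cancel ((key a haA ha ha1 (mem_sup_left (mem_zpowers _))).trans
    (key b hbA hb hb1 (mem_sup_right (mem_zpowers _))).symm)))

end Cfsg.Lib.FourFixed
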